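import Mathlib
import Cfsg.Prelude.Def_Local
import Cfsg.Agent.Lib.Helper4.Hall

set_option autoImplicit false

namespace Cfsg.Agent.Lib.Helper7

open Cfsg Cfsg.Agent.Lib.Helper4

section basics

variable {G : Type*} [Group G]

/-- a divisor of a number that is a `p`-power or prime to `p` is again such -/
lemma ppow_or_coprime_of_dvd {p a b : ℕ} (hp : p.Prime) (hab : a ∣ b)
    (hb : (∃ m : ℕ, b = p ^ m) ∨ b.Coprime p) : (∃ m : ℕ, a = p ^ m) ∨ a.Coprime p := by
  rcases hb with ⟨m, rfl⟩ | hb
  · left
    obtain ⟨k, _, rfl⟩ := (Nat.dvd_prime_pow hp).mp hab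
    exact ⟨k, rfl⟩
  · right
    exact Nat.Coprime.coprime_dvd_left hab hb

theorem isPSolvable_quotient {p : ℕ} (hp : p.Prime) (h : IsPSolvable p G) (M : Subgroup G)
    [M.Normal] : IsPSolvable p (G ⧸ M) := by
  obtain ⟨n, H, h0, hlast, hmono, hnorm, hstep⟩ := h
  refine ⟨n, fun i => (H i).map (QuotientGroup.mk' M), ?_, ?_, ?_, ?_, ?_⟩
  · show (H 0).map (QuotientGroup.mk' M) = ⊥
    rw [h0, Subgroup.map_bot]
  · show (H (Fin.last n)).map (QuotientGroup.mk' M) = ⊤
    rw [hlast]
    exact Subgroup.map_top_of_surjective _ (QuotientGroup.mk'_surjective M)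
  · intro i j hij
    exact Subgroup.map_mono (hmono hij)
  · intro i
    exact Subgroup.Normal.map (hnorm i) _ (QuotientGroup.mk'_surjective M)
  · intro i
    apply ppow_or_coprime_of_dvd hp _ (hstep i)
    show ((H i.castSucc).map (QuotientGroup.mk' M)).relIndex ((H i.succ).map (QuotientGroup.mk' M)) ∣ _
    rw [Subgroup.relIndex_map_map, QuotientGroup.ker_mk']
    haveI := hnorm i.castSucc
    have hle : H i.castSucc ≤ H i.succ := hmono (Fin.castSucc_lt_succ).le
    have e : H i.succ ⊔ M = H i.succ ⊔ (H i.castSucc ⊔ M) := by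
      rw [← sup_assoc, sup_eq_left.mpr hle]
    rw [e, Subgroup.relIndex_sup_right]
    exact Subgroup.relIndex_dvd_of_le_left _ le_sup_left

theorem isPSolvable_subgroup {p : ℕ} (hp : p.Prime) (h : IsPSolvable p G) (L : Subgroup G) :
    IsPSolvable p L := by
  obtain ⟨n, H, h0, hlast, hmono, hnorm, hstep⟩ := h
  refine ⟨n, fun i => (H i).subgroupOf L, ?_, ?_, ?_, ?_, ?_⟩
  · show (H 0).subgroupOf L = ⊥
    rw [h0, Subgroup.bot_subgroupOf]
  · show (H (Fin.last n)).subgroupOf L = ⊤
    rw [hlast, Subgroup.top_subgroupOf]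
  · intro i j hij
    exact Subgroup.comap_mono (hmono hij)
  · intro i
    haveI := hnorm i
    infer_instance
  · intro i
    apply ppow_or_coprime_of_dvd hp _ (hstep i)
    show ((H i.castSucc).comap L.subtype).relIndex ((H i.succ).subgroupOf L) ∣ _
    rw [Subgroup.relIndex_comap, Subgroup.subgroupOf_map_subtype]
    haveI := hnorm i.castSucc
    have hle : H i.castSucc ≤ H i.succ := hmono (Fin.castSucc_lt_succ).le
    have h1 : (H i.castSucc).relIndex ((H i.succ ⊓ L) ⊔ H i.castSucc)
        = (H i.castSucc).relIndex (H i.succ ⊓ L) := Subgroup.relIndex_sup_right _ _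
    have h2 := Subgroup.relIndex_mul_relIndex (H i.castSucc) ((H i.succ ⊓ L) ⊔ H i.castSucc)
      (H i.succ) le_sup_right (sup_le inf_le_left hle)
    rw [← h1, ← h2]
    exact dvd_mul_right _ _

theorem exists_normal_of_isPSolvable {p : ℕ} (h : IsPSolvable p G) [Nontrivial G] :
    ∃ M : Subgroup G, M.Normal ∧ M ≠ ⊥ ∧
      ((∃ m : ℕ, Nat.card M = p ^ m) ∨ (Nat.card M).Coprime p) := by
  obtain ⟨n, H, h0, hlast, hmono, hnorm, hstep⟩ := h
  by_contra hcon
  have hall : ∀ i : Fin (n + 1), H i = ⊥ := by
    intro i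
    induction i using Fin.induction with
    | zero => exact h0
    | succ i ih =>
      by_contra hne
      have := hstep i
      rw [ih, Subgroup.relIndex_bot_left] at this
      exact hcon ⟨H i.succ, hnorm _, hne, this⟩
  have := hall (Fin.last n)
  rw [hlast] at this
  exact top_ne_bot this

end basics

universe u

/-- Hall-type property for `p`-complements. -/
def PHallProp (p : ℕ) (G : Type u) [Group G] : Prop :=
  ∀ m k : ℕ, Nat.card G = m * p ^ k → m.Coprime p →
    (∃ H : Subgroup G, Nat.card H = m) ∧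
    (∀ H K : Subgroup G, Nat.card H = m → Nat.card K = m → ∃ g : G, cj g H = K) ∧
    (∀ K : Subgroup G, (Nat.card K).Coprime p → ∃ H : Subgroup G, Nat.card H = m ∧ K ≤ H)

theorem phall_all (p : ℕ) (hp : p.Prime) : ∀ (N : ℕ) (G : Type u) [Group G] [Finite G],
    IsPSolvable p G → Nat.card G = N → PHallProp p G := by
  intro N
  induction N using Nat.strong_induction_on with
  | _ N ih =>
  intro G _ _ hPS hN m k hmn hcop0
  classical
  have hcop : m.Coprime (p ^ k) := Nat.Coprime.pow_right k hcop0
  by_cases h1 : Nat.card G = 1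
  · have hm : m = 1 := by
      rw [h1] at hmn
      exact Nat.eq_one_of_mul_eq_one_right hmn.symm
    have hsub : Subsingleton G := (Nat.card_eq_one_iff_unique.1 h1).1
    refine ⟨⟨⊥, by rw [Subgroup.card_bot, hm]⟩, ?_, ?_⟩
    · intro H K _ _
      exact ⟨1, Subsingleton.elim _ _⟩
    · intro K _
      exact ⟨⊤, by rw [Subgroup.card_top, h1, hm], le_top⟩
  have hnt : Nontrivial G := by
    rw [← Finite.one_lt_card_iff_nontrivial]
    have : Nat.card G ≠ 0 := Nat.card_pos.ne'
    omega
  obtain ⟨M, hMn, hMne, hMcase⟩ := exists_normal_of_isPSolvable hPS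
  have ihQ : PHallProp p (G ⧸ M) :=
    ih _ (by rw [← hN]; exact card_quot_lt M hMne) (G ⧸ M) (isPSolvable_quotient hp hPS M) rfl
  have ihL : ∀ L : Subgroup G, L ≠ ⊤ → PHallProp p L := fun L hL =>
    ih _ (by rw [← hN]; exact card_lt_of_ne_top L hL) L (isPSolvable_subgroup hp hPS L) rfl
  have hMnorm : ∀ L : Subgroup G, L ≤ Subgroup.normalizer (M : Set G) := by
    intro L
    rw [Subgroup.normalizer_eq_top_iff.2 hMn]; exact le_top
  rcases hMcase with ⟨a, ha⟩ | hMcop
  swap
  · -- Case A: |M| prime to p, so |M| divides m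
    obtain ⟨c, ha⟩ : ∃ c : ℕ, Nat.card M = c := ⟨_, rfl⟩
    have hppos : 0 < c := by rw [← ha]; exact Nat.card_pos
    have hdvd : c ∣ m * p ^ k := by
      rw [← hmn, ← ha]; exact Subgroup.card_subgroup_dvd_card M
    have hcc : c.Coprime (p ^ k) := by rw [← ha]; exact Nat.Coprime.pow_right k hMcop
    have hpm : c ∣ m := hcc.dvd_of_dvd_mul_right hdvd
    have hcardQM : Nat.card (G ⧸ M) * c = m * p ^ k := by
      rw [← ha, ← Subgroup.index_eq_card, Subgroup.index_mul_card, hmn]
    obtain ⟨m', hm'⟩ := hpm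
    have hcardQ : Nat.card (G ⧸ M) = m' * p ^ k := by
      apply Nat.eq_of_mul_eq_mul_right hppos
      rw [hcardQM, hm']; ring
    have hcopQ : m'.Coprime p := Nat.Coprime.coprime_dvd_left ⟨c, by rw [hm']; ring⟩ hcop0
    obtain ⟨hE, hC, hD⟩ := ihQ m' k hcardQ hcopQ
    have hF1 : ∀ H : Subgroup G, Nat.card H = m → M ≤ H := by
      intro H hH
      have h2 := card_sup_mul_inf_normal M H
      have h3 : Nat.card (H ⊓ M : Subgroup G) ∣ c := by
        rw [← ha]; exact Subgroup.card_dvd_of_le inf_le_right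
      obtain ⟨e, he⟩ := h3
      have hdpos : 0 < Nat.card (H ⊓ M : Subgroup G) := Nat.card_pos
      have h4 : Nat.card (H ⊔ M : Subgroup G) = m * e := by
        apply Nat.eq_of_mul_eq_mul_right hdpos
        rw [h2, hH, ha, he]; ring
      have h5 : m * e ∣ m * p ^ k := by
        rw [← h4, ← hmn]; exact Subgroup.card_subgroup_dvd_card _
      have hmpos : 0 < m := by
        rcases Nat.eq_zero_or_pos m with h0 | h0
        · rw [h0, zero_mul] at hmn
          exact absurd hmn Nat.card_pos.ne'
        · exact h0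
      have h6 : e ∣ p ^ k := (Nat.mul_dvd_mul_iff_left hmpos).1 h5
      have h7 : e ∣ m := ⟨Nat.card (H ⊓ M : Subgroup G) * m', by rw [hm', he]; ring⟩
      have h8 : e = 1 := Nat.eq_one_of_dvd_coprimes hcop h7 h6
      have h9 : Nat.card (H ⊓ M : Subgroup G) = Nat.card M := by
        rw [ha, he, h8, mul_one]
      have h10 : H ⊓ M = M := Subgroup.eq_of_le_of_card_ge inf_le_right (le_of_eq h9.symm)
      rw [← h10]; exact inf_le_left
    refine ⟨?_, ?_, ?_⟩
    · obtain ⟨Hbar, hHbar⟩ := hE
      refine ⟨Hbar.comap (QuotientGroup.mk' M), ?_⟩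
      rw [card_comap_mk_quot, hHbar, ha, hm']; ring
    · intro H K hH hK
      have hMH := hF1 H hH
      have hMK := hF1 K hK
      have hcardbar : ∀ X : Subgroup G, Nat.card X = m → M ≤ X →
          Nat.card (X.map (QuotientGroup.mk' M)) = m' := by
        intro X hX hMX
        have h2 := card_sup_normal_eq M X
        rw [sup_eq_left.2 hMX, hX, ha, hm'] at h2
        apply Nat.eq_of_mul_eq_mul_right hppos
        rw [← h2]; ring
      obtain ⟨x, hx⟩ := hC _ _ (hcardbar H hH hMH) (hcardbar K hK hMK)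
      obtain ⟨g, hg⟩ := cj_sup_of_map_cj M H K x hx
      refine ⟨g, ?_⟩
      have h2 : M ≤ cj g H := by
        have := cj_mono g hMH
        rwa [cj_self_of_normal M g] at this
      rw [sup_eq_left.2 h2, sup_eq_left.2 hMK] at hg
      exact hg
    · intro K hK
      have h2 : (Nat.card (K.map (QuotientGroup.mk' M))).Coprime p :=
        Nat.Coprime.coprime_dvd_left (Subgroup.card_map_dvd _ _) hK
      obtain ⟨Hbar, hHbar, hKH⟩ := hD _ h2
      refine ⟨Hbar.comap (QuotientGroup.mk' M), ?_, ?_⟩
      · rw [card_comap_mk_quot, hHbar, ha, hm']; ring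
      · exact (Subgroup.le_comap_map _ K).trans (Subgroup.comap_mono hKH)
  · -- Case B: M is a p-group
    have hppos : 0 < p ^ a := pow_pos hp.pos a
    have hdvd : p ^ a ∣ m * p ^ k := by
      rw [← hmn, ← ha]; exact Subgroup.card_subgroup_dvd_card M
    have hcopmp : m.Coprime (p ^ a) := Nat.Coprime.pow_right a hcop0
    have hpk : p ^ a ∣ p ^ k := hcopmp.symm.dvd_of_dvd_mul_left hdvd
    have hak : a ≤ k := (Nat.pow_dvd_pow_iff_le_right hp.one_lt).1 hpk
    have hn' : p ^ k = p ^ a * p ^ (k - a) := by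
      rw [← pow_add]; congr 1; omega
    have hcardQM : Nat.card (G ⧸ M) * p ^ a = m * p ^ k := by
      rw [← ha, ← Subgroup.index_eq_card, Subgroup.index_mul_card, hmn]
    have hcardQ : Nat.card (G ⧸ M) = m * p ^ (k - a) := by
      apply Nat.eq_of_mul_eq_mul_right hppos
      rw [hcardQM, hn']; ring
    have hMsolv : Group.IsSolvable M := by
      haveI : Fact p.Prime := ⟨hp⟩
      have hMp : IsPGroup p M := IsPGroup.of_card ha
      have : Group.IsNilpotent M := hMp.isNilpotent
      infer_instance
    obtain ⟨hE, hC, hD⟩ := ihQ m (k - a) hcardQ hcop0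
    -- existence
    have hexists : ∃ H : Subgroup G, Nat.card H = m := by
      obtain ⟨Lbar, hLbar⟩ := hE
      set L : Subgroup G := Lbar.comap (QuotientGroup.mk' M) with hL
      have hcardL : Nat.card L = m * p ^ a := by rw [hL, card_comap_mk_quot, hLbar, ha]
      by_cases hLtop : L = ⊤
      · have hcG : Nat.card G = m * p ^ a := by
          rw [← hcardL, hLtop, Subgroup.card_top]
        have hidx : M.index = m := by
          have := Subgroup.index_mul_card M
          rw [ha, hcG] at this
          exact Nat.eq_of_mul_eq_mul_right hppos this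
        have hcopM : (Nat.card M).Coprime M.index := by
          rw [ha, hidx]; exact hcopmp.symm
        obtain ⟨H, hH⟩ := Subgroup.exists_right_complement'_of_coprime hcopM
        exact ⟨H, by rw [← hH.symm.index_eq_card, hidx]⟩
      · obtain ⟨hE', -, -⟩ := ihL L hLtop m a hcardL hcop0
        obtain ⟨H', hH'⟩ := hE'
        exact ⟨H'.map L.subtype, by rw [Subgroup.card_map_of_injective L.subtype_injective, hH']⟩
    have hdisj : ∀ X : Subgroup G, (Nat.card X).Coprime (p ^ a) → X ⊓ M = ⊥ := by
      intro X hX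
      exact (Subgroup.disjoint_of_coprime_natCard (by rw [ha]; exact hX)).eq_bot
    have hcardsup : ∀ X : Subgroup G, (Nat.card X).Coprime (p ^ a) →
        Nat.card (X ⊔ M : Subgroup G) = Nat.card X * p ^ a := by
      intro X hX
      have h2 := card_sup_mul_inf_normal M X
      rw [hdisj X hX, Subgroup.card_bot, mul_one, ha] at h2
      exact h2
    have hcardbar : ∀ X : Subgroup G, (Nat.card X).Coprime (p ^ a) →
        Nat.card (X.map (QuotientGroup.mk' M)) = Nat.card X := by
      intro X hX
      have h2 := card_sup_normal_eq M X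
      rw [hcardsup X hX, ha] at h2
      exact (Nat.eq_of_mul_eq_mul_right hppos h2).symm
    refine ⟨hexists, ?_, ?_⟩
    · intro H K hH hK
      have hHc : (Nat.card H).Coprime (p ^ a) := by rw [hH]; exact hcopmp
      have hKc : (Nat.card K).Coprime (p ^ a) := by rw [hK]; exact hcopmp
      obtain ⟨x, hx⟩ := hC _ _ ((hcardbar H hHc).trans hH) ((hcardbar K hKc).trans hK)
      obtain ⟨g, hg⟩ := cj_sup_of_map_cj M H K x hx
      set L : Subgroup G := K ⊔ M with hL
      have hcardL : Nat.card L = m * p ^ a := by rw [hL, hcardsup K hKc, hK]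
      have hH₁L : cj g H ≤ L := by rw [← hg]; exact le_sup_left
      have hcardH₁ : Nat.card (cj g H) = m := by rw [card_cj', hH]
      obtain ⟨l, -, hl⟩ := sz_conj_sub L M (cj g H) K le_sup_right (hMnorm L) hH₁L le_sup_left
        (by rw [ha, hcardH₁, hcardL]; ring) (by rw [ha, hK, hcardL]; ring)
        (by rw [ha, hcardH₁]; exact hcopmp.symm) (Or.inl hMsolv)
      exact ⟨l * g, by rw [cj_mul]; exact hl⟩
    · intro K hK
      have hKc : (Nat.card K).Coprime (p ^ a) := Nat.Coprime.pow_right a hK
      have h2 : (Nat.card (K.map (QuotientGroup.mk' M))).Coprime p :=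
        Nat.Coprime.coprime_dvd_left (Subgroup.card_map_dvd _ _) hK
      obtain ⟨Lbar, hLbar, hKL⟩ := hD _ h2
      set L : Subgroup G := Lbar.comap (QuotientGroup.mk' M) with hL
      have hcardL : Nat.card L = m * p ^ a := by rw [hL, card_comap_mk_quot, hLbar, ha]
      have hKL' : K ≤ L := (Subgroup.le_comap_map _ K).trans (Subgroup.comap_mono hKL)
      by_cases hLtop : L = ⊤
      · -- M is a normal Hall subgroup with complement H
        obtain ⟨H, hH⟩ := hexists
        have hHc : (Nat.card H).Coprime (p ^ a) := by rw [hH]; exact hcopmp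
        have hcG : Nat.card G = m * p ^ a := by
          rw [← hcardL, hLtop, Subgroup.card_top]
        have hMH : Subgroup.IsComplement' M H := by
          apply Subgroup.isComplement'_of_coprime
          · rw [ha, hH, hcG]; ring
          · rw [ha, hH]; exact hcopmp.symm
        set Γ : Subgroup G := K ⊔ M with hΓ
        have hcardΓ : Nat.card Γ = Nat.card K * p ^ a := hcardsup K hKc
        have hcompl := isComplement'_subgroupOf M H Γ hMH (Or.inl le_sup_right)
        have hcard2 := hcompl.card_mul_card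
        have hcM : Nat.card (M.subgroupOf Γ) = Nat.card M := card_subgroupOf_of_le le_sup_right
        have hcH : Nat.card (H.subgroupOf Γ) = Nat.card (H ⊓ Γ : Subgroup G) := by
          rw [← Subgroup.subgroupOf_map_subtype, Subgroup.card_map_of_injective Γ.subtype_injective]
        rw [hcM, hcH] at hcard2
        obtain ⟨x, -, hx⟩ := sz_conj_sub Γ M K (H ⊓ Γ) le_sup_right (hMnorm Γ) le_sup_left
          inf_le_right (by rw [ha, hcardΓ]; ring) hcard2 (by rw [ha]; exact hKc.symm)
          (Or.inl hMsolv)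
        refine ⟨cj x⁻¹ H, by rw [card_cj', hH], ?_⟩
        have h3 : cj x K ≤ H := by rw [hx]; exact inf_le_left
        have h4 := cj_mono x⁻¹ h3
        rwa [cj_inv_cj'] at h4
      · obtain ⟨-, -, hD'⟩ := ihL L hLtop m a hcardL hcop0
        have hK' : (Nat.card (K.subgroupOf L)).Coprime p := by
          rw [card_subgroupOf_of_le hKL']; exact hK
        obtain ⟨H', hH', hKH'⟩ := hD' (K.subgroupOf L) hK'
        refine ⟨H'.map L.subtype, by rw [Subgroup.card_map_of_injective L.subtype_injective, hH'], ?_⟩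
        intro k hk
        exact ⟨⟨k, hKL' hk⟩, hKH' (Subgroup.mem_subgroupOf.2 hk), rfl⟩

end Cfsg.Agent.Lib.Helper7
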