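import Mathlib

set_option autoImplicit false

namespace Cfsg.Agent.Lib.Helper7

open scoped Pointwise

theorem mem_map_conj {G : Type*} [Group G] (A : Subgroup G) (g x : G) :
    x ∈ A.map (MulAut.conj g).toMonoidHom ↔ g⁻¹ * x * g ∈ A := by
  constructor
  · rintro ⟨a, ha, rfl⟩
    simpa [MulAut.conj_apply, mul_assoc] using ha
  · intro h
    refine ⟨g⁻¹ * x * g, h, ?_⟩
    simp [MulAut.conj_apply, mul_assoc]

theorem conj_mem_map_conj {G : Type*} [Group G] (A : Subgroup G) (g x : G) :
    g * x * g⁻¹ ∈ A.map (MulAut.conj g).toMonoidHom ↔ x ∈ A := by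
  rw [mem_map_conj]
  simp [mul_assoc]

theorem map_conj_mul {G : Type*} [Group G] (A : Subgroup G) (a b : G) :
    A.map (MulAut.conj (a * b)).toMonoidHom
      = (A.map (MulAut.conj b).toMonoidHom).map (MulAut.conj a).toMonoidHom := by
  ext x
  simp only [mem_map_conj]
  simp [mul_assoc]

theorem map_conj_one {G : Type*} [Group G] (A : Subgroup G) :
    A.map (MulAut.conj (1 : G)).toMonoidHom = A := by
  ext x
  simp [mem_map_conj]

theorem map_conj_eq_self_iff {G : Type*} [Group G] (A : Subgroup G) (g : G) :
    A.map (MulAut.conj g).toMonoidHom = A ↔ g ∈ Subgroup.normalizer (A : Set G) := by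
  rw [Subgroup.mem_normalizer_iff]
  constructor
  · intro h x
    constructor
    · intro hx
      rw [← h, mem_map_conj]
      simpa [mul_assoc] using hx
    · intro hx
      rw [← h, mem_map_conj] at hx
      simpa [mul_assoc] using hx
  · intro h
    ext x
    rw [mem_map_conj]
    have := h (g⁻¹ * x * g)
    rw [this]
    simp [mul_assoc]

theorem map_conj_eq_smul {G : Type*} [Group G] (A : Subgroup G) (g : G) :
    A.map (MulAut.conj g).toMonoidHom = MulAut.conj g • A := rfl

theorem mem_conj_smul {G : Type*} [Group G] (A : Subgroup G) (g x : G) :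
    x ∈ MulAut.conj g • A ↔ g⁻¹ * x * g ∈ A := by
  rw [← map_conj_eq_smul, mem_map_conj]

theorem card_map_conj {G : Type*} [Group G] (A : Subgroup G) (g : G) :
    Nat.card (A.map (MulAut.conj g).toMonoidHom) = Nat.card A := by
  exact Nat.card_congr (A.equivMapOfInjective _ (MulAut.conj g).injective).symm.toEquiv

end Cfsg.Agent.Lib.Helper7
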