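import Mathlib
import Cfsg.Agent.Lib.Helper7.Conj

set_option autoImplicit false

namespace Cfsg.Agent.Lib.Helper7

open scoped Pointwise

variable {G : Type*} [Group G]

/-- conjugating by an element normalizing both `A` and `B` normalizes `A ⊔ B` -/
theorem normalizer_inf_le_normalizer_sup (A B : Subgroup G) :
    Subgroup.normalizer (A : Set G) ⊓ Subgroup.normalizer (B : Set G)
      ≤ Subgroup.normalizer ((A ⊔ B : Subgroup G) : Set G) := by
  intro g hg
  rw [Subgroup.mem_inf] at hg
  obtain ⟨hA, hB⟩ := hg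
  rw [← map_conj_eq_self_iff] at *
  rw [Subgroup.map_sup, hA, hB]

/-- conjugating by an element normalizing both `A` and `B` normalizes `A ⊓ B` -/
theorem normalizer_inf_le_normalizer_inf (A B : Subgroup G) :
    Subgroup.normalizer (A : Set G) ⊓ Subgroup.normalizer (B : Set G)
      ≤ Subgroup.normalizer ((A ⊓ B : Subgroup G) : Set G) := by
  intro g hg
  rw [Subgroup.mem_inf] at hg
  obtain ⟨hA, hB⟩ := hg
  rw [Subgroup.mem_normalizer_iff] at *
  intro x
  rw [Subgroup.mem_inf, Subgroup.mem_inf, hA x, hB x]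

theorem normalizer_eq_top_of_normal (M : Subgroup G) [M.Normal] :
    Subgroup.normalizer (M : Set G) = ⊤ := Subgroup.normalizer_eq_top_iff.mpr inferInstance

/-- Frattini argument, general form: `N_G(PM) = N_G(P) M` for `P` Sylow and `M` normal. -/
theorem normalizer_sylow_sup_normal {p : ℕ} [Fact p.Prime] [Finite G] (P : Sylow p G)
    (M : Subgroup G) [M.Normal] :
    Subgroup.normalizer (((P : Subgroup G) ⊔ M : Subgroup G) : Set G)
      = Subgroup.normalizer ((P : Subgroup G) : Set G) ⊔ M := by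
  apply le_antisymm
  · intro y hy
    set L : Subgroup G := (P : Subgroup G) ⊔ M with hL
    have hPL : (P : Subgroup G) ≤ L := le_sup_left
    have hyP : ((y • P : Sylow p G) : Subgroup G) ≤ L := by
      rw [Sylow.coe_subgroup_smul]
      intro z hz
      rw [mem_conj_smul] at hz
      have h1 : y⁻¹ * z * y ∈ L := hPL hz
      rw [Subgroup.mem_normalizer_iff] at hy
      have := (hy (y⁻¹ * z * y)).mp h1
      simpa [mul_assoc] using this
    obtain ⟨l, hl⟩ := MulAction.exists_smul_eq L (P.subtype hPL) ((y • P).subtype hyP)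
    rw [Sylow.smul_subtype hPL l] at hl
    have hl' : (l : G) • P = y • P := Sylow.subtype_injective hl
    have hn : y⁻¹ * (l : G) ∈ Subgroup.normalizer ((P : Subgroup G) : Set G) := by
      have h1 : (y⁻¹ * (l : G)) • P = P := by
        rw [mul_smul, hl', ← mul_smul, inv_mul_cancel, one_smul]
      exact Sylow.smul_eq_iff_mem_normalizer.mp h1
    have hy' : y = (l : G) * (y⁻¹ * (l : G))⁻¹ := by group
    rw [hy']
    have hLle : L ≤ Subgroup.normalizer ((P : Subgroup G) : Set G) ⊔ M :=
      sup_le_sup_right Subgroup.le_normalizer M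
    exact Subgroup.mul_mem _ (hLle l.2)
      (Subgroup.inv_mem _ (Subgroup.mem_sup_left hn))
  · apply sup_le
    · refine le_trans ?_ (normalizer_inf_le_normalizer_sup (P : Subgroup G) M)
      rw [normalizer_eq_top_of_normal M, inf_top_eq]
    · exact le_trans le_sup_right Subgroup.le_normalizer

/-- The number of Sylow `p`-subgroups of `G ⧸ M` is `|G : N_G(P) M|`. -/
theorem card_sylow_quotient {p : ℕ} [Fact p.Prime] [Finite G] (P : Sylow p G)
    (M : Subgroup G) [M.Normal] :
    Nat.card (Sylow p (G ⧸ M))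
      = (Subgroup.normalizer ((P : Subgroup G) : Set G) ⊔ M).index := by
  have hf : Function.Surjective (QuotientGroup.mk' M) := QuotientGroup.mk'_surjective M
  rw [(P.mapSurjective hf).card_eq_index_normalizer,
    ← Subgroup.index_comap_of_surjective _ hf, ← Sylow.coe_coe,
    Subgroup.comap_normalizer_eq_of_surjective _ hf,
    Sylow.coe_mapSurjective, Subgroup.comap_map_eq, QuotientGroup.ker_mk',
    normalizer_sylow_sup_normal]

/-- If `M ⊓ N = ⊥` are normal then `PM ⊓ PN = P` for a Sylow subgroup `P`. -/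
theorem sylow_sup_inf_sup_eq {p : ℕ} [Fact p.Prime] (P : Sylow p G)
    (M N : Subgroup G) [M.Normal] [N.Normal] (hMN : M ⊓ N = ⊥) :
    ((P : Subgroup G) ⊔ M) ⊓ ((P : Subgroup G) ⊔ N) = (P : Subgroup G) := by
  have key : ∀ (K : Subgroup G) [K.Normal] (g : G), g ∈ (P : Subgroup G) ⊔ K →
      ∃ a : ℕ, g ^ p ^ a ∈ K := by
    intro K _ g hg
    rw [Subgroup.mem_sup_of_normal_right] at hg
    obtain ⟨x, hx, m, hm, rfl⟩ := hg
    obtain ⟨a, ha⟩ := (IsPGroup.iff_orderOf.mp P.isPGroup') ⟨x, hx⟩
    refine ⟨a, ?_⟩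
    rw [← QuotientGroup.eq_one_iff, QuotientGroup.mk_pow, QuotientGroup.mk_mul,
      (QuotientGroup.eq_one_iff m).mpr hm, mul_one, ← QuotientGroup.mk_pow]
    have : x ^ p ^ a = 1 := by
      have h1 : (⟨x, hx⟩ : (P : Subgroup G)) ^ p ^ a = 1 := by
        rw [← ha]; exact pow_orderOf_eq_one _
      exact congrArg Subtype.val h1
    rw [this]; rfl
  have hp : IsPGroup p ↥(((P : Subgroup G) ⊔ M) ⊓ ((P : Subgroup G) ⊔ N)) := by
    rintro ⟨g, hg1, hg2⟩
    obtain ⟨a, ha⟩ := key M g hg1
    obtain ⟨b, hb⟩ := key N g hg2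
    refine ⟨a + b, ?_⟩
    apply Subtype.ext
    simp only [Subgroup.coe_pow, Subgroup.coe_one]
    have h1 : g ^ p ^ (a + b) ∈ M := by
      rw [pow_add, pow_mul]; exact Subgroup.pow_mem _ ha _
    have h2 : g ^ p ^ (a + b) ∈ N := by
      rw [pow_add, mul_comm, pow_mul]; exact Subgroup.pow_mem _ hb _
    have : g ^ p ^ (a + b) ∈ M ⊓ N := ⟨h1, h2⟩
    rw [hMN, Subgroup.mem_bot] at this
    exact this
  exact P.is_maximal' hp (le_inf le_sup_left le_sup_left)

/-- `|HM : H| = |M : H ∩ M|` when `M` is normal. -/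
theorem relIndex_sup_of_normal [Finite G] (H M : Subgroup G) [M.Normal] :
    H.relIndex (H ⊔ M) = H.relIndex M := by
  have ha : H.relIndex (H ⊔ M) * (H ⊔ M).index = H.index :=
    Subgroup.relIndex_mul_index le_sup_left
  have hb : M.relIndex H * (H ⊔ M).index = M.index := by
    rw [← Subgroup.relIndex_sup_right, Subgroup.relIndex_mul_index le_sup_right]
  have hc : M.relIndex H * H.index = (H ⊓ M).index := by
    rw [← Subgroup.inf_relIndex_left, Subgroup.relIndex_mul_index inf_le_left]
  have hd : H.relIndex M * M.index = (H ⊓ M).index := by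
    rw [← Subgroup.inf_relIndex_right, Subgroup.relIndex_mul_index inf_le_right]
  have h0 : (H ⊔ M).index ≠ 0 := Subgroup.index_ne_zero_of_finite
  have h1 : M.relIndex H ≠ 0 := Subgroup.index_ne_zero_of_finite
  have : M.relIndex H * (H ⊔ M).index * H.relIndex (H ⊔ M)
      = M.relIndex H * (H ⊔ M).index * H.relIndex M := by
    calc M.relIndex H * (H ⊔ M).index * H.relIndex (H ⊔ M)
        = M.relIndex H * (H.relIndex (H ⊔ M) * (H ⊔ M).index) := by ring
      _ = (H ⊓ M).index := by rw [ha, hc]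
      _ = H.relIndex M * (M.relIndex H * (H ⊔ M).index) := by rw [hb, hd]
      _ = _ := by ring
  exact Nat.eq_of_mul_eq_mul_left (Nat.pos_of_ne_zero (mul_ne_zero h1 h0)) this

end Cfsg.Agent.Lib.Helper7
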