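import Mathlib
import Cfsg.Agent.Lib.Helper7.Conj

set_option autoImplicit false

namespace Cfsg.Agent.Lib.Helper7

open scoped Pointwise

theorem mem_sylow_smul {G : Type*} [Group G] {p : ℕ} (P : Sylow p G) (g x : G) :
    x ∈ (g • P : Sylow p G) ↔ g⁻¹ * x * g ∈ P := by
  show x ∈ MulAut.conj g • (P : Subgroup G) ↔ _
  rw [mem_conj_smul]
  rfl

theorem isPGroup_zpowers_of_orderOf {G : Type*} [Group G] {p : ℕ} (x : G) (k : ℕ)
    (hx : orderOf x = p ^ k) : IsPGroup p (Subgroup.zpowers x) := by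
  apply IsPGroup.of_card (n := k)
  rw [Nat.card_zpowers, hx]

theorem exists_sylow_mem_of_orderOf {G : Type*} [Group G] {p : ℕ} (x : G) (k : ℕ)
    (hx : orderOf x = p ^ k) : ∃ P : Sylow p G, x ∈ P := by
  obtain ⟨P, hP⟩ := (isPGroup_zpowers_of_orderOf x k hx).exists_le_sylow
  exact ⟨P, hP (Subgroup.mem_zpowers x)⟩

theorem orderOf_conj_eq {G : Type*} [Group G] (g x : G) : orderOf (g * x * g⁻¹) = orderOf x :=
  (MulAut.conj g).orderOf_eq x

theorem orderOf_eq_prime_pow_of_mem_sylow {G : Type*} [Group G] {p : ℕ} [Fact p.Prime]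
    (P : Sylow p G) (x : G) (hx : x ∈ P) : ∃ k : ℕ, orderOf x = p ^ k := by
  have := (IsPGroup.iff_orderOf.1 P.isPGroup') ⟨x, hx⟩
  obtain ⟨k, hk⟩ := this
  exact ⟨k, by rwa [Subgroup.orderOf_mk] at hk⟩

end Cfsg.Agent.Lib.Helper7
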