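import Mathlib
import Cfsg.Agent.Lib.Helper7.Conj
import Cfsg.Agent.Lib.Helper7.SylowBasic
import Cfsg.Agent.Lib.Helper7.SylowQuot

set_option autoImplicit false

namespace Cfsg.Agent.Lib.Helper7

open scoped Pointwise

variable {G : Type*} [Group G]

/-- In a finite setting, `g H g⁻¹ ⊆ H` already implies `g ∈ N(H)`. -/
theorem mem_normalizer_of_conj_mem (H : Subgroup G) [Finite H] (g : G)
    (h : ∀ x ∈ H, g * x * g⁻¹ ∈ H) : g ∈ Subgroup.normalizer (H : Set G) := by
  rw [← map_conj_eq_self_iff]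
  apply Subgroup.eq_of_le_of_card_ge
  · rintro _ ⟨x, hx, rfl⟩
    exact h x hx
  · rw [card_map_conj]

/-- Frattini argument for a `p`-subgroup `P` that is Sylow in `P ⊔ M`, `M` normal. -/
theorem normalizer_sup_normal_of_not_dvd {p : ℕ} [Fact p.Prime] [Finite G] (P M : Subgroup G)
    [M.Normal] (hP : IsPGroup p P) (hidx : ¬ p ∣ P.relIndex (P ⊔ M)) :
    Subgroup.normalizer ((P ⊔ M : Subgroup G) : Set G)
      = Subgroup.normalizer (P : Set G) ⊔ M := by
  apply le_antisymm
  · intro y hy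
    set L : Subgroup G := P ⊔ M with hL
    have hPL : P ≤ L := le_sup_left
    let S : Sylow p L := (hP.comap_subtype (K := L)).toSylow hidx
    have hS : ∀ z : L, z ∈ S ↔ (z : G) ∈ P := fun z => Iff.rfl
    have hQ : IsPGroup p ((P.map (MulAut.conj y).toMonoidHom).subgroupOf L) :=
      (hP.map _).comap_subtype
    obtain ⟨S', hS'⟩ := hQ.exists_le_sylow
    obtain ⟨l, rfl⟩ := MulAction.exists_smul_eq L S S'
    have key : ∀ x ∈ P, ((l : G)⁻¹ * y) * x * ((l : G)⁻¹ * y)⁻¹ ∈ P := by
      intro x hx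
      have h1 : y * x * y⁻¹ ∈ L := by
        rw [Subgroup.mem_normalizer_iff] at hy
        exact (hy x).mp (hPL hx)
      have h2 : (⟨y * x * y⁻¹, h1⟩ : L) ∈ (P.map (MulAut.conj y).toMonoidHom).subgroupOf L := by
        rw [Subgroup.mem_subgroupOf]
        exact ⟨x, hx, rfl⟩
      have h3 := (mem_sylow_smul S l _).mp (hS' h2)
      rw [hS] at h3
      have e : ((l : G)⁻¹ * y) * x * ((l : G)⁻¹ * y)⁻¹ = (l : G)⁻¹ * (y * x * y⁻¹) * (l : G) := by
        group
      rw [e]
      simpa using h3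
    have hn := mem_normalizer_of_conj_mem P _ key
    have hy' : y = (l : G) * ((l : G)⁻¹ * y) := by group
    rw [hy']
    have hLle : L ≤ Subgroup.normalizer (P : Set G) ⊔ M :=
      sup_le_sup_right Subgroup.le_normalizer M
    exact Subgroup.mul_mem _ (hLle l.2) (Subgroup.mem_sup_left hn)
  · apply sup_le
    · refine le_trans ?_ (normalizer_inf_le_normalizer_sup P M)
      rw [normalizer_eq_top_of_normal M, inf_top_eq]
    · exact le_trans le_sup_right Subgroup.le_normalizer

/-- A `p`-group meets a normal subgroup of order prime to `p` trivially, and is Sylow in the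
product. -/
theorem not_dvd_relIndex_sup_of_coprime {p : ℕ} [Fact p.Prime] [Finite G] (P M : Subgroup G)
    [M.Normal] (hM : (Nat.card M).Coprime p) : ¬ p ∣ P.relIndex (P ⊔ M) := by
  rw [relIndex_sup_of_normal]
  intro h
  have h1 : P.relIndex M ∣ Nat.card M := Subgroup.relIndex_dvd_card P M
  have h2 : p ∣ Nat.card M := dvd_trans h h1
  have h3 : p ∣ Nat.gcd (Nat.card M) p := Nat.dvd_gcd h2 dvd_rfl
  rw [hM] at h3
  exact (Fact.out : p.Prime).one_lt.ne' (Nat.dvd_one.mp h3)

theorem inf_eq_bot_of_isPGroup_of_coprime {p : ℕ} [Fact p.Prime] [Finite G] (P M : Subgroup G)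
    (hP : IsPGroup p P) (hM : (Nat.card M).Coprime p) : P ⊓ M = ⊥ := by
  obtain ⟨n, hn⟩ := IsPGroup.iff_card.mp hP
  apply disjoint_iff.mp
  apply Subgroup.disjoint_of_coprime_natCard
  rw [hn]
  exact (Nat.Coprime.pow_right n hM).symm

end Cfsg.Agent.Lib.Helper7
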