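import Mathlib

set_option autoImplicit false

namespace Cfsg.Agent.Lib.Helper7

/-- In a finite cyclic group, `x ∈ ⟨y⟩` as soon as the order of `x` divides that of `y`. -/
theorem mem_zpowers_of_orderOf_dvd_of_isCyclic {C : Type*} [Group C] [Finite C] [IsCyclic C]
    (x y : C) (h : orderOf x ∣ orderOf y) : x ∈ Subgroup.zpowers y := by
  classical
  haveI : Fintype C := Fintype.ofFinite C
  set d := orderOf y with hd
  have hdpos : 0 < d := orderOf_pos y
  have hsub : (Subgroup.zpowers y : Set C) ⊆ {w : C | w ^ d = 1} := by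
    intro w hw
    have := orderOf_dvd_of_mem_zpowers hw
    exact orderOf_dvd_iff_pow_eq_one.1 this
  have heq : (Subgroup.zpowers y : Set C) = {w : C | w ^ d = 1} := by
    apply Set.eq_of_subset_of_ncard_le hsub _ (Set.toFinite _)
    have h1 := IsCyclic.card_pow_eq_one_le (α := C) hdpos
    have h2 : ({w : C | w ^ d = 1} : Set C).ncard
        = (Finset.univ.filter (fun a : C => a ^ d = 1)).card := by
      rw [Set.ncard_eq_toFinset_card']
      congr 1
      ext w
      simp
    rw [h2]
    refine le_trans h1 ?_
    rw [← Nat.card_coe_set_eq]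
    exact le_of_eq (Nat.card_zpowers y).symm
  have hx : x ∈ ({w : C | w ^ d = 1} : Set C) := orderOf_dvd_iff_pow_eq_one.1 h
  rw [← heq] at hx
  exact hx

end Cfsg.Agent.Lib.Helper7
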