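import Mathlib
import Cfsg.Agent.Lib.Helper7.CyclicMem

set_option autoImplicit false

namespace Cfsg.Agent.Lib.Helper7

/-- In a finite cyclic group, subgroups are ordered by divisibility of their orders. -/
theorem subgroup_le_of_card_dvd_of_isCyclic {C : Type*} [Group C] [Finite C] [IsCyclic C]
    (A B : Subgroup C) (h : Nat.card A ∣ Nat.card B) : A ≤ B := by
  obtain ⟨a, ha⟩ := IsCyclic.exists_generator (α := A)
  obtain ⟨b, hb⟩ := IsCyclic.exists_generator (α := B)
  have hoa : orderOf (a : C) = Nat.card A := by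
    rw [Subgroup.orderOf_coe]; exact orderOf_eq_card_of_forall_mem_zpowers ha
  have hob : orderOf (b : C) = Nat.card B := by
    rw [Subgroup.orderOf_coe]; exact orderOf_eq_card_of_forall_mem_zpowers hb
  have hab : (a : C) ∈ Subgroup.zpowers (b : C) :=
    mem_zpowers_of_orderOf_dvd_of_isCyclic _ _ (by rw [hoa, hob]; exact h)
  intro x hx
  obtain ⟨k, hk⟩ := Subgroup.mem_zpowers_iff.1 (ha ⟨x, hx⟩)
  have hx' : x = (a : C) ^ k := by
    have := congrArg Subtype.val hk
    simpa using this.symm
  rw [hx']
  apply Subgroup.zpow_mem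
  exact (Subgroup.zpowers_le.2 b.2) hab

theorem subgroup_eq_of_card_eq_of_isCyclic {C : Type*} [Group C] [Finite C] [IsCyclic C]
    (A B : Subgroup C) (h : Nat.card A = Nat.card B) : A = B :=
  le_antisymm (subgroup_le_of_card_dvd_of_isCyclic A B (by rw [h]))
    (subgroup_le_of_card_dvd_of_isCyclic B A (by rw [h]))

/-- Version inside an ambient group: two subgroups of a cyclic subgroup `C` with the same order
are equal. -/
theorem eq_of_le_cyclic_of_card_eq {G : Type*} [Group G] [Finite G] (C A B : Subgroup G)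
    [IsCyclic C] (hA : A ≤ C) (hB : B ≤ C) (h : Nat.card A = Nat.card B) : A = B := by
  have h1 : A.subgroupOf C = B.subgroupOf C := by
    apply subgroup_eq_of_card_eq_of_isCyclic
    rw [Nat.card_congr (Subgroup.subgroupOfEquivOfLe hA).toEquiv,
      Nat.card_congr (Subgroup.subgroupOfEquivOfLe hB).toEquiv, h]
  ext x
  constructor
  · intro hx
    have : (⟨x, hA hx⟩ : C) ∈ A.subgroupOf C := by rw [Subgroup.mem_subgroupOf]; exact hx
    rw [h1, Subgroup.mem_subgroupOf] at this
    exact this
  · intro hx
    have : (⟨x, hB hx⟩ : C) ∈ B.subgroupOf C := by rw [Subgroup.mem_subgroupOf]; exact hx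
    rw [← h1, Subgroup.mem_subgroupOf] at this
    exact this

end Cfsg.Agent.Lib.Helper7
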