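import Mathlib

set_option autoImplicit false
set_option maxHeartbeats 800000

namespace Cfsg.Agent.Lib.Helper7.ElemAbGL

/-- an additive automorphism of a `ZMod p`-module is linear -/
def linOfAdd {p : ℕ} {V : Type*} [AddCommGroup V] [Module (ZMod p) V] (f : V ≃+ V) :
    V ≃ₗ[ZMod p] V :=
  { f with map_smul' := fun c x => ZMod.map_smul f c x }

theorem linOfAdd_apply {p : ℕ} {V : Type*} [AddCommGroup V] [Module (ZMod p) V] (f : V ≃+ V)
    (x : V) : linOfAdd (p := p) f x = f x := rfl

theorem exists_glEquiv {V : Type*} [AddCommGroup V] [Finite V] (p e : ℕ) [Fact p.Prime]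
    [Module (ZMod p) V] (hcard : Nat.card V = p ^ e) :
    Nonempty ((V ≃ₗ[ZMod p] V) ≃* GL (Fin e) (ZMod p)) := by
  classical
  haveI : Module.Finite (ZMod p) V := Module.Finite.of_finite
  have hrank : Module.finrank (ZMod p) V = e := by
    have h1 : Nat.card V = Nat.card (ZMod p) ^ Module.finrank (ZMod p) V :=
      Module.natCard_eq_pow_finrank
    rw [hcard, Nat.card_zmod] at h1
    exact (Nat.pow_right_injective (Fact.out : p.Prime).two_le h1).symm
  let b := Module.finBasisOfFinrankEq (ZMod p) V hrank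
  exact ⟨(LinearMap.GeneralLinearGroup.generalLinearEquiv (ZMod p) V).symm.trans
      ((Units.mapEquiv (b.equivFun.conjRingEquiv).toMulEquiv).trans
        (Matrix.GeneralLinearGroup.toLin).symm)⟩

/-- layer 1: a linear action on a finite `ZMod p`-module of order `p ^ e`. -/
theorem rep_of_lin {H V : Type*} [Group H] [AddCommGroup V] [Finite V] (p e : ℕ)
    [Fact p.Prime] [Module (ZMod p) V] (hcard : Nat.card V = p ^ e)
    (ρ : H →* (V ≃ₗ[ZMod p] V)) :
    ∃ φ : H →* GL (Fin e) (ZMod p), φ.ker = ρ.ker := by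
  obtain ⟨E⟩ := exists_glEquiv (V := V) p e hcard
  refine ⟨E.toMonoidHom.comp ρ, ?_⟩
  ext h
  rw [MonoidHom.mem_ker, MonoidHom.mem_ker, MonoidHom.comp_apply]
  show E (ρ h) = 1 ↔ ρ h = 1
  exact map_eq_one_iff E E.injective

/-- layer 2 (with the module structure as an instance argument). -/
theorem rep_of_mulAut' {H A : Type*} [Group H] [CommGroup A] [Finite A] (p e : ℕ)
    [Fact p.Prime] [Module (ZMod p) (Additive A)] (hcard : Nat.card A = p ^ e)
    (ρ : H →* MulAut A) :
    ∃ φ : H →* GL (Fin e) (ZMod p), φ.ker = ρ.ker := by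
  haveI : Finite (Additive A) := inferInstanceAs (Finite A)
  have hcard' : Nat.card (Additive A) = p ^ e := hcard
  let ρ' : H →* (Additive A ≃ₗ[ZMod p] Additive A) :=
    MonoidHom.mk' (fun h => linOfAdd (MulEquiv.toAdditive (ρ h))) (by
      intro h1 h2
      apply LinearEquiv.ext
      intro x
      rw [map_mul]
      show Additive.ofMul ((ρ h1 * ρ h2) (Additive.toMul x)) = _
      rw [MulAut.mul_apply, LinearEquiv.mul_apply]
      rfl)
  obtain ⟨φ, hφ⟩ := rep_of_lin p e hcard' ρ'
  refine ⟨φ, ?_⟩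
  rw [hφ]
  ext h
  rw [MonoidHom.mem_ker, MonoidHom.mem_ker]
  constructor
  · intro hh
    apply MulEquiv.ext
    intro a
    have := congrArg (fun T : Additive A ≃ₗ[ZMod p] Additive A => T (Additive.ofMul a)) hh
    exact this
  · intro hh
    apply LinearEquiv.ext
    intro x
    show Additive.ofMul ((ρ h) (Additive.toMul x)) = _
    rw [hh]
    rfl

/-- layer 2: an action by automorphisms on a finite abelian group of exponent `p`. -/
theorem rep_of_mulAut {H A : Type*} [Group H] [CommGroup A] [Finite A] (p e : ℕ)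
    [Fact p.Prime] (hexp : ∀ a : A, a ^ p = 1) (hcard : Nat.card A = p ^ e) (ρ : H →* MulAut A) :
    ∃ φ : H →* GL (Fin e) (ZMod p), φ.ker = ρ.ker := by
  have hpV : ∀ x : Additive A, p • x = 0 := by
    intro x
    have h1 : (Additive.toMul x) ^ p = 1 := hexp _
    have h2 : p • x = Additive.ofMul ((Additive.toMul x) ^ p) := rfl
    rw [h2, h1]; rfl
  exact @rep_of_mulAut' H A _ _ _ p e _ (AddCommGroup.zmodModule hpV) hcard ρ

/-- Conjugation action of `H` on a normal elementary abelian subgroup of order `p ^ e` gives a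
homomorphism to `GL_e(p)` whose kernel is the centralizer. -/
theorem exists_rep {H : Type*} [Group H] (F : Subgroup H) [F.Normal] [Finite F] (p e : ℕ)
    [Fact p.Prime]
    (hab : ∀ a ∈ F, ∀ b ∈ F, a * b = b * a) (hexp : ∀ x ∈ F, x ^ p = 1)
    (hcard : Nat.card F = p ^ e) :
    ∃ φ : H →* GL (Fin e) (ZMod p), φ.ker = Subgroup.centralizer (F : Set H) := by
  letI instC : CommGroup F :=
    { (inferInstance : Group F) with
      mul_comm := fun a b => Subtype.ext (hab a.1 a.2 b.1 b.2) }
  have hexp' : ∀ a : F, a ^ p = 1 := fun a => Subtype.ext (by simpa using hexp a.1 a.2)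
  obtain ⟨φ, hφ⟩ := @rep_of_mulAut H F _ instC _ p e _ hexp' hcard (MulAut.conjNormal (H := F))
  refine ⟨φ, ?_⟩
  rw [hφ]
  ext h
  rw [MonoidHom.mem_ker, Subgroup.mem_centralizer_iff]
  constructor
  · intro hh x hx
    have h3 : MulAut.conjNormal (H := F) h ⟨x, hx⟩ = ⟨x, hx⟩ := by rw [hh]; rfl
    have h4 := congrArg Subtype.val h3
    rw [MulAut.conjNormal_apply] at h4
    calc x * h = (h * x * h⁻¹) * h := by rw [h4]
      _ = h * x := by group
  · intro hc
    apply MulEquiv.ext
    intro x
    apply Subtype.ext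
    rw [MulAut.conjNormal_apply]
    have := hc x.1 x.2
    calc h * (x : H) * h⁻¹ = ((x : H) * h) * h⁻¹ := by rw [this]
      _ = (x : H) := by group

end Cfsg.Agent.Lib.Helper7.ElemAbGL
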