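import Mathlib
import Cfsg.Agent.Lib.Helper7.SylowQuot
import Cfsg.Agent.Lib.Helper1.SmallSimple

set_option autoImplicit false
set_option maxHeartbeats 800000

namespace Cfsg.Agent.Lib.Helper7.Syl15

open Subgroup MulAction

universe u

section General

variable {G : Type u} [Group G] [Finite G] {p : ℕ} [hp : Fact p.Prime]

/-- Passing to a quotient by a normal subgroup normalizing every Sylow `p`-subgroup does not
change the number of Sylow `p`-subgroups. -/
theorem card_sylow_quot_eq (K : Subgroup G) [K.Normal]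
    (hK : ∀ P : Sylow p G, K ≤ Subgroup.normalizer ((P : Subgroup G) : Set G)) :
    Nat.card (Sylow p (G ⧸ K)) = Nat.card (Sylow p G) := by
  obtain ⟨P⟩ : Nonempty (Sylow p G) := inferInstance
  rw [Cfsg.Agent.Lib.Helper7.card_sylow_quotient P K, sup_eq_left.mpr (hK P),
    Sylow.card_eq_index_normalizer P]
  rfl

/-- A normal subgroup containing a Sylow `p`-subgroup has the same number of Sylow
`p`-subgroups. -/
theorem card_sylow_normal_sub (N : Subgroup G) [N.Normal] (P : Sylow p G)
    (hP : (P : Subgroup G) ≤ N) :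
    Nat.card (Sylow p N) = Nat.card (Sylow p G) := by
  rw [Sylow.card_eq_index_normalizer (P.subtype hP), Sylow.card_eq_index_normalizer P,
    ← Sylow.coe_coe, ← Sylow.coe_coe, Sylow.coe_subtype, ← Subgroup.subgroupOf_normalizer_eq hP]
  have h1 : Subgroup.normalizer ((P : Subgroup G) : Set G) ⊔ N = ⊤ :=
    Sylow.normalizer_sup_eq_top' P hP
  have h2 := Cfsg.Agent.Lib.Helper7.relIndex_sup_of_normal
    (Subgroup.normalizer ((P : Subgroup G) : Set G)) N
  rw [h1, Subgroup.relIndex_top_right] at h2
  rw [h2]
  rfl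

theorem sylow_card_eq_prime {r : ℕ} [Fact r.Prime] (hr : r ∣ Nat.card G)
    (hr2 : ¬ r ^ 2 ∣ Nat.card G) (R : Sylow r G) : Nat.card (R : Subgroup G) = r := by
  obtain ⟨k, hk⟩ := IsPGroup.iff_card.mp R.isPGroup'
  have h1 : r ∣ Nat.card (R : Subgroup G) := by
    have := R.pow_dvd_card_of_pow_dvd_card (n := 1) (by simpa using hr)
    simpa using this
  have h2 : Nat.card (R : Subgroup G) ∣ Nat.card G := Subgroup.card_subgroup_dvd_card _
  have hr1 : r ≠ 1 := (Fact.out : r.Prime).ne_one
  rw [hk] at h1 h2 ⊢
  rcases k with _ | _ | k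
  · simp at h1; exact absurd h1 hr1
  · simp
  · exfalso
    apply hr2
    refine dvd_trans ?_ h2
    exact pow_dvd_pow r (by omega)

/-- Burnside's transfer theorem for a Sylow subgroup of prime order `r` when `|G|` is coprime to
`r - 1`: there is a normal subgroup of index `r`. -/
theorem exists_normal_index_prime {r : ℕ} [Fact r.Prime] (hr : r ∣ Nat.card G)
    (hr2 : ¬ r ^ 2 ∣ Nat.card G) (hco : Nat.Coprime (Nat.card G) (r - 1)) :
    ∃ M : Subgroup G, M.Normal ∧ M.index = r := by
  obtain ⟨R⟩ : Nonempty (Sylow r G) := inferInstance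
  have hR := sylow_card_eq_prime hr hr2 R
  have h1 := Cfsg.Agent.Lib.Helper1.relIndex_centralizer_normalizer_dvd R hR
  have h2 : (Subgroup.centralizer ((R : Subgroup G) : Set G)).relIndex
      (Subgroup.normalizer ((R : Subgroup G) : Set G)) ∣ Nat.card G :=
    (Subgroup.index_dvd_card _).trans (Subgroup.card_subgroup_dvd_card _)
  have h3 : (Subgroup.centralizer ((R : Subgroup G) : Set G)).relIndex
      (Subgroup.normalizer ((R : Subgroup G) : Set G)) = 1 :=
    Nat.eq_one_of_dvd_coprimes hco h2 h1
  have hle := Subgroup.relIndex_eq_one.mp h3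
  have hc := MonoidHom.ker_transferSylow_isComplement' R hle
  refine ⟨(MonoidHom.transferSylow R hle).ker, inferInstance, ?_⟩
  rw [hc.symm.index_eq_card]
  exact hR

end General

section Sign

theorem sign_eq_neg_one_of_involution {α : Type*} [Fintype α] [DecidableEq α]
    (σ : Equiv.Perm α) (h2 : σ * σ = 1) (m : ℕ) (hm : Odd m) (hsupp : σ.support.card = 2 * m) :
    Equiv.Perm.sign σ = -1 := by
  have hne : σ ≠ 1 := by
    intro h
    rw [h, Equiv.Perm.support_one, Finset.card_empty] at hsupp
    obtain ⟨k, rfl⟩ := hm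
    omega
  have ho : orderOf σ = 2 := orderOf_eq_prime (by rw [pow_two]; exact h2) hne
  obtain ⟨n, hn⟩ := Equiv.Perm.cycleType_prime_order (σ := σ) (by rw [ho]; exact Nat.prime_two)
  rw [ho] at hn
  have hsum : σ.cycleType.sum = 2 * m := by rw [Equiv.Perm.sum_cycleType, hsupp]
  rw [hn, Multiset.sum_replicate, smul_eq_mul] at hsum
  have hmn : m = n + 1 := by omega
  rw [Equiv.Perm.sign_of_cycleType, hn, Multiset.sum_replicate, Multiset.card_replicate,
    smul_eq_mul]
  have hodd : Odd ((n + 1) * 2 + (n + 1)) := by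
    rw [← hmn]
    obtain ⟨k, rfl⟩ := hm
    exact ⟨3 * k + 1, by ring⟩
  exact hodd.neg_one_pow

/-- If an involution `u` of `G` moves `2m` points (with `m` odd) in some action on a finite set,
then `G` has a normal subgroup (the even elements) not containing `u` but containing every element of odd
order. -/
theorem exists_normal_of_involution {G : Type*} [Group G] {α : Type*} [MulAction G α] [Finite α]
    (u : G) (hu : u * u = 1) (m : ℕ) (hm : Odd m)
    (hfix : {a : α | u • a = a}.ncard + 2 * m = Nat.card α) :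
    ∃ N : Subgroup G, N.Normal ∧ u ∉ N ∧ ∀ g : G, ∀ k : ℕ, Odd k → g ^ k = 1 → g ∈ N := by
  classical
  have := Fintype.ofFinite α
  let φ : G →* ℤˣ := (Equiv.Perm.sign).comp (MulAction.toPermHom G α)
  refine ⟨φ.ker, inferInstance, ?_, ?_⟩
  · rw [MonoidHom.mem_ker]
    have h1 : φ u = -1 := by
      refine sign_eq_neg_one_of_involution _ ?_ m hm ?_
      · rw [← map_mul (MulAction.toPermHom G α), hu, map_one]
      · set σ : Equiv.Perm α := MulAction.toPermHom G α u with hσ
        have hσa : ∀ a, σ a = u • a := fun a => rfl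
        have hset : {a : α | u • a = a}
            = ((Finset.univ.filter (fun a => σ a = a) : Finset α) : Set α) := by
          ext a; simp [hσa]
        rw [hset, Set.ncard_coe_finset] at hfix
        have hsupp : σ.support = Finset.univ.filter (fun a => ¬ σ a = a) := by
          ext a; simp
        have h3 := Finset.card_filter_add_card_filter_not
          (s := (Finset.univ : Finset α)) (fun a => σ a = a)
        rw [Nat.card_eq_fintype_card, ← Finset.card_univ] at hfix
        rw [hsupp]
        omega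
    rw [h1]
    decide
  · intro g k hk hgk
    rw [MonoidHom.mem_ker]
    have h1 : φ g ^ k = 1 := by rw [← map_pow, hgk, map_one]
    rcases Int.units_eq_one_or (φ g) with h | h
    · exact h
    · rw [h, hk.neg_one_pow] at h1
      exact absurd h1 (by decide)

end Sign

section Orbit

variable {G : Type*} [Group G] {α : Type*} [MulAction G α]

theorem mem_orbit_zpowers_iff (g : G) (a b : α) :
    b ∈ MulAction.orbit (Subgroup.zpowers g) a ↔ ∃ k : ℤ, g ^ k • a = b := by
  constructor
  · rintro ⟨⟨z, k, rfl⟩, rfl⟩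
    exact ⟨k, rfl⟩
  · rintro ⟨k, rfl⟩
    exact ⟨⟨g ^ k, k, rfl⟩, rfl⟩

theorem ncard_orbit_zpowers {q : ℕ} (hq : q.Prime) (g : G) (hg : orderOf g = q) (a : α)
    (ha : g • a ≠ a) : (MulAction.orbit (Subgroup.zpowers g) a).ncard = q := by
  have h1 : (MulAction.orbit (Subgroup.zpowers g) a).ncard ∣ q := by
    rw [← Nat.card_coe_set_eq,
      Nat.card_congr (MulAction.orbitEquivQuotientStabilizer (Subgroup.zpowers g) a), ← hg,
      ← Nat.card_zpowers g]
    exact Subgroup.card_quotient_dvd_card _
  rcases (Nat.dvd_prime hq).mp h1 with h | h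
  · exfalso
    obtain ⟨b, hb⟩ := Set.ncard_eq_one.mp h
    have h2 : a ∈ MulAction.orbit (Subgroup.zpowers g) a := MulAction.mem_orbit_self a
    have h3 : g • a ∈ MulAction.orbit (Subgroup.zpowers g) a :=
      (mem_orbit_zpowers_iff g a _).mpr ⟨1, by simp⟩
    rw [hb] at h2 h3
    rw [Set.mem_singleton_iff] at h2 h3
    exact ha (h3.trans h2.symm)
  · exact h

end Orbit

end Cfsg.Agent.Lib.Helper7.Syl15
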