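import Mathlib
import Cfsg.Agent.Lib.Helper7.Syl15Base

set_option autoImplicit false
set_option maxHeartbeats 800000

namespace Cfsg.Agent.Lib.Helper7.SylCyc

open Subgroup

universe u

variable {G : Type u} [Group G] [Finite G]

/-- every element of coprime order to the index of a normal subgroup lies in it -/
theorem mem_of_pow_eq_one_of_coprime_index (M : Subgroup G) [M.Normal] {y : G} {k : ℕ}
    (hy : y ^ k = 1) (hco : Nat.Coprime M.index k) : y ∈ M := by
  have h1 : y ^ M.index ∈ M := Subgroup.pow_index_mem M y
  have h2 : orderOf y ∣ k := orderOf_dvd_of_pow_eq_one hy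
  have h3 : Nat.Coprime M.index (orderOf y) := Nat.Coprime.coprime_dvd_right h2 hco
  obtain ⟨m, hm⟩ := exists_pow_eq_self_of_coprime h3
  rw [← hm]
  exact Subgroup.pow_mem _ h1 m

/-- If `P` is a self-centralizing Sylow subgroup of prime order `p`, `r ≠ p` is the smallest
prime divisor of `|G|` and `r` does not divide `|G : N(P)|`, then the Sylow `r`-subgroups are
cyclic, so `G` has a proper normal subgroup of `r`-power index, which contains `P`. -/
theorem exists_normal_of_selfcentralizing {p r : ℕ} [hp : Fact p.Prime] [hr : Fact r.Prime]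
    (P : Sylow p G) (hP : Nat.card (P : Subgroup G) = p)
    (hcent : Subgroup.centralizer ((P : Subgroup G) : Set G) = (P : Subgroup G))
    (hrp : r ≠ p) (hmin : (Nat.card G).minFac = r)
    (hidx : ¬ r ∣ (Subgroup.normalizer ((P : Subgroup G) : Set G)).index) :
    ∃ M : Subgroup G, M.Normal ∧ M ≠ ⊤ ∧ (P : Subgroup G) ≤ M := by
  have hrG : r ∣ Nat.card G := hmin ▸ Nat.minFac_dvd _
  -- `MulAut P` is cyclic
  haveI hPc : IsCyclic (P : Subgroup G) := isCyclic_of_prime_card hP
  haveI hfact : Fact (Nat.card (P : Subgroup G)).Prime := ⟨hP.symm ▸ hp.out⟩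
  haveI hAut : IsCyclic (MulAut (P : Subgroup G)) :=
    isCyclic_of_injective (IsCyclic.mulAutMulEquiv (P : Subgroup G)).toMonoidHom
      (IsCyclic.mulAutMulEquiv (P : Subgroup G)).injective
  obtain ⟨S₂⟩ : Nonempty (Sylow r (Subgroup.normalizer ((P : Subgroup G) : Set G))) :=
    inferInstance
  -- `S₂` embeds into `MulAut P`
  let f : (S₂ : Subgroup (Subgroup.normalizer ((P : Subgroup G) : Set G))) →*
      MulAut (P : Subgroup G) :=
    (Subgroup.normalizerMonoidHom (P : Subgroup G)).comp
      (S₂ : Subgroup (Subgroup.normalizer ((P : Subgroup G) : Set G))).subtype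
  have hinj : Function.Injective f := by
    rw [injective_iff_map_eq_one]
    intro s hs
    have h1 : (s : Subgroup.normalizer ((P : Subgroup G) : Set G)) ∈
        (Subgroup.normalizerMonoidHom (P : Subgroup G)).ker := hs
    rw [Subgroup.normalizerMonoidHom_ker, hcent, Subgroup.mem_subgroupOf] at h1
    -- the element lies in `P` and is an `r`-element
    have h2 : ((s : Subgroup.normalizer ((P : Subgroup G) : Set G)) : G) ^ p = 1 := by
      have := pow_card_eq_one' (G := (P : Subgroup G)) (x := ⟨_, h1⟩)
      rw [hP] at this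
      exact congrArg Subtype.val this
    obtain ⟨j, hj⟩ := S₂.isPGroup' s
    have h3 : ((s : Subgroup.normalizer ((P : Subgroup G) : Set G)) : G) ^ r ^ j = 1 := by
      have := congrArg Subtype.val (congrArg Subtype.val hj)
      simpa using this
    have h4 : orderOf ((s : Subgroup.normalizer ((P : Subgroup G) : Set G)) : G) ∣ p :=
      orderOf_dvd_of_pow_eq_one h2
    have h5 : orderOf ((s : Subgroup.normalizer ((P : Subgroup G) : Set G)) : G) ∣ r ^ j :=
      orderOf_dvd_of_pow_eq_one h3
    have hco : Nat.Coprime p (r ^ j) :=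
      Nat.Coprime.pow_right j ((Nat.coprime_primes hp.out hr.out).mpr hrp.symm)
    have h6 : orderOf ((s : Subgroup.normalizer ((P : Subgroup G) : Set G)) : G) = 1 :=
      Nat.eq_one_of_dvd_coprimes hco h4 h5
    have h7 : ((s : Subgroup.normalizer ((P : Subgroup G) : Set G)) : G) = 1 :=
      orderOf_eq_one_iff.mp h6
    apply Subtype.ext
    apply Subtype.ext
    exact h7
  haveI hS₂c : IsCyclic (S₂ : Subgroup (Subgroup.normalizer ((P : Subgroup G) : Set G))) :=
    isCyclic_of_injective f hinj
  have hTcard : Nat.card ((S₂ : Subgroup (Subgroup.normalizer ((P : Subgroup G) : Set G))).map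
      (Subgroup.normalizer ((P : Subgroup G) : Set G)).subtype)
      = Nat.card (S₂ : Subgroup (Subgroup.normalizer ((P : Subgroup G) : Set G))) :=
    Subgroup.card_map_of_injective (Subgroup.subtype_injective _)
  have hTp : IsPGroup r ((S₂ : Subgroup (Subgroup.normalizer ((P : Subgroup G) : Set G))).map
      (Subgroup.normalizer ((P : Subgroup G) : Set G)).subtype) := S₂.isPGroup'.map _
  obtain ⟨S, hTS⟩ := hTp.exists_le_sylow
  obtain ⟨a, ha⟩ := IsPGroup.iff_card.mp S.isPGroup'
  have h1 : Nat.card (S : Subgroup G) ∣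
      Nat.card (Subgroup.normalizer ((P : Subgroup G) : Set G)) := by
    have h2 : Nat.card (S : Subgroup G) ∣
        Nat.card (Subgroup.normalizer ((P : Subgroup G) : Set G)) *
          (Subgroup.normalizer ((P : Subgroup G) : Set G)).index := by
      rw [Subgroup.card_mul_index]
      exact Subgroup.card_subgroup_dvd_card _
    have hco : Nat.Coprime (Nat.card (S : Subgroup G))
        (Subgroup.normalizer ((P : Subgroup G) : Set G)).index := by
      rw [ha]
      exact Nat.Coprime.pow_left a ((Nat.Prime.coprime_iff_not_dvd hr.out).mpr hidx)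
    exact hco.dvd_of_dvd_mul_right h2
  have h3 : Nat.card (S : Subgroup G) ∣
      Nat.card (S₂ : Subgroup (Subgroup.normalizer ((P : Subgroup G) : Set G))) := by
    rw [ha] at h1 ⊢
    exact S₂.pow_dvd_card_of_pow_dvd_card h1
  have hTS' : (S₂ : Subgroup (Subgroup.normalizer ((P : Subgroup G) : Set G))).map
      (Subgroup.normalizer ((P : Subgroup G) : Set G)).subtype = (S : Subgroup G) :=
    Subgroup.eq_of_le_of_card_ge hTS (by rw [hTcard]; exact Nat.le_of_dvd Nat.card_pos h3)
  haveI hSc : IsCyclic (S : Subgroup G) := by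
    rw [← hTS']
    exact isCyclic_of_surjective
      ((S₂ : Subgroup (Subgroup.normalizer ((P : Subgroup G) : Set G))).equivMapOfInjective
        (Subgroup.normalizer ((P : Subgroup G) : Set G)).subtype
        (Subgroup.subtype_injective _)).toMonoidHom (MulEquiv.surjective _)
  have hc := IsCyclic.isComplement' hmin hSc
  have hidxM : (MonoidHom.transferSylow S (hSc.normalizer_le_centralizer hmin)).ker.index
      = r ^ a := by
    rw [hc.symm.index_eq_card, ha]
  have ha0 : a ≠ 0 := by
    rintro rfl
    have h4 : (S : Subgroup G) ≠ ⊥ := S.ne_bot_of_dvd_card hrG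
    apply h4
    exact Subgroup.card_eq_one.mp (by simpa using ha)
  refine ⟨(MonoidHom.transferSylow S (hSc.normalizer_le_centralizer hmin)).ker, inferInstance,
    ?_, ?_⟩
  · intro htop
    rw [htop, Subgroup.index_top] at hidxM
    have : 1 < r ^ a := Nat.one_lt_pow ha0 hr.out.one_lt
    omega
  · intro y hy
    have hy' : y ^ p = 1 := by
      have := pow_card_eq_one' (G := (P : Subgroup G)) (x := ⟨y, hy⟩)
      rw [hP] at this
      exact congrArg Subtype.val this
    apply mem_of_pow_eq_one_of_coprime_index _ hy'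
    rw [hidxM]
    exact Nat.Coprime.pow_left a ((Nat.coprime_primes hr.out hp.out).mpr hrp)

/-- Minimal-counterexample reduction for statements `n_p(G) ≠ n`: it suffices to refute groups
acting faithfully on their Sylow `p`-subgroups in which no proper normal subgroup contains a
Sylow `p`-subgroup. -/
theorem card_sylow_ne_of_min {p n : ℕ} [hp : Fact p.Prime]
    (H : ∀ (G : Type u) [Group G] [Finite G], Nat.card (Sylow p G) = n →
      (∀ g : G, (∀ Q : Sylow p G, g • Q = Q) → g = 1) →
      (∀ (P : Sylow p G) (N : Subgroup G), N.Normal → (P : Subgroup G) ≤ N → N = ⊤) → False) :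
    ∀ m : ℕ, ∀ (G : Type u) [Group G] [Finite G], Nat.card G = m →
      Nat.card (Sylow p G) ≠ n := by
  intro m
  induction m using Nat.strong_induction_on with
  | _ m ih =>
    intro G _ _ hm hn
    apply H G hn
    · intro g hg
      by_contra hg1
      have hgK : g ∈ (MulAction.toPermHom G (Sylow p G)).ker := by
        rw [MonoidHom.mem_ker]
        apply Equiv.ext
        intro Q
        exact hg Q
      have hKne : (MulAction.toPermHom G (Sylow p G)).ker ≠ ⊥ := by
        intro h
        rw [h] at hgK
        exact hg1 (Subgroup.mem_bot.mp hgK)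
      have hKle : ∀ P : Sylow p G, (MulAction.toPermHom G (Sylow p G)).ker
          ≤ Subgroup.normalizer ((P : Subgroup G) : Set G) := by
        intro P k hk
        rw [MonoidHom.mem_ker] at hk
        apply Sylow.smul_eq_iff_mem_normalizer.mp
        have := congrArg (fun σ => σ P) hk
        simpa using this
      have hcard := Cfsg.Agent.Lib.Helper7.Syl15.card_sylow_quot_eq
        (MulAction.toPermHom G (Sylow p G)).ker hKle
      have hlt : Nat.card (G ⧸ (MulAction.toPermHom G (Sylow p G)).ker) < m := by
        have h1 := Subgroup.card_eq_card_quotient_mul_card_subgroup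
          (MulAction.toPermHom G (Sylow p G)).ker
        have h2 := (Subgroup.one_lt_card_iff_ne_bot
          (H := (MulAction.toPermHom G (Sylow p G)).ker)).mpr hKne
        have h3 : 0 < Nat.card (G ⧸ (MulAction.toPermHom G (Sylow p G)).ker) := Nat.card_pos
        rw [← hm, h1]
        nlinarith
      exact ih _ hlt (G ⧸ (MulAction.toPermHom G (Sylow p G)).ker) rfl (hcard.trans hn)
    · intro P N hN hPN
      by_contra hNtop
      have := hN
      have hcard := Cfsg.Agent.Lib.Helper7.Syl15.card_sylow_normal_sub N P hPN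
      have hlt : Nat.card N < m := by
        have h1 := N.card_mul_index
        have h2 : N.index ≠ 1 := fun h => hNtop (Subgroup.index_eq_one.mp h)
        have h3 : N.index ≠ 0 := Subgroup.index_ne_zero_of_finite
        have h4 : 0 < Nat.card N := Nat.card_pos
        rw [← hm, ← h1]
        have h5 : 2 ≤ N.index := by omega
        nlinarith
      exact ih _ hlt N rfl (hcard.trans hn)

/-- In a group acting faithfully on its `n` Sylow `p`-subgroups, `|G|` divides `n!`. -/
theorem card_dvd_factorial {p n : ℕ} [hp : Fact p.Prime] (hn : Nat.card (Sylow p G) = n)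
    (hfaith : ∀ g : G, (∀ Q : Sylow p G, g • Q = Q) → g = 1) :
    Nat.card G ∣ Nat.factorial n := by
  have hinj : Function.Injective (MulAction.toPermHom G (Sylow p G)) := by
    rw [injective_iff_map_eq_one]
    intro g hg
    apply hfaith
    intro Q
    have := congrArg (fun σ => σ Q) hg
    simpa using this
  have := Subgroup.card_dvd_of_injective _ hinj
  rwa [Nat.card_perm, hn] at this

/-- A Sylow `p`-subgroup is non-trivial when there is more than one. -/
theorem sylow_card_ne_one {p n : ℕ} [hp : Fact p.Prime] (hn : Nat.card (Sylow p G) = n)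
    (hn1 : n ≠ 1) (P : Sylow p G) : Nat.card (P : Subgroup G) ≠ 1 := by
  intro h
  have hbot : (P : Subgroup G) = ⊥ := Subgroup.card_eq_one.mp h
  have h1 := Sylow.card_eq_index_normalizer P
  rw [hn] at h1
  have hN : Subgroup.normalizer (P : Set G) = ⊤ := by
    rw [← Sylow.coe_coe, hbot]
    exact Subgroup.normalizer_eq_top_iff.mpr inferInstance
  rw [hN, Subgroup.index_top] at h1
  exact hn1 h1

/-- For a self-centralizing Sylow subgroup of prime order `p`: `|G| = n_p · p · e` with
`e ∣ p - 1`. -/
theorem card_eq_of_selfcentralizing {p : ℕ} [hp : Fact p.Prime] (P : Sylow p G)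
    (hP : Nat.card (P : Subgroup G) = p)
    (hcent : Subgroup.centralizer ((P : Subgroup G) : Set G) = (P : Subgroup G)) :
    ∃ e : ℕ, e ∣ p - 1 ∧ Nat.card G = Nat.card (Sylow p G) * (p * e) ∧
      Nat.card (Subgroup.normalizer ((P : Subgroup G) : Set G)) = p * e := by
  have hrel := Cfsg.Agent.Lib.Helper1.relIndex_centralizer_normalizer_dvd P hP
  rw [hcent] at hrel
  refine ⟨_, hrel, ?_, ?_⟩
  · have h1 := Subgroup.relIndex_mul_relIndex ⊥ (P : Subgroup G)
      (Subgroup.normalizer ((P : Subgroup G) : Set G)) bot_le Subgroup.le_normalizer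
    rw [Subgroup.relIndex_bot_left, Subgroup.relIndex_bot_left, hP] at h1
    have h2 := (Subgroup.normalizer ((P : Subgroup G) : Set G)).card_mul_index
    have h3 := Sylow.card_eq_index_normalizer P
    have h4 : (Subgroup.normalizer ((P : Subgroup G) : Set G)).index
        = Nat.card (Sylow p G) := h3.symm
    rw [h4, ← h1] at h2
    rw [← h2, mul_comm]
  · have h1 := Subgroup.relIndex_mul_relIndex ⊥ (P : Subgroup G)
      (Subgroup.normalizer ((P : Subgroup G) : Set G)) bot_le Subgroup.le_normalizer
    rw [Subgroup.relIndex_bot_left, Subgroup.relIndex_bot_left, hP] at h1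
    exact h1.symm

/-- centralizer of a cyclic Sylow `P = ⟨x⟩` of prime order, from a pointwise statement -/
theorem centralizer_eq_of_forall {p : ℕ} [hp : Fact p.Prime] (P : Sylow p G)
    (hP : Nat.card (P : Subgroup G) = p) (x : G) (hxP : x ∈ P) (hx1 : x ≠ 1)
    (hC : ∀ c : G, Commute c x → c ∈ P) :
    Subgroup.centralizer ((P : Subgroup G) : Set G) = (P : Subgroup G) := by
  apply le_antisymm
  · intro c hc
    apply hC
    exact (hc x hxP).symm
  · intro y hy z hz
    have hgen : ∀ w : G, w ∈ P → w ∈ Subgroup.zpowers x := by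
      intro w hw
      have h := mem_zpowers_of_prime_card (G := (P : Subgroup G)) (p := p) hP (g := ⟨x, hxP⟩)
        (g' := ⟨w, hw⟩) (by intro h; exact hx1 (congrArg Subtype.val h))
      obtain ⟨k, hk⟩ := h
      exact ⟨k, by simpa using congrArg Subtype.val hk⟩
    obtain ⟨i, rfl⟩ := hgen y hy
    obtain ⟨j, rfl⟩ := hgen z hz
    exact ((Commute.refl x).zpow_zpow j i).eq

theorem exists_mem_ne_one_of_card_prime {p : ℕ} [hp : Fact p.Prime] (P : Sylow p G)
    (hP : Nat.card (P : Subgroup G) = p) : ∃ x : G, x ∈ P ∧ x ≠ 1 := by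
  have h1 : (P : Subgroup G) ≠ ⊥ := by
    intro h
    rw [h, Subgroup.card_bot] at hP
    exact hp.out.one_lt.ne hP
  obtain ⟨a, ha⟩ := (Subgroup.ne_bot_iff_exists_ne_one).mp h1
  exact ⟨a, a.2, fun h => ha (Subtype.ext h)⟩

end Cfsg.Agent.Lib.Helper7.SylCyc
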