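import Mathlib
import Cfsg.Agent.Lib.Helper7.Syl15Base

set_option autoImplicit false
set_option maxHeartbeats 800000
set_option linter.unusedSectionVars false

/-! Groups with exactly `2p+1` Sylow `p`-subgroups (`p` odd): the conjugation action on the
Sylow `p`-subgroups. -/

namespace Cfsg.Agent.Lib.Helper7.SylTwoP

open Subgroup MulAction Cfsg.Agent.Lib.Helper7.Syl15

universe u

section Act

variable {G : Type u} [Group G] [Finite G] {p : ℕ} [hp : Fact p.Prime]

/-- the fixed set of `g` on the Sylow `p`-subgroups -/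
def fx (p : ℕ) (g : G) : Set (Sylow p G) := {Q | g • Q = Q}

theorem mem_fx_of_mem {g : G} {Q : Sylow p G} (h : g ∈ Q) : Q ∈ fx p g :=
  Sylow.smul_eq_iff_mem_normalizer.mpr (Subgroup.le_normalizer h)

theorem isPGroup_zpowers {g : G} (hg : ∃ k : ℕ, g ^ p ^ k = 1) :
    IsPGroup p (Subgroup.zpowers g) := by
  obtain ⟨k, hk⟩ := hg
  have h1 : orderOf g ∣ p ^ k := orderOf_dvd_of_pow_eq_one hk
  obtain ⟨j, -, hj⟩ := (Nat.dvd_prime_pow hp.out).mp h1
  exact IsPGroup.of_card (n := j) (by rw [Nat.card_zpowers, hj])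

theorem mem_of_mem_fx {g : G} {Q : Sylow p G} (hg : ∃ k : ℕ, g ^ p ^ k = 1) (h : Q ∈ fx p g) :
    g ∈ Q := by
  have h1 := (isPGroup_zpowers hg).inf_normalizer_sylow Q
  have h2 : g ∈ Subgroup.zpowers g ⊓ Subgroup.normalizer (Q : Set G) :=
    ⟨Subgroup.mem_zpowers g, Sylow.smul_eq_iff_mem_normalizer.mp h⟩
  rw [h1] at h2
  exact h2.2

theorem pelt_of_mem_sylow {g : G} {R : Sylow p G} (h : g ∈ R) : ∃ k : ℕ, g ^ p ^ k = 1 := by
  obtain ⟨k, hk⟩ := R.isPGroup' ⟨g, h⟩
  exact ⟨k, by simpa using congrArg Subtype.val hk⟩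

theorem fx_comm {g w : G} (h : Commute g w) {Q : Sylow p G} (hQ : Q ∈ fx p g) :
    w • Q ∈ fx p g := by
  have hQ' : g • Q = Q := hQ
  show g • w • Q = w • Q
  rw [← mul_smul, h.eq, mul_smul, hQ']

theorem fx_zpow {g : G} {Q : Sylow p G} (hQ : Q ∈ fx p g) (k : ℤ) : g ^ k • Q = Q := by
  have h1 : g ∈ MulAction.stabilizer G Q := MulAction.mem_stabilizer_iff.mpr hQ
  exact MulAction.mem_stabilizer_iff.mp (Subgroup.zpow_mem _ h1 k)

theorem fx_pow {g : G} {Q : Sylow p G} (hQ : Q ∈ fx p g) (k : ℕ) : g ^ k • Q = Q := by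
  have h1 : g ∈ MulAction.stabilizer G Q := MulAction.mem_stabilizer_iff.mpr hQ
  exact MulAction.mem_stabilizer_iff.mp (Subgroup.pow_mem _ h1 k)

theorem fx_ncard_modEq {g : G} (hg : ∃ k : ℕ, g ^ p ^ k = 1) :
    Nat.card (Sylow p G) ≡ (fx p g).ncard [MOD p] := by
  have h1 := (isPGroup_zpowers hg).card_modEq_card_fixedPoints (Sylow p G)
  have h2 : MulAction.fixedPoints (Subgroup.zpowers g) (Sylow p G) = fx p g := by
    ext Q
    rw [MulAction.mem_fixedPoints]
    constructor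
    · intro h
      exact h ⟨g, Subgroup.mem_zpowers g⟩
    · rintro h ⟨z, k, rfl⟩
      exact fx_zpow h k
  rw [h2, Nat.card_coe_set_eq] at h1
  exact h1

theorem fx_ncard {g : G} (hn : Nat.card (Sylow p G) = 2 * p + 1)
    (hfaith : ∀ g : G, (∀ Q : Sylow p G, g • Q = Q) → g = 1)
    (hg : ∃ k : ℕ, g ^ p ^ k = 1) (hg1 : g ≠ 1) :
    (fx p g).ncard = 1 ∨ (fx p g).ncard = p + 1 := by
  have h1 := fx_ncard_modEq hg
  have h2 : (fx p g).ncard ≤ 2 * p + 1 := hn ▸ Set.ncard_le_card (fx p g)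
  have h3 : (fx p g).ncard ≠ 2 * p + 1 := by
    intro h
    apply hg1
    apply hfaith
    have h4 : fx p g = Set.univ :=
      Set.eq_of_subset_of_ncard_le (Set.subset_univ _) (by rw [Set.ncard_univ, hn, h])
    intro Q
    have : Q ∈ fx p g := h4 ▸ Set.mem_univ Q
    exact this
  rw [hn] at h1
  have h5 : p ∣ 2 * p + 1 - (fx p g).ncard := (Nat.modEq_iff_dvd' h2).mp h1.symm
  obtain ⟨t, ht⟩ := h5
  have hp2 : 2 ≤ p := hp.out.two_le
  have ht2 : t ≤ 2 := by
    by_contra hcon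
    push Not at hcon
    have : p * 3 ≤ p * t := Nat.mul_le_mul_left p hcon
    omega
  interval_cases t
  · omega
  · right; omega
  · left; omega

theorem card_sylow_eq (P R : Sylow p G) :
    Nat.card (R : Subgroup G) = Nat.card (P : Subgroup G) := by
  rw [Sylow.card_eq_multiplicity, Sylow.card_eq_multiplicity]

theorem exists_sylow_ne (hn : Nat.card (Sylow p G) = 2 * p + 1) (P : Sylow p G) :
    ∃ Q : Sylow p G, Q ≠ P := by
  by_contra hcon
  push Not at hcon
  have h1 : Subsingleton (Sylow p G) := ⟨fun a b => (hcon a).trans (hcon b).symm⟩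
  have h2 := Finite.card_le_one_iff_subsingleton.mpr h1
  have hp2 : 2 ≤ p := hp.out.two_le
  omega

end Act

end Cfsg.Agent.Lib.Helper7.SylTwoP
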