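import Mathlib
import Cfsg.Agent.Lib.Helper7.SylCyc
import Cfsg.Agent.Lib.Helper7.SylTwoPAct

set_option autoImplicit false
set_option maxHeartbeats 800000
set_option linter.unusedSectionVars false

/-! General tools for counting arguments with Sylow subgroups acting on finite sets. -/

namespace Cfsg.Agent.Lib.Helper7.Syl21

open Subgroup MulAction

universe u

section Tools

/-- If `x` is a `p`-element and `S` is an `x`-invariant finite set then `|S| ≡ |S ∩ Fix x|` mod `p`. -/
theorem ncard_modEq_of_invariant {G : Type*} {α : Type*} [Group G] [MulAction G α] [Finite α]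
    {p : ℕ} [hp : Fact p.Prime] (x : G) (hx : ∃ k : ℕ, x ^ p ^ k = 1) (S : Set α)
    (hS : ∀ a ∈ S, x • a ∈ S) :
    S.ncard ≡ (S ∩ {a | x • a = a}).ncard [MOD p] := by
  obtain ⟨k, hk⟩ := hx
  have hpow : ∀ n : ℕ, ∀ a ∈ S, x ^ n • a ∈ S := by
    intro n
    induction n with
    | zero => intro a ha; simpa using ha
    | succ n ih =>
      intro a ha
      rw [pow_succ, mul_smul]
      exact ih _ (hS a ha)
  have hfin : IsOfFinOrder x := isOfFinOrder_iff_pow_eq_one.mpr
    ⟨p ^ k, pow_pos hp.out.pos k, hk⟩
  have hZmem : ∀ z : Subgroup.zpowers x, ∀ a ∈ S, (z : G) • a ∈ S := by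
    intro z a ha
    have hz : (z : G) ∈ Submonoid.powers x := hfin.mem_powers_iff_mem_zpowers.mpr z.2
    obtain ⟨n, hn⟩ := hz
    rw [← hn]
    exact hpow n a ha
  let S' : SubMulAction (Subgroup.zpowers x) α :=
    { carrier := S
      smul_mem' := fun z a ha => hZmem z a ha }
  have hZ : IsPGroup p (Subgroup.zpowers x) := by
    have h1 : orderOf x ∣ p ^ k := orderOf_dvd_of_pow_eq_one hk
    obtain ⟨j, -, hj⟩ := (Nat.dvd_prime_pow hp.out).mp h1
    exact IsPGroup.of_card (n := j) (by rw [Nat.card_zpowers, hj])
  have h1 := hZ.card_modEq_card_fixedPoints (↥S')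
  have h2 : Nat.card (↥S') = S.ncard := Nat.card_coe_set_eq S
  have h3 : Nat.card (MulAction.fixedPoints (Subgroup.zpowers x) (↥S'))
      = (S ∩ {a | x • a = a}).ncard := by
    rw [Nat.card_coe_set_eq,
      ← Set.ncard_image_of_injective (MulAction.fixedPoints (Subgroup.zpowers x) (↥S'))
        (Subtype.val_injective)]
    congr 1
    ext a
    constructor
    · rintro ⟨⟨b, hb⟩, hfix, rfl⟩
      refine ⟨hb, ?_⟩
      have := hfix ⟨x, Subgroup.mem_zpowers x⟩
      exact congrArg Subtype.val this
    · rintro ⟨haS, hax⟩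
      refine ⟨⟨a, haS⟩, ?_, rfl⟩
      intro z
      apply Subtype.ext
      show (z : G) • a = a
      have hz : (z : G) ∈ Submonoid.powers x := hfin.mem_powers_iff_mem_zpowers.mpr z.2
      obtain ⟨n, hn⟩ := hz
      rw [← hn]
      have h4 : x ∈ MulAction.stabilizer G a := MulAction.mem_stabilizer_iff.mpr hax
      exact MulAction.mem_stabilizer_iff.mp (Subgroup.pow_mem _ h4 n)
  rw [h2, h3] at h1
  exact h1

/-- Burnside's lemma: the order of a finite group divides the total number of fixed points. -/
theorem card_dvd_sum_ncard_fixedBy (H : Type*) (α : Type*) [Group H] [MulAction H α]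
    [Fintype H] [Finite α] :
    Fintype.card H ∣ ∑ h : H, (MulAction.fixedBy α h).ncard := by
  classical
  have := Fintype.ofFinite α
  have h1 := MulAction.sum_card_fixedBy_eq_card_orbits_mul_card_group H α
  have h2 : ∑ h : H, (MulAction.fixedBy α h).ncard
      = ∑ h : H, Fintype.card ↑(MulAction.fixedBy α h) := by
    apply Finset.sum_congr rfl
    intro h _
    rw [← Nat.card_coe_set_eq, Nat.card_eq_fintype_card]
  rw [h2, h1]
  exact Dvd.intro_left _ rfl

/-- Burnside's lemma for a transitive action. -/
theorem sum_ncard_fixedBy_of_transitive (H : Type*) (α : Type*) [Group H] [MulAction H α]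
    [Fintype H] [Finite α] [MulAction.IsPretransitive H α] [Nonempty α] :
    ∑ h : H, (MulAction.fixedBy α h).ncard = Fintype.card H := by
  classical
  have := Fintype.ofFinite α
  have h1 := MulAction.sum_card_fixedBy_eq_card_orbits_mul_card_group H α
  have h2 : ∑ h : H, (MulAction.fixedBy α h).ncard
      = ∑ h : H, Fintype.card ↑(MulAction.fixedBy α h) := by
    apply Finset.sum_congr rfl
    intro h _
    rw [← Nat.card_coe_set_eq, Nat.card_eq_fintype_card]
  rw [h2, h1]
  have h3 : Fintype.card (Quotient (MulAction.orbitRel H α)) = 1 := by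
    rw [Fintype.card_eq_one_iff]
    obtain ⟨a⟩ : Nonempty α := inferInstance
    refine ⟨Quotient.mk'' a, ?_⟩
    intro q
    induction q using Quotient.inductionOn' with
    | h b =>
      apply Quotient.sound'
      exact MulAction.exists_smul_eq H a b
  rw [h3, one_mul]

/-- An element normalizing a Sylow subgroup of prime order `q` whose order is coprime to `q - 1`
centralizes it. -/
theorem mem_centralizer_of_coprime {G : Type*} [Group G] [Finite G] {q : ℕ} [hq : Fact q.Prime]
    (R : Sylow q G) (hR : Nat.card (R : Subgroup G) = q) {x : G}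
    (hxN : x ∈ Subgroup.normalizer ((R : Subgroup G) : Set G)) {m : ℕ} (hxm : x ^ m = 1)
    (hco : Nat.Coprime m (q - 1)) :
    x ∈ Subgroup.centralizer ((R : Subgroup G) : Set G) := by
  have hrel := Cfsg.Agent.Lib.Helper1.relIndex_centralizer_normalizer_dvd R hR
  have hnorm : ((Subgroup.centralizer ((R : Subgroup G) : Set G)).subgroupOf
      (Subgroup.normalizer ((R : Subgroup G) : Set G))).Normal := by
    rw [← Subgroup.normalizerMonoidHom_ker]
    infer_instance
  have h1 := Subgroup.pow_index_mem ((Subgroup.centralizer ((R : Subgroup G) : Set G)).subgroupOf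
      (Subgroup.normalizer ((R : Subgroup G) : Set G))) ⟨x, hxN⟩
  rw [Subgroup.mem_subgroupOf] at h1
  have h2 : x ^ (Subgroup.centralizer ((R : Subgroup G) : Set G)).relIndex
      (Subgroup.normalizer ((R : Subgroup G) : Set G)) ∈
      Subgroup.centralizer ((R : Subgroup G) : Set G) := by
    unfold Subgroup.relIndex
    simpa using h1
  have h3 : orderOf x ∣ m := orderOf_dvd_of_pow_eq_one hxm
  have h4 : Nat.Coprime ((Subgroup.centralizer ((R : Subgroup G) : Set G)).relIndex
      (Subgroup.normalizer ((R : Subgroup G) : Set G))) (orderOf x) :=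
    (Nat.Coprime.coprime_dvd_left h3 (Nat.Coprime.coprime_dvd_right hrel hco)).symm
  obtain ⟨j, hj⟩ := exists_pow_eq_self_of_coprime h4
  rw [← hj]
  exact Subgroup.pow_mem _ h2 j

/-- distinct Sylow subgroups of prime order intersect trivially -/
theorem sylow_eq_of_mem_of_card_prime {G : Type*} [Group G] [Finite G] {q : ℕ}
    [hq : Fact q.Prime] (hcard : ∀ R : Sylow q G, Nat.card (R : Subgroup G) = q)
    {R R' : Sylow q G} {x : G} (hx1 : x ≠ 1) (hx : x ∈ R) (hx' : x ∈ R') : R = R' := by
  have hgen : ∀ y : G, y ∈ R → y ∈ Subgroup.zpowers x := by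
    intro y hy
    have h := mem_zpowers_of_prime_card (G := (R : Subgroup G)) (p := q) (hcard R)
      (g := ⟨x, hx⟩) (g' := ⟨y, hy⟩) (by intro h; exact hx1 (congrArg Subtype.val h))
    obtain ⟨k, hk⟩ := h
    exact ⟨k, by simpa using congrArg Subtype.val hk⟩
  have hle : (R : Subgroup G) ≤ R' := fun y hy => (Subgroup.zpowers_le.mpr hx') (hgen y hy)
  exact Sylow.ext (Subgroup.eq_of_le_of_card_ge hle (by rw [hcard R, hcard R']))

/-- If the Sylow `q`-subgroups have order `q`, there are at least `(q-1) n_q` elements of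
order `q`. -/
theorem card_orderOf_ge {G : Type*} [Group G] [Finite G] {q : ℕ} [hq : Fact q.Prime]
    (hcard : ∀ R : Sylow q G, Nat.card (R : Subgroup G) = q) :
    (q - 1) * Nat.card (Sylow q G) ≤ {g : G | orderOf g = q}.ncard := by
  classical
  have := Fintype.ofFinite (Sylow q G)
  have := Fintype.ofFinite G
  let A : Sylow q G → Finset G := fun R => Finset.univ.filter (fun g => g ∈ R ∧ g ≠ 1)
  have hA : ∀ R : Sylow q G, (A R).card = q - 1 := by
    intro R
    have h1 : A R = (Finset.univ.filter (fun g => g ∈ R)).erase 1 := by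
      ext g
      simp [A, and_comm]
    have h2 : (Finset.univ.filter (fun g : G => g ∈ R)).card = q := by
      have h5 : ((Finset.univ.filter (fun g : G => g ∈ R) : Finset G) : Set G)
          = ((R : Subgroup G) : Set G) := by
        ext g; simp
      rw [← Set.ncard_coe_finset, h5, ← Nat.card_coe_set_eq]
      exact hcard R
    rw [h1, Finset.card_erase_of_mem (by simp), h2]
  have hdisj : ∀ R ∈ (Finset.univ : Finset (Sylow q G)), ∀ R' ∈ (Finset.univ : Finset (Sylow q G)),
      R ≠ R' → Disjoint (A R) (A R') := by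
    intro R _ R' _ hne
    rw [Finset.disjoint_left]
    intro g hg hg'
    simp only [A, Finset.mem_filter, Finset.mem_univ, true_and] at hg hg'
    exact hne (sylow_eq_of_mem_of_card_prime hcard hg.2 hg.1 hg'.1)
  have hsub : (Finset.univ : Finset (Sylow q G)).biUnion A
      ⊆ Finset.univ.filter (fun g : G => orderOf g = q) := by
    intro g hg
    simp only [Finset.mem_biUnion, Finset.mem_univ, true_and] at hg
    obtain ⟨R, hgR⟩ := hg
    simp only [A, Finset.mem_filter, Finset.mem_univ, true_and] at hgR
    simp only [Finset.mem_filter, Finset.mem_univ, true_and]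
    have h1 : g ^ q = 1 := by
      have := pow_card_eq_one' (G := (R : Subgroup G)) (x := ⟨g, hgR.1⟩)
      rw [hcard R] at this
      exact congrArg Subtype.val this
    exact orderOf_eq_prime h1 hgR.2
  have h3 : ((Finset.univ : Finset (Sylow q G)).biUnion A).card
      = (q - 1) * Nat.card (Sylow q G) := by
    rw [Finset.card_biUnion hdisj]
    rw [Finset.sum_congr rfl (fun R _ => hA R), Finset.sum_const, Finset.card_univ,
      Nat.card_eq_fintype_card, smul_eq_mul, mul_comm]
  have h4 : {g : G | orderOf g = q}.ncard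
      = (Finset.univ.filter (fun g : G => orderOf g = q)).card := by
    rw [← Set.ncard_coe_finset]
    congr 1
    ext g
    simp
  rw [h4, ← h3]
  exact Finset.card_le_card hsub

end Tools

end Cfsg.Agent.Lib.Helper7.Syl21
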