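import Mathlib

set_option autoImplicit false

namespace Cfsg.Agent.Lib.Helper7

/-- A subgroup containing a Sylow `q`-subgroup for every prime `q` is the whole group. -/
theorem eq_top_of_forall_sylow_le {G : Type*} [Group G] [Finite G] (N : Subgroup G)
    (h : ∀ (q : ℕ) [Fact q.Prime], ∃ Q : Sylow q G, (Q : Subgroup G) ≤ N) : N = ⊤ := by
  rw [← Subgroup.index_eq_one]
  by_contra hne
  obtain ⟨q, hq, hqd⟩ := Nat.exists_prime_and_dvd hne
  haveI : Fact q.Prime := ⟨hq⟩
  obtain ⟨Q, hQ⟩ := h q
  exact Q.not_dvd_index (hqd.trans (Subgroup.index_dvd_of_le hQ))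

/-- In a finite nilpotent group, Sylow subgroups for distinct primes commute elementwise. -/
theorem sylow_commute_of_ne {G : Type*} [Group G] [Finite G] [Group.IsNilpotent G]
    {p q : ℕ} [Fact p.Prime] [Fact q.Prime] (hpq : p ≠ q) (P : Sylow p G) (Q : Sylow q G)
    (x y : G) (hx : x ∈ P) (hy : y ∈ Q) : Commute x y := by
  apply Subgroup.commute_of_normal_of_disjoint (P : Subgroup G) (Q : Subgroup G)
    inferInstance inferInstance _ x y hx hy
  exact IsPGroup.disjoint_of_ne p q hpq _ _ P.isPGroup' Q.isPGroup'

/-- In a finite nilpotent group, a subgroup `M` of a Sylow subgroup `P` that is normalized by `P`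
is normal in `G`. -/
theorem normal_of_le_sylow_of_normalized {G : Type*} [Group G] [Finite G] [Group.IsNilpotent G]
    {p : ℕ} [Fact p.Prime] (P : Sylow p G) (M : Subgroup G) (hMP : M ≤ P)
    (hnorm : ∀ u ∈ P, ∀ m ∈ M, u * m * u⁻¹ ∈ M) : M.Normal := by
  rw [← Subgroup.normalizer_eq_top_iff]
  apply eq_top_of_forall_sylow_le
  intro q hq
  by_cases hpq : p = q
  · subst hpq
    refine ⟨P, ?_⟩
    intro u hu
    rw [Subgroup.mem_normalizer_iff]
    intro m
    constructor
    · exact hnorm u hu m
    · intro h
      have := hnorm u⁻¹ (P.inv_mem hu) _ h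
      simpa [mul_assoc] using this
  · obtain ⟨Q⟩ : Nonempty (Sylow q G) := inferInstance
    refine ⟨Q, ?_⟩
    intro u hu
    rw [Subgroup.mem_normalizer_iff]
    intro m
    have key : ∀ m' ∈ M, u * m' * u⁻¹ = m' := by
      intro m' hm'
      have hc : Commute m' u := sylow_commute_of_ne hpq P Q m' u (hMP hm') hu
      rw [← hc.eq, mul_assoc, mul_inv_cancel, mul_one]
    constructor
    · intro h; rw [key m h]; exact h
    · intro h
      by_contra hm
      -- conjugation by u is injective and fixes M pointwise; use finiteness-free argument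
      have hc : Commute (u * m * u⁻¹) u :=
        sylow_commute_of_ne hpq P Q _ u (hMP h) hu
      have : u * m * u⁻¹ = m := by
        have h1 := hc.eq
        have : u * m * u⁻¹ * u = u * m := by group
        rw [this] at h1
        have h2 : m = u * m * u⁻¹ := by
          have := mul_left_cancel h1
          exact this
        exact h2.symm
      rw [this] at h
      exact hm h

end Cfsg.Agent.Lib.Helper7
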