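import Mathlib

set_option autoImplicit false
set_option maxHeartbeats 800000

namespace Cfsg.Agent.Lib.Helper7.SubnJoin

universe u

section basics

variable {G : Type*} [Group G]

/-- conjugate of a subgroup -/
def cj (g : G) (X : Subgroup G) : Subgroup G := X.map (MulAut.conj g).toMonoidHom

theorem mem_cj {g : G} {X : Subgroup G} {y : G} : y ∈ cj g X ↔ g⁻¹ * y * g ∈ X := by
  unfold cj
  constructor
  · rintro ⟨x, hx, rfl⟩
    have : g⁻¹ * (MulAut.conj g).toMonoidHom x * g = x := by
      show g⁻¹ * (MulAut.conj g x) * g = x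
      rw [MulAut.conj_apply]; group
    rw [this]; exact hx
  · intro h
    refine ⟨g⁻¹ * y * g, h, ?_⟩
    show MulAut.conj g (g⁻¹ * y * g) = y
    rw [MulAut.conj_apply]; group

theorem conj_mem_cj {g : G} {X : Subgroup G} {x : G} (hx : x ∈ X) : g * x * g⁻¹ ∈ cj g X := by
  rw [mem_cj]
  have : g⁻¹ * (g * x * g⁻¹) * g = x := by group
  rw [this]; exact hx

theorem cj_mono {g : G} {X Y : Subgroup G} (h : X ≤ Y) : cj g X ≤ cj g Y :=
  Subgroup.map_mono h

theorem cj_cj (g k : G) (X : Subgroup G) : cj g (cj k X) = cj (g * k) X := by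
  ext y
  rw [mem_cj, mem_cj, mem_cj]
  have : k⁻¹ * (g⁻¹ * y * g) * k = (g * k)⁻¹ * y * (g * k) := by group
  rw [this]

theorem cj_one (X : Subgroup G) : cj 1 X = X := by
  ext y
  rw [mem_cj]; simp

theorem cj_inv_cj (g : G) (X : Subgroup G) : cj g⁻¹ (cj g X) = X := by
  rw [cj_cj, inv_mul_cancel, cj_one]

theorem cj_cj_inv (g : G) (X : Subgroup G) : cj g (cj g⁻¹ X) = X := by
  rw [cj_cj, mul_inv_cancel, cj_one]

theorem cj_eq_bot {g : G} {X : Subgroup G} (h : cj g X = ⊥) : X = ⊥ := by
  rw [eq_bot_iff]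
  intro x hx
  have h1 : g * x * g⁻¹ ∈ cj g X := conj_mem_cj hx
  rw [h, Subgroup.mem_bot] at h1
  rw [Subgroup.mem_bot]
  have : x = g⁻¹ * (g * x * g⁻¹) * g := by group
  rw [this, h1]; group

theorem cj_of_normal {g : G} {N : Subgroup G} (hN : N.Normal) : cj g N = N := by
  ext y
  rw [mem_cj]
  constructor
  · intro h
    have := hN.conj_mem _ h g
    have e : g * (g⁻¹ * y * g) * g⁻¹ = y := by group
    rwa [e] at this
  · intro h
    have := hN.conj_mem _ h g⁻¹
    simpa using this

theorem cj_sup (g : G) (X Y : Subgroup G) : cj g (X ⊔ Y) = cj g X ⊔ cj g Y :=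
  Subgroup.map_sup X Y _

theorem card_cj [Finite G] (g : G) (X : Subgroup G) : Nat.card (cj g X) = Nat.card X :=
  Subgroup.card_map_of_injective (MulAut.conj g).injective

theorem mem_normalizer_iff_cj {g : G} {X : Subgroup G} :
    g ∈ Subgroup.normalizer (X : Set G) ↔ cj g X = X :=
  Subgroup.mem_normalizer_iff_map_conj_eq

/-- finite-group normalizer membership from one-sided conjugation -/
theorem mem_normalizer_of_forall [Finite G] (H : Subgroup G) (x : G)
    (hx : ∀ h ∈ H, x * h * x⁻¹ ∈ H) : x ∈ Subgroup.normalizer (H : Set G) := by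
  rw [mem_normalizer_iff_cj]
  have hle : cj x H ≤ H := by
    intro y hy
    rw [mem_cj] at hy
    have := hx _ hy
    have e : x * (x⁻¹ * y * x) * x⁻¹ = y := by group
    rwa [e] at this
  exact Subgroup.eq_of_le_of_card_ge hle (by rw [card_cj])

theorem normalizer_cj_le [Finite G] {N Z : Subgroup G} (hN : N.Normal)
    (hZ : N ≤ Subgroup.normalizer (Z : Set G)) (g : G) :
    N ≤ Subgroup.normalizer ((cj g Z : Subgroup G) : Set G) := by
  intro n hn
  apply mem_normalizer_of_forall
  intro y hy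
  rw [mem_cj] at hy ⊢
  have hn' : g⁻¹ * n * g ∈ N := by
    have := hN.conj_mem n hn g⁻¹
    simpa using this
  have h1 := (Subgroup.mem_normalizer_iff.1 (hZ hn') _).1 hy
  have e : g⁻¹ * n * g * (g⁻¹ * y * g) * (g⁻¹ * n * g)⁻¹ = g⁻¹ * (n * y * n⁻¹) * g := by group
  rwa [e] at h1

/-- the normalizer of a join contains the elements normalizing both -/
theorem mem_normalizer_sup {x : G} {H K : Subgroup G} (hH : x ∈ Subgroup.normalizer (H : Set G))
    (hK : x ∈ Subgroup.normalizer (K : Set G)) :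
    x ∈ Subgroup.normalizer ((H ⊔ K : Subgroup G) : Set G) := by
  rw [mem_normalizer_iff_cj] at hH hK ⊢
  rw [cj_sup, hH, hK]

/-- relative subnormality -/
def SubnIn (K H : Subgroup G) : Prop := K ≤ H ∧ (K.subgroupOf H).IsSubnormal

theorem SubnIn.refl (H : Subgroup G) : SubnIn H H :=
  ⟨le_rfl, by rw [Subgroup.subgroupOf_self]; exact Subgroup.IsSubnormal.top⟩

theorem SubnIn.of_le {K H H' : Subgroup G} (h : SubnIn K H) (hK : K ≤ H') (hH : H' ≤ H) :
    SubnIn K H' := by
  refine ⟨hK, ?_⟩
  have h1 := h.2.comap (Subgroup.inclusion hH)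
  have h2 : (K.subgroupOf H).comap (Subgroup.inclusion hH) = K.subgroupOf H' := by
    ext x
    simp only [Subgroup.mem_comap, Subgroup.mem_subgroupOf, Subgroup.coe_inclusion]
  rwa [h2] at h1

theorem SubnIn.top_iff {K : Subgroup G} : SubnIn K ⊤ ↔ K.IsSubnormal := by
  constructor
  · rintro ⟨-, h⟩
    have h1 := h.map (f := (⊤ : Subgroup G).subtype) (fun x => ⟨⟨x, trivial⟩, rfl⟩)
    have h2 : (K.subgroupOf ⊤).map (⊤ : Subgroup G).subtype = K := by
      rw [Subgroup.subgroupOf_map_subtype, inf_top_eq]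
    rwa [h2] at h1
  · intro h
    exact ⟨le_top, h.subgroupOf⟩

/-- transport of relative subnormality along an injective homomorphism -/
theorem subnIn_map_iff {Γ : Type*} [Group Γ] (f : Γ →* G) (hf : Function.Injective f)
    {X Y : Subgroup Γ} (hXY : X ≤ Y) :
    SubnIn (X.map f) (Y.map f) ↔ SubnIn X Y := by
  have key : ((X.map f).subgroupOf (Y.map f)) =
      (X.subgroupOf Y).map (Y.equivMapOfInjective f hf).toMonoidHom := by
    ext ⟨y, hy⟩
    rw [Subgroup.mem_subgroupOf]
    constructor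
    · rintro ⟨x, hx, hxy⟩
      have hxy' : f x = y := hxy
      refine ⟨⟨x, hXY hx⟩, ?_, ?_⟩
      · show (⟨x, hXY hx⟩ : Y) ∈ X.subgroupOf Y
        rw [Subgroup.mem_subgroupOf]; exact hx
      · apply Subtype.ext
        show f x = y
        exact hxy'
    · rintro ⟨⟨x, hxY⟩, hx, hxy⟩
      have hx : (⟨x, hxY⟩ : Y) ∈ X.subgroupOf Y := hx
      rw [Subgroup.mem_subgroupOf] at hx
      refine ⟨x, hx, ?_⟩
      have := congrArg Subtype.val hxy
      exact this
  constructor
  · rintro ⟨_, h⟩
    refine ⟨hXY, ?_⟩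
    rw [key] at h
    have h1 := h.comap (Y.equivMapOfInjective f hf).toMonoidHom
    rwa [Subgroup.comap_map_eq_self_of_injective (Y.equivMapOfInjective f hf).injective] at h1
  · rintro ⟨_, h⟩
    refine ⟨Subgroup.map_mono hXY, ?_⟩
    rw [key]
    exact h.map (Y.equivMapOfInjective f hf).surjective

theorem SubnIn.cj {K H : Subgroup G} (h : SubnIn K H) (g : G) : SubnIn (cj g K) (cj g H) :=
  (subnIn_map_iff (MulAut.conj g).toMonoidHom (MulAut.conj g).injective h.1).2 h

/-- from subgroups of `↥U` to subgroups of `G` -/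
theorem subnIn_subtype_iff {U : Subgroup G} {X Y : Subgroup U} (hXY : X ≤ Y) :
    SubnIn (X.map U.subtype) (Y.map U.subtype) ↔ SubnIn X Y :=
  subnIn_map_iff U.subtype U.subtype_injective hXY

theorem SubnIn.trans {A B C : Subgroup G} (h1 : SubnIn A B) (h2 : SubnIn B C) : SubnIn A C := by
  refine ⟨h1.1.trans h2.1, ?_⟩
  have hle : A.subgroupOf C ≤ B.subgroupOf C := by
    intro x hx
    rw [Subgroup.mem_subgroupOf] at hx ⊢
    exact h1.1 hx
  refine Subgroup.IsSubnormal.trans hle ?_ h2.2
  have h3 : SubnIn ((A.subgroupOf C).map C.subtype) ((B.subgroupOf C).map C.subtype) := by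
    rw [Subgroup.subgroupOf_map_subtype, Subgroup.subgroupOf_map_subtype,
      inf_of_le_left (h1.1.trans h2.1), inf_of_le_left h2.1]
    exact h1
  exact ((subnIn_subtype_iff hle).1 h3).2

theorem SubnIn.of_normal {A B : Subgroup G} (hAB : A ≤ B)
    (hn : B ≤ Subgroup.normalizer (A : Set G)) : SubnIn A B :=
  ⟨hAB, (Subgroup.normal_subgroupOf_of_le_normalizer hn).isSubnormal⟩

end basics


section minnormal

variable {G : Type*} [Group G]

/-- `M` is a minimal normal subgroup -/
def IsMinNormal (M : Subgroup G) : Prop :=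
  M.Normal ∧ M ≠ ⊥ ∧ ∀ M' : Subgroup G, M'.Normal → M' ≤ M → M' = ⊥ ∨ M' = M

/-- `X ≤ N` is a minimal `N`-invariant subgroup -/
def MinNormIn (N X : Subgroup G) : Prop :=
  X ≤ N ∧ N ≤ Subgroup.normalizer (X : Set G) ∧ X ≠ ⊥ ∧
    ∀ X' : Subgroup G, X' ≤ X → N ≤ Subgroup.normalizer (X' : Set G) → X' = ⊥ ∨ X' = X

theorem MinNormIn.isMinNormal [Finite G] {N X : Subgroup G} (h : MinNormIn N X) :
    IsMinNormal (X.subgroupOf N) := by
  obtain ⟨hXN, hnorm, hne, hmin⟩ := h
  refine ⟨(Subgroup.normal_subgroupOf_iff_le_normalizer hXN).2 hnorm, ?_, ?_⟩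
  · intro hbot
    apply hne
    rw [eq_bot_iff]
    intro x hx
    have h1 : (⟨x, hXN hx⟩ : N) ∈ X.subgroupOf N := by
      rw [Subgroup.mem_subgroupOf]; exact hx
    rw [hbot, Subgroup.mem_bot] at h1
    rw [Subgroup.mem_bot]
    exact congrArg Subtype.val h1
  · intro X' hX'n hX'le
    have h1 : X'.map N.subtype ≤ X := by
      rintro _ ⟨y, hy, rfl⟩
      have := hX'le hy
      rw [Subgroup.mem_subgroupOf] at this
      exact this
    have h2 : N ≤ Subgroup.normalizer ((X'.map N.subtype : Subgroup G) : Set G) := by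
      intro n hn
      apply mem_normalizer_of_forall
      rintro _ ⟨y, hy, rfl⟩
      refine ⟨⟨n, hn⟩ * y * (⟨n, hn⟩ : N)⁻¹, hX'n.conj_mem y hy _, ?_⟩
      simp
    have h3 : X' = (X'.map N.subtype).subgroupOf N :=
      (Subgroup.comap_map_eq_self_of_injective N.subtype_injective X').symm
    rcases hmin _ h1 h2 with h4 | h4
    · left
      rw [h3, h4]
      exact Subgroup.bot_subgroupOf N
    · right
      rw [h3, h4]

theorem MinNormIn.cj [Finite G] {N X : Subgroup G} (hN : N.Normal) (h : MinNormIn N X) (g : G) :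
    MinNormIn N (cj g X) := by
  obtain ⟨hXN, hnorm, hne, hmin⟩ := h
  refine ⟨?_, normalizer_cj_le hN hnorm g, fun hb => hne (cj_eq_bot hb), ?_⟩
  · have := cj_mono (g := g) hXN
    rwa [cj_of_normal hN] at this
  · intro X' hX' hX'n
    have h1 : SubnJoin.cj g⁻¹ X' ≤ X := by
      have := cj_mono (g := g⁻¹) hX'
      rwa [cj_inv_cj] at this
    have h2 := normalizer_cj_le hN hX'n g⁻¹
    rcases hmin _ h1 h2 with h3 | h3
    · left; exact cj_eq_bot h3
    · right
      rw [← h3, cj_cj_inv]

theorem exists_minNormIn [Finite G] {N M : Subgroup G} (hMN : M ≤ N)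
    (hnorm : N ≤ Subgroup.normalizer (M : Set G)) (hne : M ≠ ⊥) :
    ∃ X, X ≤ M ∧ MinNormIn N X := by
  obtain ⟨X, hX, hmin⟩ := WellFounded.has_min
    (wellFounded_lt : WellFounded ((· < ·) : Subgroup G → Subgroup G → Prop))
    {X : Subgroup G | X ≤ M ∧ N ≤ Subgroup.normalizer (X : Set G) ∧ X ≠ ⊥} ⟨M, le_rfl, hnorm, hne⟩
  obtain ⟨hXM, hXn, hXne⟩ := hX
  refine ⟨X, hXM, hXM.trans hMN, hXn, hXne, ?_⟩
  intro X' hX' hX'n
  by_cases hb : X' = ⊥
  · left; exact hb
  · right
    by_contra hne'
    exact hmin X' ⟨hX'.trans hXM, hX'n, hb⟩ (lt_of_le_of_ne hX' hne')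

theorem exists_isMinNormal [Finite G] [Nontrivial G] : ∃ M : Subgroup G, IsMinNormal M := by
  have hne : (⊤ : Subgroup G) ≠ ⊥ := top_ne_bot
  obtain ⟨X, _, hX⟩ := exists_minNormIn (N := (⊤ : Subgroup G)) (M := ⊤) le_rfl
    (le_of_eq (Subgroup.normalizer_eq_top_iff.2 inferInstance).symm) hne
  obtain ⟨_, hn, hne', hmin⟩ := hX
  have hXn : X.Normal := Subgroup.normalizer_eq_top_iff.1 (top_le_iff.1 hn)
  refine ⟨X, hXn, hne', ?_⟩
  intro M' hM' hle
  exact hmin M' hle (by rw [Subgroup.normalizer_eq_top_iff.2 hM'])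

end minnormal

/-- **Isaacs 2.6**: a minimal normal subgroup normalizes every subnormal subgroup. -/
theorem minNormal_le_normalizer : ∀ n : ℕ, ∀ (G : Type u) [Group G] [Finite G], Nat.card G = n →
    ∀ H : Subgroup G, H.IsSubnormal → ∀ M : Subgroup G, IsMinNormal M →
      M ≤ Subgroup.normalizer (H : Set G) := by
  intro n
  induction n using Nat.strong_induction_on with
  | _ n ih =>
    intro G _ _ hn H hH M hM
    obtain ⟨hMn, hMne, hMmin⟩ := hM
    by_cases hHtop : H = ⊤
    · rw [hHtop, Subgroup.normalizer_eq_top_iff.2 inferInstance]; exact le_top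
    obtain ⟨N, hNn, hHN, hNlt⟩ := hH.exists_normal_and_le_and_lt_top_of_ne hHtop
    by_cases hMN : M ⊓ N = ⊥
    · have h1 : M ≤ Subgroup.centralizer (N : Set G) := by
        intro m hm
        rw [Subgroup.mem_centralizer_iff]
        intro k hk
        exact ((Subgroup.commute_of_normal_of_disjoint M N hMn hNn (disjoint_iff.2 hMN)
          m k hm hk).eq).symm
      exact h1.trans ((Subgroup.centralizer_le hHN).trans (Subgroup.centralizer_le_normalizer _))
    · have hMleN : M ≤ N := by
        haveI := hMn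
        haveI := hNn
        have h1 : (M ⊓ N).Normal := inferInstance
        rcases hMmin (M ⊓ N) h1 inf_le_left with h2 | h2
        · exact absurd h2 hMN
        · rw [← h2]; exact inf_le_right
      have hcardN : Nat.card N < n := by
        rw [← hn]
        rcases (Subgroup.card_le_card_group N).lt_or_eq with h | h
        · exact h
        · exact absurd (Subgroup.card_eq_iff_eq_top N |>.1 h) hNlt.ne
      have hNnormM : N ≤ Subgroup.normalizer (M : Set G) := by
        rw [Subgroup.normalizer_eq_top_iff.2 hMn]; exact le_top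
      obtain ⟨X, hXM, hX⟩ := exists_minNormIn hMleN hNnormM hMne
      -- every conjugate of `X` normalizes `H`
      have hconj : ∀ g : G, cj g X ≤ Subgroup.normalizer (H : Set G) := by
        intro g
        have hXg := hX.cj hNn g
        have h1 := ih _ hcardN N rfl (H.subgroupOf N) hH.subgroupOf _ hXg.isMinNormal
        intro x hx
        have hxN : x ∈ N := hXg.1 hx
        have h2 : (⟨x, hxN⟩ : N) ∈ (cj g X).subgroupOf N := by
          rw [Subgroup.mem_subgroupOf]; exact hx
        have h3 := h1 h2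
        rw [← Subgroup.subgroupOf_normalizer_eq hHN, Subgroup.mem_subgroupOf] at h3
        exact h3
      -- the join of the conjugates is normal
      have hJn : (⨆ g : G, cj g X).Normal := by
        refine ⟨fun y hy k => ?_⟩
        have h1 : k * y * k⁻¹ ∈ cj k (⨆ g : G, cj g X) := conj_mem_cj hy
        have h2 : cj k (⨆ g : G, cj g X) ≤ ⨆ g : G, cj g X := by
          unfold cj
          rw [Subgroup.map_iSup]
          apply iSup_le
          intro g
          have := cj_cj k g X
          unfold cj at this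
          rw [this]
          exact le_iSup (fun g : G => X.map (MulAut.conj g).toMonoidHom) (k * g)
        exact h2 h1
      have hJle : (⨆ g : G, cj g X) ≤ M := by
        apply iSup_le
        intro g
        have := cj_mono (g := g) hXM
        rwa [cj_of_normal hMn] at this
      have hJne : (⨆ g : G, cj g X) ≠ ⊥ := by
        intro hb
        apply hX.2.2.1
        rw [eq_bot_iff, ← hb]
        have := le_iSup (fun g : G => cj g X) 1
        rwa [cj_one] at this
      rcases hMmin _ hJn hJle with h | h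
      · exact absurd h hJne
      · rw [← h]
        exact iSup_le hconj

/-- **Wielandt's join theorem** for finite groups. -/
theorem join_isSubnormal : ∀ n : ℕ, ∀ (G : Type u) [Group G] [Finite G], Nat.card G = n →
    ∀ H K : Subgroup G, H.IsSubnormal → K.IsSubnormal → (H ⊔ K).IsSubnormal := by
  intro n
  induction n using Nat.strong_induction_on with
  | _ n ih =>
    intro G _ _ hn H K hH hK
    by_cases hG : Subsingleton G
    · have : H ⊔ K = ⊤ := Subsingleton.elim _ _
      rw [this]; exact Subgroup.IsSubnormal.top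
    haveI : Nontrivial G := not_subsingleton_iff_nontrivial.1 hG
    obtain ⟨M, hM⟩ := exists_isMinNormal (G := G)
    haveI hMn : M.Normal := hM.1
    have hcard : Nat.card (G ⧸ M) < n := by
      rw [← hn, Subgroup.card_eq_card_quotient_mul_card_subgroup M]
      have h1 : 1 < Nat.card M := by
        rw [Subgroup.one_lt_card_iff_ne_bot]; exact hM.2.1
      have h2 : 0 < Nat.card (G ⧸ M) := Nat.card_pos
      nlinarith
    have h1 := ih _ hcard (G ⧸ M) rfl _ _ (hH.quotient (K := M)) (hK.quotient (K := M))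
    rw [← Subgroup.map_sup] at h1
    have h2 := h1.comap (QuotientGroup.mk' M)
    rw [Subgroup.comap_map_eq, QuotientGroup.ker_mk'] at h2
    have hMH := minNormal_le_normalizer _ G rfl H hH M hM
    have hMK := minNormal_le_normalizer _ G rfl K hK M hM
    have hMJ : M ≤ Subgroup.normalizer ((H ⊔ K : Subgroup G) : Set G) :=
      fun m hm => mem_normalizer_sup (hMH hm) (hMK hm)
    have hJ : (H ⊔ K) ⊔ M ≤ Subgroup.normalizer ((H ⊔ K : Subgroup G) : Set G) :=
      sup_le Subgroup.le_normalizer hMJ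
    exact Subgroup.IsSubnormal.step _ _ le_sup_left h2
      (Subgroup.normal_subgroupOf_of_le_normalizer hJ)

theorem sup_isSubnormal {G : Type u} [Group G] [Finite G] {H K : Subgroup G}
    (hH : H.IsSubnormal) (hK : K.IsSubnormal) : (H ⊔ K).IsSubnormal :=
  join_isSubnormal _ G rfl H K hH hK


section zipper

theorem cj_ne_top {G : Type*} [Group G] {g : G} {U : Subgroup G} (h : U ≠ ⊤) : cj g U ≠ ⊤ := by
  intro hc
  apply h
  have h1 := congrArg (cj g⁻¹) hc
  rw [cj_inv_cj] at h1
  rw [h1]
  exact cj_of_normal (inferInstance : (⊤ : Subgroup G).Normal)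

/-- a subnormal, non-normal subgroup has a conjugate, different from itself, normalizing it -/
theorem exists_conj_le_normalizer {Γ : Type*} [Group Γ] {S : Subgroup Γ} (hS : S.IsSubnormal)
    (hn : ¬ S.Normal) :
    ∃ x : Γ, x ∉ Subgroup.normalizer (S : Set Γ) ∧ cj x S ≤ Subgroup.normalizer (S : Set Γ) := by
  obtain ⟨n, f, hmono, hnorm, h0, hn'⟩ := hS.exists_chain
  have hex : ∃ i, ¬ f i ≤ Subgroup.normalizer (S : Set Γ) := by
    refine ⟨n, ?_⟩
    rw [hn', top_le_iff, Subgroup.normalizer_eq_top_iff]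
    exact hn
  classical
  have hi := Nat.find_spec hex
  have hmin := fun j => Nat.find_min hex (m := j)
  have hi0 : Nat.find hex ≠ 0 := by
    intro h
    rw [h, h0] at hi
    exact hi Subgroup.le_normalizer
  obtain ⟨j, hj⟩ := Nat.exists_eq_succ_of_ne_zero hi0
  have hfj : f j ≤ Subgroup.normalizer (S : Set Γ) := by
    by_contra hc
    exact hmin j (by omega) hc
  obtain ⟨x, hx, hxn⟩ := SetLike.not_le_iff_exists.1 hi
  refine ⟨x, hxn, ?_⟩
  have hxj : x ∈ Subgroup.normalizer ((f j : Subgroup Γ) : Set Γ) := by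
    have := (Subgroup.normal_subgroupOf_iff_le_normalizer (hmono (Nat.le_succ j))).1 (hnorm j)
    apply this
    rw [hj] at hx; exact hx
  have h1 : cj x S ≤ cj x (f j) := cj_mono (by rw [← h0]; exact hmono (Nat.zero_le j))
  rw [mem_normalizer_iff_cj.1 hxj] at h1
  exact h1.trans hfj

theorem exists_conj_le_normalizer_of_subnIn {G : Type*} [Group G] {S K : Subgroup G}
    (h : SubnIn S K) (hn : ¬ K ≤ Subgroup.normalizer (S : Set G)) :
    ∃ x ∈ K, x ∉ Subgroup.normalizer (S : Set G) ∧
      cj x S ≤ Subgroup.normalizer (S : Set G) := by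
  obtain ⟨hSK, hsn⟩ := h
  have hnn : ¬ (S.subgroupOf K).Normal := by
    intro hc
    exact hn ((Subgroup.normal_subgroupOf_iff_le_normalizer hSK).1 hc)
  obtain ⟨x, hx1, hx2⟩ := exists_conj_le_normalizer hsn hnn
  have hnorm := Subgroup.subgroupOf_normalizer_eq hSK
  refine ⟨x.1, x.2, ?_, ?_⟩
  · intro hc
    apply hx1
    rw [← hnorm, Subgroup.mem_subgroupOf]
    exact hc
  · intro y hy
    rw [mem_cj] at hy
    have hyK : y ∈ K := by
      have h1 : x.1 * (x.1⁻¹ * y * x.1) * x.1⁻¹ ∈ K :=
        K.mul_mem (K.mul_mem x.2 (hSK hy)) (K.inv_mem x.2)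
      have e : x.1 * (x.1⁻¹ * y * x.1) * x.1⁻¹ = y := by group
      rwa [e] at h1
    have h2 : (⟨y, hyK⟩ : K) ∈ cj x (S.subgroupOf K) := by
      rw [mem_cj, Subgroup.mem_subgroupOf]
      exact hy
    have h3 := hx2 h2
    rw [← hnorm, Subgroup.mem_subgroupOf] at h3
    exact h3

/-- **Wielandt's zipper lemma**, inductive form. -/
theorem zipper_aux {G : Type u} [Group G] [Finite G] : ∀ n : ℕ, ∀ S : Subgroup G,
    Nat.card G - Nat.card S = n →
    (∀ U : Subgroup G, S ≤ U → U ≠ ⊤ → SubnIn S U) → ¬ S.IsSubnormal →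
    ∀ K₁ K₂ : Subgroup G, IsCoatom K₁ → IsCoatom K₂ → S ≤ K₁ → S ≤ K₂ → K₁ = K₂ := by
  intro n
  induction n using Nat.strong_induction_on with
  | _ n ih =>
    intro S hn hU hS
    have hSn : Subgroup.normalizer (S : Set G) ≠ ⊤ := by
      intro hc
      exact hS (Subgroup.normalizer_eq_top_iff.1 hc).isSubnormal
    obtain ⟨M₀, hM₀, hNM₀⟩ := (IsCoatomic.eq_top_or_exists_le_coatom _).resolve_left hSn
    have key : ∀ K : Subgroup G, IsCoatom K → S ≤ K → K = M₀ := by
      intro K hK hSK
      by_cases hKN : K ≤ Subgroup.normalizer (S : Set G)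
      · have h1 : K ≤ M₀ := hKN.trans hNM₀
        rcases eq_or_lt_of_le h1 with h2 | h2
        · exact h2
        · exact absurd (hK.2 _ h2) hM₀.1
      · obtain ⟨x, hxK, hxn, hxS⟩ := exists_conj_le_normalizer_of_subnIn (hU K hSK hK.1) hKN
        have hST : S ≤ S ⊔ cj x S := le_sup_left
        have hTN : S ⊔ cj x S ≤ Subgroup.normalizer (S : Set G) :=
          sup_le Subgroup.le_normalizer hxS
        have hTK : S ⊔ cj x S ≤ K := by
          refine sup_le hSK ?_
          have := cj_mono (g := x) hSK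
          rwa [mem_normalizer_iff_cj.1 (Subgroup.le_normalizer hxK)] at this
        have hTM : S ⊔ cj x S ≤ M₀ := hTN.trans hNM₀
        have hcard : Nat.card S < Nat.card (S ⊔ cj x S : Subgroup G) := by
          by_contra hc
          push_neg at hc
          have h1 : S = S ⊔ cj x S := Subgroup.eq_of_le_of_card_ge hST hc
          apply hxn
          rw [mem_normalizer_iff_cj]
          have hle : cj x S ≤ S := by
            have h2 : cj x S ≤ S ⊔ cj x S := le_sup_right
            rwa [← h1] at h2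
          exact Subgroup.eq_of_le_of_card_ge hle (by rw [card_cj])
        have hT_hyp : ∀ U : Subgroup G, S ⊔ cj x S ≤ U → U ≠ ⊤ → SubnIn (S ⊔ cj x S) U := by
          intro U hTU hUtop
          have h1 : SubnIn S U := hU U (hST.trans hTU) hUtop
          have hxSU : cj x S ≤ U := le_sup_right.trans hTU
          have h2 : SubnIn (cj x S) U := by
            have h3 : S ≤ cj x⁻¹ U := by
              have := cj_mono (g := x⁻¹) hxSU
              rwa [cj_inv_cj] at this
            have h5 := (hU _ h3 (cj_ne_top hUtop)).cj x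
            rwa [cj_cj_inv] at h5
          refine ⟨hTU, ?_⟩
          rw [Subgroup.subgroupOf_sup h1.1 h2.1]
          exact sup_isSubnormal h1.2 h2.2
        have hT_nsn : ¬ (S ⊔ cj x S).IsSubnormal := fun hc =>
          hS (Subgroup.IsSubnormal.trans hST (SubnIn.of_normal hST hTN).2 hc)
        have hle := Subgroup.card_le_card_group (S ⊔ cj x S)
        exact ih (Nat.card G - Nat.card (S ⊔ cj x S : Subgroup G)) (by omega) _ rfl hT_hyp hT_nsn
          K M₀ hK hM₀ hTK hTM
    intro K₁ K₂ hK₁ hK₂ h1 h2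
    rw [key K₁ hK₁ h1, key K₂ hK₂ h2]

/-- **Wielandt's zipper lemma**: if `S` is subnormal in every proper subgroup containing it but not
in `G`, then `S` lies in a unique maximal subgroup. -/
theorem zipper {G : Type u} [Group G] [Finite G] (S : Subgroup G)
    (hU : ∀ U : Subgroup G, S ≤ U → U ≠ ⊤ → SubnIn S U) (hS : ¬ S.IsSubnormal) :
    ∃ M : Subgroup G, IsCoatom M ∧ S ≤ M ∧ ∀ K : Subgroup G, S ≤ K → K ≠ ⊤ → K ≤ M := by
  have hStop : S ≠ ⊤ := fun hc => hS (hc ▸ Subgroup.IsSubnormal.top)
  obtain ⟨M, hM, hSM⟩ := (IsCoatomic.eq_top_or_exists_le_coatom S).resolve_left hStop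
  refine ⟨M, hM, hSM, ?_⟩
  intro K hSK hK
  obtain ⟨M', hM', hKM'⟩ := (IsCoatomic.eq_top_or_exists_le_coatom K).resolve_left hK
  have := zipper_aux _ S rfl hU hS M' M hM' hM (hSK.trans hKM') hSM
  rw [← this]; exact hKM'

theorem map_cj_subtype {G : Type*} [Group G] (U : Subgroup G) (x : U) (X : Subgroup U) :
    (cj x X).map U.subtype = cj (x : G) (X.map U.subtype) := by
  ext y
  rw [mem_cj]
  constructor
  · rintro ⟨z, hz, rfl⟩
    have hz' : z ∈ cj x X := hz
    rw [mem_cj] at hz'
    exact ⟨x⁻¹ * z * x, hz', rfl⟩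
  · rintro ⟨z, hz, hzy⟩
    refine ⟨x * z * x⁻¹, conj_mem_cj hz, ?_⟩
    have h1 : (U.subtype z : G) = (x : G)⁻¹ * y * x := hzy
    show (x : G) * (U.subtype z : G) * (x : G)⁻¹ = y
    rw [h1]; group

end zipper

end Cfsg.Agent.Lib.Helper7.SubnJoin
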