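import Mathlib
import Cfsg.Prelude.Def_OddOrderLocal
import Cfsg.Agent.Lib.Helper4.Hall

set_option autoImplicit false

namespace Cfsg.Agent.Lib.Helper7

open Cfsg Cfsg.Agent.Lib.Helper4

open scoped Pointwise

/-- `π`-number -/
def IsPiNum (π : Set ℕ) (n : ℕ) : Prop := ∀ p : ℕ, p.Prime → p ∣ n → p ∈ π

/-- `π'`-number -/
def IsPiNum' (π : Set ℕ) (n : ℕ) : Prop := ∀ p : ℕ, p.Prime → p ∣ n → p ∉ π

theorem coprime_of_piNum {π : Set ℕ} {m n : ℕ} (hm : IsPiNum π m) (hn : IsPiNum' π n) :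
    m.Coprime n := by
  by_contra h
  obtain ⟨p, hp, h1, h2⟩ := Nat.Prime.not_coprime_iff_dvd.1 h
  exact hn p hp h2 (hm p hp h1)

theorem isPiNum_of_dvd {π : Set ℕ} {m n : ℕ} (h : m ∣ n) (hn : IsPiNum π n) : IsPiNum π m :=
  fun p hp hpm => hn p hp (hpm.trans h)

theorem isPiNum'_of_dvd {π : Set ℕ} {m n : ℕ} (h : m ∣ n) (hn : IsPiNum' π n) : IsPiNum' π m :=
  fun p hp hpm => hn p hp (hpm.trans h)

theorem isPiNum_mul {π : Set ℕ} {m n : ℕ} (hm : IsPiNum π m) (hn : IsPiNum π n) :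
    IsPiNum π (m * n) := by
  intro p hp h
  rcases (Nat.Prime.dvd_mul hp).1 h with h | h
  · exact hm p hp h
  · exact hn p hp h

theorem isPiNum'_mul {π : Set ℕ} {m n : ℕ} (hm : IsPiNum' π m) (hn : IsPiNum' π n) :
    IsPiNum' π (m * n) := by
  intro p hp h
  rcases (Nat.Prime.dvd_mul hp).1 h with h | h
  · exact hm p hp h
  · exact hn p hp h

theorem isPiNum_prime_pow {π : Set ℕ} {p : ℕ} (hp : p.Prime) (h : p ∈ π) (a : ℕ) :
    IsPiNum π (p ^ a) := by
  intro q hq hqa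
  have := (Nat.prime_dvd_prime_iff_eq hq hp).1 (hq.dvd_of_dvd_pow hqa)
  rw [this]; exact h

theorem isPiNum'_prime_pow {π : Set ℕ} {p : ℕ} (hp : p.Prime) (h : p ∉ π) (a : ℕ) :
    IsPiNum' π (p ^ a) := by
  intro q hq hqa
  have := (Nat.prime_dvd_prime_iff_eq hq hp).1 (hq.dvd_of_dvd_pow hqa)
  rw [this]; exact h

/-- decomposition of a positive integer into its `π`-part and `π'`-part -/
theorem exists_pi_decomp (π : Set ℕ) : ∀ N : ℕ, 0 < N →
    ∃ m n : ℕ, N = m * n ∧ IsPiNum π m ∧ IsPiNum' π n := by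
  intro N
  induction N using Nat.strong_induction_on with
  | _ N ih =>
  intro hN
  by_cases h1 : N = 1
  · refine ⟨1, 1, by rw [h1], ?_, ?_⟩
    · intro p hp h; exact absurd (Nat.dvd_one.1 h) hp.ne_one
    · intro p hp h; exact absurd (Nat.dvd_one.1 h) hp.ne_one
  · have hp : (N.minFac).Prime := Nat.minFac_prime h1
    obtain ⟨k, N', hN', hk⟩ := Nat.exists_eq_pow_mul_and_not_dvd hN.ne' N.minFac hp.ne_one
    have hkpos : 0 < k := by
      rcases Nat.eq_zero_or_pos k with h0 | h0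
      · exfalso
        rw [h0, pow_zero, one_mul] at hk
        exact hN' (hk ▸ Nat.minFac_dvd N)
      · exact h0
    have hN'pos : 0 < N' := by
      rcases Nat.eq_zero_or_pos N' with h0 | h0
      · rw [h0, mul_zero] at hk; omega
      · exact h0
    have hlt : N' < N := by
      rw [hk]
      have : 2 ≤ N.minFac ^ k := by
        calc 2 ≤ N.minFac := hp.two_le
          _ = N.minFac ^ 1 := (pow_one _).symm
          _ ≤ N.minFac ^ k := Nat.pow_le_pow_right hp.pos hkpos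
      nlinarith
    obtain ⟨m, n, hmn, hm, hn⟩ := ih N' hlt hN'pos
    by_cases hπ : N.minFac ∈ π
    · refine ⟨N.minFac ^ k * m, n, hk.trans (by rw [hmn]; ring), ?_, hn⟩
      exact isPiNum_mul (isPiNum_prime_pow hp hπ k) hm
    · refine ⟨m, N.minFac ^ k * n, hk.trans (by rw [hmn]; ring), hm, ?_⟩
      exact isPiNum'_mul (isPiNum'_prime_pow hp hπ k) hn

section sub
variable {X : Type*} [Group X]

theorem card_mul_relIndex_of_le {H G : Subgroup X} (h : H ≤ G) :
    Nat.card H * H.relIndex G = Nat.card G := by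
  have h1 := Subgroup.relIndex_mul_relIndex ⊥ H G bot_le h
  rwa [Subgroup.relIndex_bot_left, Subgroup.relIndex_bot_left] at h1

variable [Finite X]

theorem isPiHallOf_iff_card {π : Set ℕ} {G : Subgroup X} {m n : ℕ} (hcard : Nat.card G = m * n)
    (hm : IsPiNum π m) (hn : IsPiNum' π n) (H : Subgroup X) :
    IsPiHallOf π H G ↔ H ≤ G ∧ Nat.card H = m := by
  have hmpos : 0 < m := by
    rcases Nat.eq_zero_or_pos m with h0 | h0
    · rw [h0, zero_mul] at hcard
      exact absurd hcard Nat.card_pos.ne'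
    · exact h0
  constructor
  · rintro ⟨hle, h1, h2⟩
    refine ⟨hle, ?_⟩
    have h3 := card_mul_relIndex_of_le hle
    rw [hcard] at h3
    have h1' : IsPiNum π (Nat.card H) := h1
    have h2' : IsPiNum' π (H.relIndex G) := fun p hp hd hπ => h2 p hp hπ hd
    apply Nat.dvd_antisymm
    · have : Nat.card H ∣ m * n := ⟨_, h3.symm⟩
      exact (coprime_of_piNum h1' hn).dvd_of_dvd_mul_right this
    · have : m ∣ Nat.card H * H.relIndex G := ⟨n, h3⟩
      exact (coprime_of_piNum hm h2').dvd_of_dvd_mul_right this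
  · rintro ⟨hle, hc⟩
    refine ⟨hle, by rw [hc]; exact hm, ?_⟩
    have h3 := card_mul_relIndex_of_le hle
    rw [hcard, hc] at h3
    have h4 : H.relIndex G = n := Nat.eq_of_mul_eq_mul_left hmpos h3
    intro p hp hπ hd
    rw [h4] at hd
    exact hn p hp hd hπ

theorem isPiHallOf_cj {π : Set ℕ} {H G : Subgroup X} (h : IsPiHallOf π H G) (g : X) :
    IsPiHallOf π (cj g H) (cj g G) := by
  obtain ⟨h1, h2, h3⟩ := h
  refine ⟨cj_mono g h1, ?_, ?_⟩
  · rw [card_cj']; exact h2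
  · rw [cj_relIndex]; exact h3

theorem isPiHallOf_trans {π : Set ℕ} {H K G : Subgroup X} (h1 : IsPiHallOf π H K) (hKG : K ≤ G)
    (h2 : ∀ p : ℕ, p.Prime → p ∈ π → ¬ p ∣ K.relIndex G) : IsPiHallOf π H G := by
  refine ⟨h1.1.trans hKG, h1.2.1, ?_⟩
  intro p hp hπ hd
  rw [← Subgroup.relIndex_mul_relIndex H K G h1.1 hKG] at hd
  rcases (Nat.Prime.dvd_mul hp).1 hd with hd | hd
  · exact h1.2.2 p hp hπ hd
  · exact h2 p hp hπ hd

/-- Hall's theorems for a solvable subgroup `G` of `X`. -/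
theorem hallSub (G : Subgroup X) [hsolv : Group.IsSolvable G] (π : Set ℕ) :
    (∃ H : Subgroup X, IsPiHallOf π H G) ∧
    (∀ H₁ H₂ : Subgroup X, IsPiHallOf π H₁ G → IsPiHallOf π H₂ G → ∃ g ∈ G, cj g H₁ = H₂) ∧
    (∀ U : Subgroup X, U ≤ G → IsPiNum π (Nat.card U) → ∃ H : Subgroup X, IsPiHallOf π H G ∧ U ≤ H) := by
  obtain ⟨m, n, hcard, hm, hn⟩ := exists_pi_decomp π (Nat.card G) Nat.card_pos
  have hcop : m.Coprime n := coprime_of_piNum hm hn
  obtain ⟨hE, hC, hD⟩ := hall_all _ G rfl m n hcard hcop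
  refine ⟨?_, ?_, ?_⟩
  · obtain ⟨H', hH'⟩ := hE
    refine ⟨H'.map G.subtype, (isPiHallOf_iff_card hcard hm hn _).2 ⟨?_, ?_⟩⟩
    · exact Subgroup.map_subtype_le H'
    · rw [Subgroup.card_map_of_injective G.subtype_injective, hH']
  · intro H₁ H₂ h1 h2
    obtain ⟨h1le, h1c⟩ := (isPiHallOf_iff_card hcard hm hn _).1 h1
    obtain ⟨h2le, h2c⟩ := (isPiHallOf_iff_card hcard hm hn _).1 h2
    obtain ⟨g, hg⟩ := hC (H₁.subgroupOf G) (H₂.subgroupOf G)
      (by rw [card_subgroupOf_of_le h1le, h1c]) (by rw [card_subgroupOf_of_le h2le, h2c])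
    refine ⟨g, g.2, ?_⟩
    have h3 := congrArg (Subgroup.map G.subtype) hg
    rw [map_cj, Subgroup.subgroupOf_map_subtype, Subgroup.subgroupOf_map_subtype,
      inf_eq_left.2 h1le, inf_eq_left.2 h2le] at h3
    exact h3
  · intro U hU hUπ
    obtain ⟨H', hH', hUH'⟩ := hD (U.subgroupOf G)
      (by rw [card_subgroupOf_of_le hU]; exact coprime_of_piNum hUπ hn)
    refine ⟨H'.map G.subtype, (isPiHallOf_iff_card hcard hm hn _).2 ⟨?_, ?_⟩, ?_⟩
    · exact Subgroup.map_subtype_le H'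
    · rw [Subgroup.card_map_of_injective G.subtype_injective, hH']
    · intro u hu
      exact ⟨⟨u, hU hu⟩, hUH' (Subgroup.mem_subgroupOf.2 hu), rfl⟩

/-- the conjugation action of `X` on its subgroups -/
@[reducible] def conjSubAction (X : Type*) [Group X] : MulAction X (Subgroup X) :=
  MulAction.compHom (Subgroup X) (MulAut.conj (G := X))

theorem isPiHallOf_cj_of_mem {π : Set ℕ} {H G : Subgroup X} (h : IsPiHallOf π H G) {g : X}
    (hg : g ∈ Subgroup.normalizer (G : Set X)) : IsPiHallOf π (cj g H) G := by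
  have := isPiHallOf_cj h g
  rwa [cj_eq_of_mem_normalizer hg] at this

/-- coprime action: an `A`-invariant Hall `π`-subgroup exists -/
theorem hallA (A G : Subgroup X) (hAG : A ≤ Subgroup.normalizer (G : Set X))
    (hcop : (Nat.card A).Coprime (Nat.card G)) (hsolv : Group.IsSolvable G) (π : Set ℕ) :
    ∃ H : Subgroup X, IsPiHallOf π H G ∧ A ≤ Subgroup.normalizer (H : Set X) := by
  letI : MulAction X (Subgroup X) := conjSubAction X
  obtain ⟨⟨H₀, hH₀⟩, hC, -⟩ := hallSub G π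
  have key : ∀ a ∈ A, ∃ k ∈ G, a • H₀ = k • H₀ := by
    intro a ha
    obtain ⟨k, hk, hk'⟩ := hC H₀ (cj a H₀) hH₀ (isPiHallOf_cj_of_mem hH₀ (hAG ha))
    exact ⟨k, hk, hk'.symm⟩
  obtain ⟨k, hk, hfix⟩ := glauberman_fix A G hAG hcop (Or.inr hsolv) H₀ key
  refine ⟨cj k H₀, isPiHallOf_cj_of_mem hH₀ (Subgroup.le_normalizer hk), ?_⟩
  intro a ha
  exact Subgroup.mem_normalizer_iff_map_conj_eq.2 (hfix a ha)

/-- coprime action: `A`-invariant Hall `π`-subgroups are conjugate under `C_G(A)` -/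
theorem hallB (A G : Subgroup X) (hAG : A ≤ Subgroup.normalizer (G : Set X))
    (hcop : (Nat.card A).Coprime (Nat.card G)) (hsolv : Group.IsSolvable G) (π : Set ℕ)
    (H₁ H₂ : Subgroup X) (h1 : IsPiHallOf π H₁ G) (h1A : A ≤ Subgroup.normalizer (H₁ : Set X))
    (h2 : IsPiHallOf π H₂ G) (h2A : A ≤ Subgroup.normalizer (H₂ : Set X)) :
    ∃ c ∈ G ⊓ Subgroup.centralizer (A : Set X), cj c H₁ = H₂ := by
  letI : MulAction X (Subgroup X) := conjSubAction X
  obtain ⟨-, hC, -⟩ := hallSub G π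
  obtain ⟨k, hk, hk'⟩ := hC H₁ H₂ h1 h2
  have hω : ∀ a ∈ A, a • H₁ = H₁ := fun a ha => cj_eq_of_mem_normalizer (h1A ha)
  have hkω : ∀ a ∈ A, a • (k • H₁) = k • H₁ := by
    intro a ha
    show cj a (cj k H₁) = cj k H₁
    rw [hk']
    exact cj_eq_of_mem_normalizer (h2A ha)
  obtain ⟨c, hc, hc'⟩ := glauberman_trans A G hAG hcop (Or.inr hsolv) H₁ hω k hk hkω
  exact ⟨c, hc, hc'.trans hk'⟩

end sub

end Cfsg.Agent.Lib.Helper7
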