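import Mathlib

set_option autoImplicit false

namespace Cfsg.Agent.Lib.Helper7

variable {G : Type*} [Group G]

/-- the closure of a set of pairwise commuting elements is commutative (elementwise form) -/
theorem commute_of_mem_closure (S : Set G) (hcomm : ∀ a ∈ S, ∀ b ∈ S, a * b = b * a)
    (x y : G) (hx : x ∈ Subgroup.closure S) (hy : y ∈ Subgroup.closure S) : x * y = y * x := by
  have := (Subgroup.isMulCommutative_closure hcomm).is_comm.comm
    (⟨x, hx⟩ : Subgroup.closure S) ⟨y, hy⟩
  exact congrArg Subtype.val this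

/-- the closure of a set of pairwise commuting `p`-elements is a `p`-group -/
theorem isPGroup_closure_of_commute {p : ℕ} (S : Set G)
    (hcomm : ∀ a ∈ S, ∀ b ∈ S, a * b = b * a) (hS : ∀ a ∈ S, ∃ n : ℕ, a ^ p ^ n = 1) :
    IsPGroup p (Subgroup.closure S) := by
  have key : ∀ x (hx : x ∈ Subgroup.closure S), ∃ n : ℕ, x ^ p ^ n = 1 := by
    intro x hx
    induction hx using Subgroup.closure_induction with
    | mem x hx => exact hS x hx
    | one => exact ⟨0, by simp⟩
    | mul x y hx hy ihx ihy =>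
      obtain ⟨n, hn⟩ := ihx
      obtain ⟨m, hm⟩ := ihy
      refine ⟨n + m, ?_⟩
      have hc : Commute x y := commute_of_mem_closure S hcomm x y hx hy
      rw [hc.mul_pow]
      have h1 : x ^ p ^ (n + m) = 1 := by rw [pow_add, pow_mul, hn, one_pow]
      have h2 : y ^ p ^ (n + m) = 1 := by rw [pow_add, mul_comm, pow_mul, hm, one_pow]
      rw [h1, h2, one_mul]
    | inv x hx ih =>
      obtain ⟨n, hn⟩ := ih
      exact ⟨n, by rw [inv_pow, hn, inv_one]⟩
  rintro ⟨x, hx⟩
  obtain ⟨n, hn⟩ := key x hx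
  exact ⟨n, Subtype.ext (by simpa using hn)⟩

end Cfsg.Agent.Lib.Helper7
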