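import Mathlib

set_option autoImplicit false

namespace Cfsg.Agent.Lib.Helper7

open scoped commutatorElement

variable {G : Type*} [Group G]

/-- relative centralizer of `C` modulo a normal subgroup `N`, as a subgroup -/
def relCentralizer (N C : Subgroup G) [hN : N.Normal] : Subgroup G where
  carrier := {x | ∀ c ∈ C, ⁅x, c⁆ ∈ N}
  mul_mem' := by
    intro x y hx hy c hc
    have h : ⁅x * y, c⁆ = x * ⁅y, c⁆ * x⁻¹ * ⁅x, c⁆ := by
      simp only [commutatorElement_def]; group
    rw [h]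
    exact N.mul_mem (hN.conj_mem _ (hy c hc) x) (hx c hc)
  one_mem' := by
    intro c _
    simp
  inv_mem' := by
    intro x hx c hc
    have h : ⁅x⁻¹, c⁆ = x⁻¹ * ⁅x, c⁆⁻¹ * x := by
      simp only [commutatorElement_def]; group
    rw [h]
    have := hN.conj_mem _ (N.inv_mem (hx c hc)) x⁻¹
    simpa using this

theorem commutator_le_iff_le_relCentralizer (N A C : Subgroup G) [N.Normal] :
    ⁅A, C⁆ ≤ N ↔ A ≤ relCentralizer N C := by
  rw [Subgroup.commutator_le]
  exact ⟨fun h a ha c hc => h a ha c hc, fun h a ha c hc => h ha c hc⟩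

theorem commutator_sup_left_le (N A B C : Subgroup G) [N.Normal]
    (hA : ⁅A, C⁆ ≤ N) (hB : ⁅B, C⁆ ≤ N) : ⁅A ⊔ B, C⁆ ≤ N := by
  rw [commutator_le_iff_le_relCentralizer] at *
  exact sup_le hA hB

theorem commutator_sup_right_le (N A B C : Subgroup G) [N.Normal]
    (hA : ⁅C, A⁆ ≤ N) (hB : ⁅C, B⁆ ≤ N) : ⁅C, A ⊔ B⁆ ≤ N := by
  rw [Subgroup.commutator_comm C A] at hA
  rw [Subgroup.commutator_comm C B] at hB
  rw [Subgroup.commutator_comm]
  exact commutator_sup_left_le N A B C hA hB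

theorem commutator_iSup_left_le {ι : Sort*} (N : Subgroup G) (A : ι → Subgroup G) (C : Subgroup G)
    [N.Normal] (hA : ∀ i, ⁅A i, C⁆ ≤ N) : ⁅⨆ i, A i, C⁆ ≤ N := by
  rw [commutator_le_iff_le_relCentralizer]
  apply iSup_le
  intro i
  rw [← commutator_le_iff_le_relCentralizer]
  exact hA i

end Cfsg.Agent.Lib.Helper7
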