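import Mathlib

set_option autoImplicit false
set_option maxHeartbeats 800000
set_option linter.unusedSectionVars false

namespace Cfsg.Agent.Lib.Helper7.CoprimeAbelian

/-- Coprime action of an automorphism on a finite commutative group: every element is
congruent, modulo the image of `u ↦ u / α u`, to a fixed point of `α`. -/
theorem exists_fixed_mul_div {A : Type*} [CommGroup A] [Finite A] (α : MulAut A) (n : ℕ)
    (hn : α ^ n = 1) (hcop : Nat.Coprime n (Nat.card A)) (v : A) :
    ∃ u : A, α (v * (u / α u)) = v * (u / α u) := by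
  classical
  -- the hom φ
  let φ : A →* A :=
    { toFun := fun u => u / α u
      map_one' := by simp
      map_mul' := by intro a b; simp [mul_div_mul_comm] }
  have hφ : ∀ u, φ u = u / α u := fun u => rfl
  have hIα : ∀ w ∈ φ.range, α w ∈ φ.range := by
    rintro w ⟨u, rfl⟩
    exact ⟨α u, by simp [hφ]⟩
  have hIpow : ∀ (i : ℕ), ∀ w ∈ φ.range, (α ^ i) w ∈ φ.range := by
    intro i
    induction i with
    | zero => intro w hw; simpa using hw
    | succ i ih =>
      intro w hw
      rw [pow_succ', MulAut.mul_apply]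
      exact hIα _ (ih w hw)
  have h2 : ∀ i : ℕ, v / (α ^ i) v ∈ φ.range := by
    intro i
    induction i with
    | zero => simp
    | succ i ih =>
      have : v / (α ^ (i + 1)) v = (v / (α ^ i) v) * (α ^ i) (φ v) := by
        rw [hφ, map_div, pow_succ, MulAut.mul_apply]
        simp
      rw [this]
      exact φ.range.mul_mem ih (hIpow i _ ⟨v, rfl⟩)
  set P : A := ∏ i ∈ Finset.range n, (α ^ i) v with hP
  have hPfix : α P = P := by
    rw [hP, map_prod]
    have : ∀ i ∈ Finset.range n, α ((α ^ i) v) = (α ^ (i + 1)) v := by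
      intro i _; rw [pow_succ', MulAut.mul_apply]
    rw [Finset.prod_congr rfl this]
    rcases Nat.eq_zero_or_pos n with h0 | hpos
    · subst h0; simp
    · obtain ⟨m, rfl⟩ := Nat.exists_eq_succ_of_ne_zero hpos.ne'
      rw [Finset.prod_range_succ, Finset.prod_range_succ', hn]
      simp [mul_comm]
  have h3 : v ^ n / P ∈ φ.range := by
    have : v ^ n / P = ∏ i ∈ Finset.range n, (v / (α ^ i) v) := by
      rw [Finset.prod_div_distrib, Finset.prod_const, Finset.card_range]
    rw [this]
    exact Subgroup.prod_mem _ (fun i _ => h2 i)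
  -- choose k
  have hk : ∃ k : ℕ, ∀ a : A, a ^ (n * k) = a := by
    by_cases h1 : Nat.card A = 1
    · refine ⟨0, ?_⟩
      intro a
      have : Subsingleton A := (Nat.card_eq_one_iff_unique.mp h1).1
      simp [Subsingleton.elim a 1]
    · have hpos : 0 < Nat.card A := Nat.card_pos
      obtain ⟨k, -, hk⟩ := Nat.exists_mul_mod_eq_one_of_coprime hcop (by omega)
      refine ⟨k, fun a => ?_⟩
      rw [← pow_mod_natCard, hk, pow_one]
  obtain ⟨k, hk⟩ := hk
  have h4 : v / P ^ k ∈ φ.range := by
    have : v / P ^ k = (v ^ n / P) ^ k := by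
      rw [div_pow, ← pow_mul, hk]
    rw [this]
    exact φ.range.pow_mem h3 k
  obtain ⟨u, hu⟩ := h4
  refine ⟨u⁻¹, ?_⟩
  have hc : v * (u⁻¹ / α u⁻¹) = P ^ k := by
    rw [hφ] at hu
    have : u⁻¹ / α u⁻¹ = (u / α u)⁻¹ := by
      rw [map_inv, inv_div_inv, inv_div]
    rw [this, hu]
    simp
  rw [hc, map_pow, hPfix]

end Cfsg.Agent.Lib.Helper7.CoprimeAbelian
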