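import Mathlib

set_option autoImplicit false

namespace Cfsg.Agent.Lib.Helper7

theorem modEq_one_of_pow_modEq_one (p : ℕ) [hp : Fact p.Prime] (m k e : ℕ) (hk : k ≡ 1 [MOD p])
    (hke : k ^ e ≡ 1 [MOD p ^ m]) (he : e.Coprime p) : k ≡ 1 [MOD p ^ m] := by
  rcases Nat.eq_zero_or_pos m with rfl | hm
  · rw [pow_zero]; exact Nat.modEq_one
  have h1 : (k : ZMod (p ^ m)) ^ e = 1 := by
    have := (ZMod.natCast_eq_natCast_iff _ _ _).mpr hke
    push_cast at this; exact this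
  have h2 : (k : ZMod (p ^ m)) ^ (p ^ (m - 1)) = 1 := by
    have hd : (p : ℤ) ∣ (k : ℤ) - 1 := by
      have := (Nat.modEq_iff_dvd.mp hk.symm)
      simpa using this
    have h3 := dvd_sub_pow_of_dvd_sub hd (m - 1)
    rw [Nat.sub_add_cancel hm, one_pow] at h3
    have h4 : (((k : ℤ) ^ p ^ (m - 1) - 1 : ℤ) : ZMod (p ^ m)) = 0 := by
      rw [ZMod.intCast_zmod_eq_zero_iff_dvd]
      push_cast
      exact h3
    push_cast at h4
    exact sub_eq_zero.mp h4
  have ho1 : orderOf (k : ZMod (p ^ m)) ∣ e := orderOf_dvd_of_pow_eq_one h1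
  have ho2 : orderOf (k : ZMod (p ^ m)) ∣ p ^ (m - 1) := orderOf_dvd_of_pow_eq_one h2
  have ho : orderOf (k : ZMod (p ^ m)) = 1 :=
    Nat.eq_one_of_dvd_coprimes (Nat.Coprime.pow_right _ he) ho1 ho2
  rw [orderOf_eq_one_iff] at ho
  have : ((k : ℕ) : ZMod (p ^ m)) = ((1 : ℕ) : ZMod (p ^ m)) := by
    rw [ho]; simp
  exact (ZMod.natCast_eq_natCast_iff _ _ _).mp this

theorem conj_pow_eq {G : Type*} [Group G] (c t : G) (k : ℕ) (h : c * t * c⁻¹ = t ^ k) (i : ℕ) :
    c ^ i * t * (c ^ i)⁻¹ = t ^ (k ^ i) := by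
  induction i with
  | zero => simp
  | succ i ih =>
    have e : c ^ (i + 1) * t * (c ^ (i + 1))⁻¹ = c * (c ^ i * t * (c ^ i)⁻¹) * c⁻¹ := by
      rw [pow_succ']; group
    rw [e, ih]
    have e2 : c * t ^ k ^ i * c⁻¹ = (c * t * c⁻¹) ^ k ^ i := by
      rw [conj_pow]
    rw [e2, h, ← pow_mul, pow_succ, mul_comm]

/-- A `p'`-automorphism of a cyclic `p`-group fixing a nontrivial element is trivial (elementwise
form inside an ambient group). -/
theorem commute_of_cyclic_action {G : Type*} [Group G] (p : ℕ) [hp : Fact p.Prime] (c t : G)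
    (m k e j : ℕ) (ht : orderOf t = p ^ m) (hct : c * t * c⁻¹ = t ^ k) (he : e.Coprime p)
    (hce : c ^ e * t = t * c ^ e) (hj : ¬ p ^ m ∣ j) (hcj : c * t ^ j = t ^ j * c) :
    c * t = t * c := by
  have h1 : k ^ e ≡ 1 [MOD p ^ m] := by
    have h := conj_pow_eq c t k hct e
    rw [hce, mul_assoc, mul_inv_cancel, mul_one] at h
    rw [← ht]
    apply pow_eq_pow_iff_modEq.mp
    rw [pow_one]; exact h.symm
  have h2 : k ≡ 1 [MOD p] := by
    have h3 : c * t ^ j * c⁻¹ = t ^ (k * j) := by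
      rw [← conj_pow, hct, ← pow_mul]
    rw [hcj, mul_assoc, mul_inv_cancel, mul_one] at h3
    have h4 : j ≡ k * j [MOD p ^ m] := by
      rw [← ht]; exact pow_eq_pow_iff_modEq.mp h3
    by_contra hk
    apply hj
    have h5 : ((p ^ m : ℕ) : ℤ) ∣ ((k * j : ℕ) : ℤ) - (j : ℤ) := Nat.modEq_iff_dvd.mp h4
    have h6 : ((k * j : ℕ) : ℤ) - (j : ℤ) = ((k : ℤ) - 1) * j := by push_cast; ring
    rw [h6] at h5
    have hcop : IsCoprime (((p ^ m : ℕ) : ℤ)) ((k : ℤ) - 1) := by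
      push_cast
      apply IsCoprime.pow_left
      rw [Prime.coprime_iff_not_dvd (Nat.prime_iff_prime_int.mp hp.out)]
      intro hd
      apply hk
      apply Nat.ModEq.symm
      apply Nat.modEq_iff_dvd.mpr
      simpa using hd
    have := hcop.dvd_of_dvd_mul_left h5
    exact Int.natCast_dvd_natCast.mp this
  have h3 := modEq_one_of_pow_modEq_one p m k e h2 h1 he
  have h4 : t ^ k = t ^ 1 := by
    apply pow_eq_pow_iff_modEq.mpr
    rw [ht]; exact h3
  rw [pow_one] at h4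
  rw [h4] at hct
  have : c * t = (c * t * c⁻¹) * c := by group
  rw [this, hct]

end Cfsg.Agent.Lib.Helper7
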