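import Mathlib
import Cfsg.Agent.Lib.Helper7.CyclicAut

set_option autoImplicit false
set_option linter.unusedSectionVars false
set_option maxHeartbeats 800000

namespace Cfsg.Agent.Lib.Helper7.CycSylow

open Cfsg.Agent.Lib.Helper7

variable {G : Type*} [Group G] [Finite G]

/-- A `p`-element normalizing a Sylow `p`-subgroup lies in it. -/
theorem mem_sylow_of_mem_normalizer {p : ℕ} [hp : Fact p.Prime] (P : Sylow p G) (x : G) (a : ℕ)
    (hx : orderOf x = p ^ a) (hxN : x ∈ Subgroup.normalizer ((P : Subgroup G) : Set G)) :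
    x ∈ (P : Subgroup G) := by
  have h1 : IsPGroup p (Subgroup.zpowers x) := by
    rw [IsPGroup.iff_card]
    exact ⟨a, by rw [Nat.card_zpowers, hx]⟩
  have h2 : Subgroup.zpowers x ≤ Subgroup.normalizer ((P : Subgroup G) : Set G) := by
    rw [Subgroup.zpowers_le]; exact hxN
  have h3 : IsPGroup p (Subgroup.zpowers x ⊔ (P : Subgroup G) : Subgroup G) :=
    IsPGroup.to_sup_of_normal_right' h1 P.2 h2
  have h4 := P.is_maximal' h3 le_sup_right
  have h5 : Subgroup.zpowers x ≤ (P : Subgroup G) := by
    rw [← h4]; exact le_sup_left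
  exact h5 (Subgroup.mem_zpowers x)

/-- An element normalizing a cyclic Sylow `p`-subgroup and centralizing a nonidentity element of it
centralizes it. -/
theorem commute_of_fix {p : ℕ} [hp : Fact p.Prime] (P : Sylow p G)
    (hP : IsCyclic ↥(P : Subgroup G)) (h : G)
    (hN : h ∈ Subgroup.normalizer ((P : Subgroup G) : Set G))
    (x : G) (hxP : x ∈ (P : Subgroup G)) (hx1 : x ≠ 1) (hhx : h * x = x * h) :
    ∀ y ∈ (P : Subgroup G), h * y = y * h := by
  obtain ⟨g, hg⟩ := hP.exists_generator
  obtain ⟨m, hm⟩ := (IsPGroup.iff_card.mp P.2)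
  have hot : orderOf (g : G) = p ^ m := by
    rw [← hm, Subgroup.orderOf_coe, ← Nat.card_zpowers]
    have : Subgroup.zpowers g = ⊤ := by
      rw [eq_top_iff]; intro y _; exact hg y
    rw [this, Nat.card_congr (Subgroup.topEquiv (G := ↥(P : Subgroup G))).toEquiv]
  have hpow : ∀ y ∈ (P : Subgroup G), ∃ j : ℕ, y = (g : G) ^ j := by
    intro y hy
    have h1 := hg ⟨y, hy⟩
    have hfin : IsOfFinOrder g := isOfFinOrder_of_finite g
    rw [← mem_powers_iff_mem_zpowers] at h1
    obtain ⟨j, hj⟩ := h1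
    refine ⟨j, ?_⟩
    have := congrArg Subtype.val hj
    simpa using this.symm
  have hconj : h * (g : G) * h⁻¹ ∈ (P : Subgroup G) :=
    (Subgroup.mem_normalizer_iff.mp hN (g : G)).mp g.2
  obtain ⟨k, hk⟩ := hpow _ hconj
  obtain ⟨j, hj⟩ := hpow x hxP
  have hjnd : ¬ p ^ m ∣ j := by
    intro hd
    apply hx1
    rw [hj, ← hot] at *
    exact orderOf_dvd_iff_pow_eq_one.mp hd
  -- the p'-part of the order of h
  set e := ordCompl[p] (orderOf h) with he
  have hecop : e.Coprime p := by
    have h0 : orderOf h ≠ 0 := (orderOf_pos h).ne'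
    exact (Nat.coprime_ordCompl hp.out h0).symm
  have hoe : orderOf (h ^ e) = p ^ (orderOf h).factorization p := by
    have h1 : e ∣ orderOf h := Nat.ordCompl_dvd _ _
    rw [orderOf_pow_of_dvd _ h1]
    · rw [he]
      have := Nat.ordProj_mul_ordCompl_eq_self (orderOf h) p
      have hpos : 0 < ordCompl[p] (orderOf h) := Nat.ordCompl_pos p (orderOf_pos h).ne'
      exact Nat.div_eq_of_eq_mul_left hpos this.symm
    · exact (Nat.ordCompl_pos p (orderOf_pos h).ne').ne'
  have heN : h ^ e ∈ Subgroup.normalizer ((P : Subgroup G) : Set G) := Subgroup.pow_mem _ hN e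
  have heP : h ^ e ∈ (P : Subgroup G) := mem_sylow_of_mem_normalizer P _ _ hoe heN
  have hcomm_e : h ^ e * (g : G) = (g : G) * h ^ e := by
    obtain ⟨i, hi⟩ := hpow _ heP
    rw [hi, ← pow_succ, ← pow_succ']
  have hmain : h * (g : G) = (g : G) * h := by
    apply commute_of_cyclic_action p h (g : G) m k e j hot hk hecop hcomm_e hjnd
    rw [← hj]; exact hhx
  intro y hy
  obtain ⟨i, hi⟩ := hpow y hy
  rw [hi]
  exact ((Commute.pow_right (show Commute h (g : G) from hmain) i)).eq

/-- **Burnside dichotomy for a cyclic Sylow `p`-subgroup**: either there is a normal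
`p`-complement, or some element of the normalizer acts without nontrivial fixed points. -/
theorem complement_or_fpf {p : ℕ} [hp : Fact p.Prime] (P : Sylow p G)
    (hP : IsCyclic ↥(P : Subgroup G)) :
    (∃ T : Subgroup G, T.Normal ∧ (Nat.card T).Coprime p ∧ Nat.card T * Nat.card (P : Subgroup G) = Nat.card G) ∨
    (∃ h ∈ Subgroup.normalizer ((P : Subgroup G) : Set G),
      ∀ x ∈ (P : Subgroup G), h * x = x * h → x = 1) := by
  by_cases hN : Subgroup.normalizer ((P : Subgroup G) : Set G) ≤ Subgroup.centralizer ((P : Subgroup G) : Set G)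
  · left
    have hc := MonoidHom.ker_transferSylow_isComplement' P hN
    refine ⟨(MonoidHom.transferSylow P hN).ker, inferInstance, ?_, hc.card_mul_card⟩
    rw [← hc.index_eq_card]
    have h1 : ¬ p ∣ (P : Subgroup G).index := P.not_dvd_index
    exact (Nat.Coprime.symm ((Nat.Prime.coprime_iff_not_dvd hp.out).mpr h1))
  · right
    rw [SetLike.not_le_iff_exists] at hN
    obtain ⟨h, hhN, hhC⟩ := hN
    refine ⟨h, hhN, ?_⟩
    intro x hxP hhx
    by_contra hx1
    apply hhC
    rw [Subgroup.mem_centralizer_iff]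
    intro y hy
    exact (commute_of_fix P hP h hhN x hxP hx1 hhx y hy).symm

end Cfsg.Agent.Lib.Helper7.CycSylow
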