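import Mathlib
import Cfsg.Agent.Lib.Helper7.CyclicAut

set_option autoImplicit false

namespace Cfsg.Agent.Lib.Helper7

/-- variant of `commute_of_cyclic_action` with the congruence `k ≡ 1 [MOD p]` given directly -/
theorem commute_of_cyclic_action' {G : Type*} [Group G] (p : ℕ) [hp : Fact p.Prime] (c t : G)
    (m k e : ℕ) (ht : orderOf t = p ^ m) (hct : c * t * c⁻¹ = t ^ k) (he : e.Coprime p)
    (hce : c ^ e * t = t * c ^ e) (h2 : k ≡ 1 [MOD p]) :
    c * t = t * c := by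
  have h1 : k ^ e ≡ 1 [MOD p ^ m] := by
    have h := conj_pow_eq c t k hct e
    rw [hce, mul_assoc, mul_inv_cancel, mul_one] at h
    rw [← ht]
    apply pow_eq_pow_iff_modEq.mp
    rw [pow_one]; exact h.symm
  have h3 := modEq_one_of_pow_modEq_one p m k e h2 h1 he
  have h4 : t ^ k = t ^ 1 := by
    apply pow_eq_pow_iff_modEq.mpr
    rw [ht]; exact h3
  rw [pow_one] at h4
  rw [h4] at hct
  have : c * t = (c * t * c⁻¹) * c := by group
  rw [this, hct]

/-- an element normalizing `⟨t⟩`, `t` a `2`-element, conjugates `t` to an odd power -/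
theorem odd_exponent_of_conj {G : Type*} [Group G] (c t : G) (m k : ℕ) (hm : 0 < m)
    (ht : orderOf t = 2 ^ m) (hct : c * t * c⁻¹ = t ^ k) : k ≡ 1 [MOD 2] := by
  by_contra hk
  have hk2 : k % 2 = 0 := by
    have : k % 2 ≠ 1 := fun h => hk h
    omega
  obtain ⟨k', rfl⟩ : 2 ∣ k := Nat.dvd_of_mod_eq_zero hk2
  have h1 : (c * t * c⁻¹) ^ 2 ^ (m - 1) = 1 := by
    rw [hct, ← pow_mul, mul_comm 2 k', mul_assoc, ← pow_succ', Nat.sub_add_cancel hm, mul_comm,
      pow_mul, ← ht, pow_orderOf_eq_one, one_pow]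
  rw [conj_pow] at h1
  have h2 : t ^ 2 ^ (m - 1) = 1 := by
    have : t ^ 2 ^ (m - 1) = c⁻¹ * (c * t ^ 2 ^ (m - 1) * c⁻¹) * c := by group
    rw [this, h1]; group
  have h3 : orderOf t ∣ 2 ^ (m - 1) := orderOf_dvd_of_pow_eq_one h2
  rw [ht] at h3
  have h4 : m ≤ m - 1 := (Nat.pow_dvd_pow_iff_le_right (by norm_num)).mp h3
  omega

end Cfsg.Agent.Lib.Helper7
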