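import Mathlib
import Cfsg.Agent.Lib.Helper7.PiHall

set_option autoImplicit false

namespace Cfsg.Agent.Lib.Helper7

/-- Decomposition of an element of a finite group into commuting `π`- and `π'`-parts. -/
theorem elt_pi_decomp {X : Type*} [Group X] [Finite X] (π : Set ℕ) (x : X) :
    ∃ u v : X, u * v = x ∧ u ∈ Subgroup.zpowers x ∧ v ∈ Subgroup.zpowers x ∧
      IsPiNum π (orderOf u) ∧ IsPiNum' π (orderOf v) := by
  obtain ⟨m, m', hn, hm, hm'⟩ := exists_pi_decomp π (orderOf x) (orderOf_pos x)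
  have hcop : Nat.Coprime m m' := coprime_of_piNum hm hm'
  obtain ⟨k, hk1, hk2⟩ := Nat.chineseRemainder hcop 1 0
  obtain ⟨l, hl1, hl2⟩ := Nat.chineseRemainder hcop 0 1
  refine ⟨x ^ k, x ^ l, ?_, ⟨k, by simp⟩, ⟨l, by simp⟩, ?_, ?_⟩
  · rw [← pow_add]
    have : k + l ≡ 1 [MOD orderOf x] := by
      rw [hn]
      apply (Nat.modEq_and_modEq_iff_modEq_mul hcop).1
      constructor
      · have := hk1.add hl1; simpa using this
      · have := hk2.add hl2; simpa using this
    calc x ^ (k + l) = x ^ 1 := pow_eq_pow_iff_modEq.2 this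
      _ = x := pow_one x
  · have h1 : (x ^ k) ^ m = 1 := by
      rw [← pow_mul]
      apply orderOf_dvd_iff_pow_eq_one.1
      rw [hn]
      have : m' ∣ k := (Nat.modEq_zero_iff_dvd).1 hk2
      rw [mul_comm k]
      exact Nat.mul_dvd_mul_left _ this
    have h2 : orderOf (x ^ k) ∣ m := orderOf_dvd_of_pow_eq_one h1
    intro q hq hqd
    exact hm q hq (hqd.trans h2)
  · have h1 : (x ^ l) ^ m' = 1 := by
      rw [← pow_mul]
      apply orderOf_dvd_iff_pow_eq_one.1
      rw [hn]
      have : m ∣ l := (Nat.modEq_zero_iff_dvd).1 hl1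
      exact Nat.mul_dvd_mul this (dvd_refl m')
    have h2 : orderOf (x ^ l) ∣ m' := orderOf_dvd_of_pow_eq_one h1
    intro q hq hqd
    exact hm' q hq (hqd.trans h2)

end Cfsg.Agent.Lib.Helper7
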