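import Mathlib
import Cfsg.Prelude
import Cfsg.Agent.Lib.Helper1.NilpCenter
import Cfsg.Agent.Lib.Helper2.Index

set_option autoImplicit false
open Cfsg

namespace Cfsg.Agent.Lib.Helper7

/-- A subgroup of index `p` in a finite `p`-group is normal. -/
theorem normal_of_index_p {S : Type*} [Group S] [Finite S] (p : ℕ) [hp : Fact p.Prime]
    (hS : IsPGroup p S) (Q : Subgroup S) (hQi : Q.index = p) : Q.Normal := by
  obtain ⟨n, hn⟩ := IsPGroup.iff_card.1 hS
  apply Subgroup.normal_of_index_eq_minFac_card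
  rw [hQi, hn]
  have hn0 : n ≠ 0 := by
    rintro rfl
    rw [pow_zero] at hn
    have h1 : Q.index ∣ 1 := hn ▸ Subgroup.index_dvd_card Q
    rw [hQi] at h1
    exact hp.out.one_lt.ne' (Nat.dvd_one.1 h1)
  exact (Nat.Prime.pow_minFac hp.out hn0).symm

/-- Setting: `Q` extraspecial of index `p` in the `p`-group `S`. Then `Q ⊓ Z(S) = Z(Q)`. -/
theorem extra_inf_center {S : Type*} [Group S] [Finite S] (p : ℕ) [hp : Fact p.Prime]
    (hS : IsPGroup p S) (Q : Subgroup S) (hQ : Cfsg.IsExtraspecial p ↥Q) (hQi : Q.index = p) :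
    Q ⊓ Subgroup.center S = (Subgroup.center ↥Q).map Q.subtype := by
  haveI hQn : Q.Normal := normal_of_index_p p hS Q hQi
  obtain ⟨⟨hQp, hfr, hcomm⟩, hZp⟩ := hQ
  haveI : Group.IsNilpotent S := hS.isNilpotent
  have hQ1 : Q ≠ ⊥ := by
    intro h
    have h1 : Nat.card ↥Q = 1 := by rw [h]; exact Subgroup.card_bot
    have h2 : Nat.card (Subgroup.center ↥Q) ∣ 1 := h1 ▸ Subgroup.card_subgroup_dvd_card _
    rw [hZp] at h2
    exact hp.out.one_lt.ne' (Nat.dvd_one.1 h2)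
  obtain ⟨x, hxQ, hxZ, hx1⟩ := Cfsg.Agent.Lib.Helper1.exists_mem_center_of_isNilpotent Q hQ1
  have hle : Q ⊓ Subgroup.center S ≤ (Subgroup.center ↥Q).map Q.subtype := by
    intro z hz
    obtain ⟨hzQ, hzZ⟩ := Subgroup.mem_inf.1 hz
    refine ⟨⟨z, hzQ⟩, ?_, rfl⟩
    rw [SetLike.mem_coe, Subgroup.mem_center_iff]
    intro g
    apply Subtype.ext
    exact (Subgroup.mem_center_iff.1 hzZ g.1)
  have hcardZQ : Nat.card ((Subgroup.center ↥Q).map Q.subtype) = p := by
    rw [Subgroup.card_map_of_injective Q.subtype_injective]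
    exact hZp
  apply Subgroup.eq_of_le_of_card_ge hle
  rw [hcardZQ]
  have hdvd : Nat.card ↥(Q ⊓ Subgroup.center S) ∣ p := hcardZQ ▸ Subgroup.card_dvd_of_le hle
  rcases (Nat.dvd_prime hp.out).1 hdvd with h1 | hp'
  · exfalso
    have hbot : Q ⊓ Subgroup.center S = ⊥ := Subgroup.card_eq_one.1 h1
    have hx : x ∈ Q ⊓ Subgroup.center S := Subgroup.mem_inf.2 ⟨hxQ, hxZ⟩
    rw [hbot, Subgroup.mem_bot] at hx
    exact hx1 hx
  · exact hp'.ge

end Cfsg.Agent.Lib.Helper7
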