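import Mathlib

set_option autoImplicit false

namespace Cfsg.Agent.Lib.Helper7

open scoped commutatorElement

theorem comm_mul_right_of_central {G : Type*} [Group G] (x y z : G)
    (hz : ⁅x, z⁆ ∈ Subgroup.center G) : ⁅x, y * z⁆ = ⁅x, y⁆ * ⁅x, z⁆ := by
  have h1 := Subgroup.mem_center_iff.1 hz
  have h2 : ⁅x, y * z⁆ = x * y * x⁻¹ * ⁅x, z⁆ * y⁻¹ := by
    simp only [commutatorElement_def]; group
  rw [h2, mul_assoc (x * y * x⁻¹), ← h1 y⁻¹, ← mul_assoc]
  simp only [commutatorElement_def]

/-- The homomorphism `s ↦ [b, s]` into a central subgroup `N` containing all these commutators. -/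
noncomputable def commHom {G : Type*} [Group G] (N : Subgroup G) (hN : N ≤ Subgroup.center G)
    (b : G) (hb : ∀ s : G, ⁅b, s⁆ ∈ N) : G →* ↥N where
  toFun s := ⟨⁅b, s⁆, hb s⟩
  map_one' := by
    apply Subtype.ext
    simp [commutatorElement_def]
  map_mul' y z := by
    apply Subtype.ext
    exact comm_mul_right_of_central b y z (hN (hb z))

theorem commHom_ker {G : Type*} [Group G] (N : Subgroup G) (hN : N ≤ Subgroup.center G)
    (b : G) (hb : ∀ s : G, ⁅b, s⁆ ∈ N) :
    (commHom N hN b hb).ker = Subgroup.centralizer ({b} : Set G) := by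
  ext s
  rw [MonoidHom.mem_ker, Subgroup.mem_centralizer_singleton_iff]
  constructor
  · intro h
    have h1 : ⁅b, s⁆ = 1 := congrArg Subtype.val h
    rw [commutatorElement_eq_one_iff_mul_comm] at h1
    exact h1.symm
  · intro h
    apply Subtype.ext
    show ⁅b, s⁆ = 1
    rw [commutatorElement_eq_one_iff_mul_comm]
    exact h.symm

theorem index_centralizer_dvd {G : Type*} [Group G] [Finite G] (N : Subgroup G)
    (hN : N ≤ Subgroup.center G) (b : G) (hb : ∀ s : G, ⁅b, s⁆ ∈ N) :
    (Subgroup.centralizer ({b} : Set G)).index ∣ Nat.card ↥N := by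
  rw [← commHom_ker N hN b hb, Subgroup.index_ker]
  exact Subgroup.card_subgroup_dvd_card _

theorem sup_eq_top_of_index_prime {G : Type*} [Group G] (p : ℕ) [hp : Fact p.Prime]
    (B K : Subgroup G) (hB : B.index = p) (hK : ¬ K ≤ B) : B ⊔ K = ⊤ := by
  have hdvd : (B ⊔ K).index ∣ p := hB ▸ Subgroup.index_dvd_of_le le_sup_left
  rcases (Nat.dvd_prime hp.out).1 hdvd with h1 | hp'
  · exact Subgroup.index_eq_one.1 h1
  · exfalso
    apply hK
    have h := Subgroup.relIndex_mul_index (le_sup_left : B ≤ B ⊔ K)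
    rw [hp', hB] at h
    have h1 : B.relIndex (B ⊔ K) = 1 := by
      have : B.relIndex (B ⊔ K) * p = 1 * p := by rw [h, one_mul]
      exact Nat.eq_of_mul_eq_mul_right hp.out.pos this
    exact le_trans le_sup_right (Subgroup.relIndex_eq_one.1 h1)

/-- If the centre of a finite `p`-group `A` of order `p^3` has order `> p` then `A` is abelian. -/
theorem comm_of_center_big {A : Type*} [Group A] [Finite A] (p : ℕ) [hp : Fact p.Prime]
    (hA : Nat.card A = p ^ 3) (hZ : p < Nat.card (Subgroup.center A)) (a b : A) :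
    a * b = b * a := by
  have hdvd : Nat.card (Subgroup.center A) ∣ p ^ 3 := hA ▸ Subgroup.card_subgroup_dvd_card _
  obtain ⟨k, hk3, hk⟩ := (Nat.dvd_prime_pow hp.out).1 hdvd
  have hk2 : 2 ≤ k := by
    by_contra hlt
    have hk1 : k ≤ 1 := by omega
    have : p ^ k ≤ p ^ 1 := Nat.pow_le_pow_right hp.out.pos hk1
    rw [pow_one, ← hk] at this
    omega
  have hidx : (Subgroup.center A).index * p ^ k = p ^ 3 := by
    rw [← hk, ← hA, mul_comm]; exact Subgroup.card_mul_index _
  have hcardq : Nat.card (A ⧸ Subgroup.center A) = p ^ (3 - k) := by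
    rw [← Subgroup.index_eq_card]
    have : p ^ 3 = p ^ (3 - k) * p ^ k := by rw [← pow_add]; congr 1; omega
    rw [this] at hidx
    exact Nat.eq_of_mul_eq_mul_right (pow_pos hp.out.pos k) hidx
  haveI : IsCyclic (A ⧸ Subgroup.center A) := by
    rcases Nat.lt_or_ge k 3 with h | h
    · have hk' : 3 - k = 1 := by omega
      rw [hk', pow_one] at hcardq
      exact isCyclic_of_prime_card hcardq
    · have hk' : 3 - k = 0 := by omega
      rw [hk', pow_zero] at hcardq
      haveI : Subsingleton (A ⧸ Subgroup.center A) := (Nat.card_eq_one_iff_unique.1 hcardq).1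
      exact isCyclic_of_subsingleton
  have hc := MonoidHom.isMulCommutative_of_isCyclic_of_ker_le_center
    (QuotientGroup.mk' (Subgroup.center A)) (by rw [QuotientGroup.ker_mk'])
  exact hc.is_comm.comm a b

end Cfsg.Agent.Lib.Helper7
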