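import Mathlib

set_option autoImplicit false

namespace Cfsg.Agent.Lib.Helper7

/-- A finite set with a fixed-point-free involution has even cardinality. -/
theorem two_dvd_card_of_involution {α : Type*} [DecidableEq α] (s : Finset α) (g : α → α)
    (hmem : ∀ a ∈ s, g a ∈ s) (hinv : ∀ a ∈ s, g (g a) = a) (hfix : ∀ a ∈ s, g a ≠ a) :
    2 ∣ s.card := by
  have h : ∑ _a ∈ s, (1 : ZMod 2) = 0 := by
    apply Finset.sum_involution (fun a _ => g a)
    · intro a _
      decide
    · intro a ha _
      exact hfix a ha
    · intro a ha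
      exact hmem a ha
    · intro a ha
      exact hinv a ha
  rw [Finset.sum_const, nsmul_eq_mul, mul_one] at h
  exact (ZMod.natCast_eq_zero_iff _ _).1 h

/-- The conjugacy class of `x` has `[G : C_G(x)]` elements. -/
theorem ncard_conj_class {G : Type*} [Group G] (x : G) :
    (Set.range (fun g : G => g * x * g⁻¹)).ncard = (Subgroup.centralizer ({x} : Set G)).index := by
  have hmem : ∀ c : G, c ∈ Subgroup.centralizer ({x} : Set G) ↔ c * x = x * c := by
    intro c
    rw [Subgroup.mem_centralizer_iff]
    constructor
    · intro h; exact (h x rfl).symm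
    · intro h y hy
      rw [Set.mem_singleton_iff] at hy
      subst hy
      exact h.symm
  have key : ∀ a b : G, a * x * a⁻¹ = b * x * b⁻¹ ↔ a⁻¹ * b ∈ Subgroup.centralizer ({x} : Set G) := by
    intro a b
    rw [hmem]
    constructor
    · intro h
      have h1 : x = a⁻¹ * (b * x * b⁻¹) * a := by rw [← h]; group
      calc a⁻¹ * b * x = (a⁻¹ * (b * x * b⁻¹) * a) * (a⁻¹ * b) := by group
        _ = x * (a⁻¹ * b) := by rw [← h1]
    · intro h
      calc a * x * a⁻¹ = a * (x * (a⁻¹ * b)) * b⁻¹ := by group
        _ = a * (a⁻¹ * b * x) * b⁻¹ := by rw [h]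
        _ = b * x * b⁻¹ := by group
  let f : G ⧸ Subgroup.centralizer ({x} : Set G) → G :=
    fun q => Quotient.liftOn' q (fun g => g * x * g⁻¹) (by
      intro a b hab
      rw [QuotientGroup.leftRel_apply] at hab
      exact (key a b).2 hab)
  have hf_inj : Function.Injective f := by
    intro q1 q2
    induction q1 using QuotientGroup.induction_on
    induction q2 using QuotientGroup.induction_on
    intro h
    rw [QuotientGroup.eq]
    exact (key _ _).1 h
  have hrange : Set.range f = Set.range (fun g : G => g * x * g⁻¹) := by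
    ext y
    constructor
    · rintro ⟨q, rfl⟩
      induction q using QuotientGroup.induction_on
      exact ⟨_, rfl⟩
    · rintro ⟨g, rfl⟩
      exact ⟨(g : G ⧸ Subgroup.centralizer ({x} : Set G)), rfl⟩
  rw [← hrange, Set.ncard_range_of_injective hf_inj]
  rfl

end Cfsg.Agent.Lib.Helper7
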