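import Mathlib

set_option autoImplicit false
set_option maxHeartbeats 800000
set_option linter.unusedSectionVars false

/-! Cancellation of a common direct factor for finite groups (by counting homomorphisms). -/

namespace Cfsg.Agent.Lib.Helper7.KRS

universe u v w

section Cancel

theorem finite_hom (T X : Type*) [Group T] [Group X] [Finite T] [Finite X] : Finite (T →* X) :=
  Finite.of_injective (fun f : T →* X => (f : T → X)) DFunLike.coe_injective

/-- homomorphisms into a product -/
def homProdEquiv (T C X : Type*) [Group T] [Group C] [Group X] :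
    (T →* C × X) ≃ (T →* C) × (T →* X) where
  toFun f := ((MonoidHom.fst C X).comp f, (MonoidHom.snd C X).comp f)
  invFun p := p.1.prod p.2
  left_inv f := by ext <;> rfl
  right_inv p := by ext <;> rfl

theorem card_hom_eq {C : Type w} {X : Type u} {Y : Type v} [Group C] [Group X] [Group Y]
    [Finite C] [Finite X] [Finite Y] (e : C × X ≃* C × Y) (T : Type*) [Group T] [Finite T] :
    Nat.card (T →* X) = Nat.card (T →* Y) := by
  have h1 : Nat.card (T →* C × X) = Nat.card (T →* C × Y) :=
    Nat.card_congr
      { toFun := fun f => e.toMonoidHom.comp f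
        invFun := fun f => e.symm.toMonoidHom.comp f
        left_inv := fun f => by ext t <;> simp
        right_inv := fun f => by ext t <;> simp }
  rw [Nat.card_congr (homProdEquiv T C X), Nat.card_congr (homProdEquiv T C Y), Nat.card_prod,
    Nat.card_prod] at h1
  have := finite_hom T C
  have hpos : 0 < Nat.card (T →* C) := Nat.card_pos
  exact Nat.eq_of_mul_eq_mul_left hpos h1

/-- homomorphisms with a given kernel correspond to injective homomorphisms of the quotient -/
def kerEquiv (T X : Type*) [Group T] [Group X] (N : Subgroup T) [N.Normal] :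
    {f : T →* X // f.ker = N} ≃ {g : T ⧸ N →* X // Function.Injective g} where
  toFun f := ⟨QuotientGroup.lift N f.1 (by rw [f.2]), by
      rw [injective_iff_map_eq_one]
      intro x hx
      induction x using QuotientGroup.induction_on with
      | H t =>
        have h1 : f.1 t = 1 := hx
        have h2 : t ∈ N := by rw [← f.2]; exact h1
        exact (QuotientGroup.eq_one_iff t).mpr h2⟩
  invFun g := ⟨g.1.comp (QuotientGroup.mk' N), by
      ext t
      rw [MonoidHom.mem_ker, MonoidHom.comp_apply]
      constructor
      · intro h
        have h1 : g.1 (QuotientGroup.mk' N t) = g.1 1 := by rw [h, map_one]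
        exact (QuotientGroup.eq_one_iff t).mp (g.2 h1)
      · intro h
        have : (QuotientGroup.mk' N t) = 1 := (QuotientGroup.eq_one_iff t).mpr h
        rw [this, map_one]⟩
  left_inv f := by ext t; rfl
  right_inv g := by
    ext t
    rfl

/-- homomorphisms sorted by kernel -/
def homSigmaEquiv (T X : Type*) [Group T] [Group X] :
    (T →* X) ≃ Σ N : {N : Subgroup T // N.Normal}, {f : T →* X // f.ker = N.1} where
  toFun f := ⟨⟨f.ker, MonoidHom.normal_ker f⟩, f, rfl⟩
  invFun s := s.2.1
  left_inv f := rfl
  right_inv := by
    rintro ⟨⟨N, hN⟩, ⟨f, hf⟩⟩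
    have hf' : f.ker = N := hf
    subst hf'
    rfl

/-- the numbers of injective homomorphisms into `X` and `Y` agree -/
theorem card_inj_eq {C : Type w} {X : Type u} {Y : Type v} [Group C] [Group X] [Group Y]
    [Finite C] [Finite X] [Finite Y] (e : C × X ≃* C × Y) :
    ∀ (k : ℕ) (T : Type u) [Group T] [Finite T], Nat.card T = k →
      Nat.card {f : T →* X // Function.Injective f}
        = Nat.card {f : T →* Y // Function.Injective f} := by
  intro k
  induction k using Nat.strong_induction_on with
  | _ k ih =>
    intro T _ _ hk
    classical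
    have := Fintype.ofFinite {N : Subgroup T // N.Normal}
    have hfX : ∀ N : {N : Subgroup T // N.Normal}, Finite {f : T →* X // f.ker = N.1} := by
      intro N
      have := finite_hom T X
      infer_instance
    have hfY : ∀ N : {N : Subgroup T // N.Normal}, Finite {f : T →* Y // f.ker = N.1} := by
      intro N
      have := finite_hom T Y
      infer_instance
    have hX : Nat.card (T →* X)
        = ∑ N : {N : Subgroup T // N.Normal}, Nat.card {f : T →* X // f.ker = N.1} := by
      rw [Nat.card_congr (homSigmaEquiv T X), Nat.card_sigma]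
    have hY : Nat.card (T →* Y)
        = ∑ N : {N : Subgroup T // N.Normal}, Nat.card {f : T →* Y // f.ker = N.1} := by
      rw [Nat.card_congr (homSigmaEquiv T Y), Nat.card_sigma]
    have heq := card_hom_eq e T
    rw [hX, hY] at heq
    let b : {N : Subgroup T // N.Normal} := ⟨⊥, Subgroup.normal_bot⟩
    have hne : ∀ N ∈ (Finset.univ.erase b : Finset {N : Subgroup T // N.Normal}),
        Nat.card {f : T →* X // f.ker = N.1} = Nat.card {f : T →* Y // f.ker = N.1} := by
      intro N hN
      have hNb : N ≠ b := Finset.ne_of_mem_erase hN
      have : N.1.Normal := N.2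
      rw [Nat.card_congr (kerEquiv T X N.1), Nat.card_congr (kerEquiv T Y N.1)]
      apply ih (Nat.card (T ⧸ N.1)) _ (T ⧸ N.1) rfl
      rw [← hk, ← Subgroup.index_eq_card, ← Subgroup.index_mul_card N.1]
      have h1 : 1 < Nat.card ↥N.1 := by
        rw [Subgroup.one_lt_card_iff_ne_bot]
        intro h
        apply hNb
        exact Subtype.ext h
      have h2 : 0 < N.1.index := Nat.pos_of_ne_zero Subgroup.index_ne_zero_of_finite
      nlinarith
    rw [← Finset.add_sum_erase Finset.univ _ (Finset.mem_univ b),
      ← Finset.add_sum_erase Finset.univ _ (Finset.mem_univ b), Finset.sum_congr rfl hne] at heq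
    have hb := Nat.add_right_cancel heq
    have e1 : {f : T →* X // f.ker = b.1} ≃ {f : T →* X // Function.Injective f} :=
      Equiv.subtypeEquivRight (fun f => MonoidHom.ker_eq_bot_iff f)
    have e2 : {f : T →* Y // f.ker = b.1} ≃ {f : T →* Y // Function.Injective f} :=
      Equiv.subtypeEquivRight (fun f => MonoidHom.ker_eq_bot_iff f)
    rw [← Nat.card_congr e1, ← Nat.card_congr e2]
    exact hb

/-- cancellation of a common direct factor -/
theorem cancel {C : Type w} {X : Type u} {Y : Type v} [Group C] [Group X] [Group Y]
    [Finite C] [Finite X] [Finite Y] (e : C × X ≃* C × Y) : Nonempty (X ≃* Y) := by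
  have h1 := card_inj_eq e (Nat.card X) X rfl
  have := finite_hom X X
  have := finite_hom X Y
  have hne : Nonempty {f : X →* X // Function.Injective f} :=
    ⟨⟨MonoidHom.id X, Function.injective_id⟩⟩
  have hpos : 0 < Nat.card {f : X →* X // Function.Injective f} := Nat.card_pos
  rw [h1] at hpos
  obtain ⟨⟨f, hf⟩⟩ := (Nat.card_pos_iff.mp hpos).1
  have hcard : Nat.card Y = Nat.card X := by
    have h2 := Nat.card_congr e.toEquiv
    rw [Nat.card_prod, Nat.card_prod] at h2
    exact (Nat.eq_of_mul_eq_mul_left Nat.card_pos h2).symm
  have hbij : Function.Bijective f := hf.bijective_of_nat_card_le hcard.le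
  exact ⟨MulEquiv.ofBijective f hbij⟩

end Cancel

end Cfsg.Agent.Lib.Helper7.KRS
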