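import Mathlib

set_option autoImplicit false
set_option maxHeartbeats 800000
set_option linter.unusedSectionVars false

/-! Fitting's lemma for normal endomorphisms of a finite group and the two-factor exchange
step of the Krull–Remak–Schmidt theorem. -/

namespace Cfsg.Agent.Lib.Helper7.KRS

/-- in a finite monoid every element has an idempotent power -/
theorem exists_idem_pow {M : Type*} [Monoid M] [Finite M] (x : M) :
    ∃ n : ℕ, 0 < n ∧ x ^ n * x ^ n = x ^ n := by
  obtain ⟨a, b, hab, h⟩ := Finite.exists_ne_map_eq_of_infinite (fun k : ℕ => x ^ (k + 1))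
  beta_reduce at h
  wlog hlt : a < b generalizing a b
  · exact this b a hab.symm h.symm (lt_of_le_of_ne (not_lt.mp hlt) hab.symm)
  obtain ⟨d, hd⟩ : ∃ d, b = a + d := ⟨b - a, by omega⟩
  have hd0 : 0 < d := by omega
  set i := a + 1 with hi
  have h1 : x ^ (i + d) = x ^ i := by
    rw [hi, show a + 1 + d = b + 1 by omega]
    exact h.symm
  have h2 : ∀ k : ℕ, x ^ (i + k * d) = x ^ i := by
    intro k
    induction k with
    | zero => simp
    | succ k ih =>
      rw [show i + (k + 1) * d = (i + k * d) + d by ring, pow_add, ih, ← pow_add, h1]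
  have h3 : ∀ t k : ℕ, x ^ (i + t + k * d) = x ^ (i + t) := by
    intro t k
    rw [show i + t + k * d = (i + k * d) + t by ring, pow_add, h2, ← pow_add]
  refine ⟨i * d, Nat.mul_pos (by omega) hd0, ?_⟩
  obtain ⟨t, ht⟩ : ∃ t, i * d = i + t := ⟨i * d - i, by
    have : i ≤ i * d := Nat.le_mul_of_pos_right i hd0
    omega⟩
  rw [← pow_add]
  have := h3 t i
  rw [← ht] at this
  exact this

/-- directly indecomposable groups -/
def Indec (P : Type*) [Group P] : Prop :=
  ∀ H K : Subgroup P, H.Normal → K.Normal → H ⊓ K = ⊥ → H ⊔ K = ⊤ → H = ⊥ ∨ K = ⊥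

theorem iterate_normal {P : Type*} [Group P] (α : P →* P)
    (hα : ∀ x h : P, α (x * h * x⁻¹) = x * α h * x⁻¹) (n : ℕ) :
    ∀ x h : P, (α^[n]) (x * h * x⁻¹) = x * (α^[n]) h * x⁻¹ := by
  induction n with
  | zero => intro x h; rfl
  | succ n ih =>
    intro x h
    rw [Function.iterate_succ_apply, Function.iterate_succ_apply, hα, ih]

/-- Fitting's lemma: a normal endomorphism of a finite indecomposable group is bijective or
nilpotent. -/
theorem fitting {P : Type*} [Group P] [Finite P] (hP : Indec P) (α : P →* P)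
    (hα : ∀ x h : P, α (x * h * x⁻¹) = x * α h * x⁻¹) :
    Function.Bijective α ∨ ∃ N : ℕ, ∀ h : P, (α^[N]) h = 1 := by
  have : Finite (Monoid.End P) :=
    Finite.of_injective (fun f : Monoid.End P => (f : P → P)) DFunLike.coe_injective
  let α' : Monoid.End P := α
  obtain ⟨n, hn0, hidem⟩ := exists_idem_pow (M := Monoid.End P) α'
  let g' : Monoid.End P := α' ^ n
  let g : P →* P := g'
  have hgi : ∀ h : P, g h = (α^[n]) h := by
    intro h
    have h1 : (g' : P → P) = α'^[n] := rfl
    exact congrFun h1 h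
  have hgg : ∀ h : P, g (g h) = g h := by
    intro h
    have h1 : (g' * g') h = g' h := DFunLike.congr_fun hidem h
    exact h1
  have hgn : ∀ x h : P, g (x * h * x⁻¹) = x * g h * x⁻¹ := by
    intro x h
    rw [hgi, hgi]
    exact iterate_normal α hα n x h
  have hK : (g.range).Normal := by
    constructor
    rintro _ ⟨h, rfl⟩ x
    exact ⟨x * h * x⁻¹, hgn x h⟩
  have hinf : g.ker ⊓ g.range = ⊥ := by
    rw [eq_bot_iff]
    rintro y ⟨hy1, ⟨h, rfl⟩⟩
    rw [Subgroup.mem_bot]
    have : g (g h) = 1 := hy1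
    rw [hgg] at this
    exact this
  have hsup : g.ker ⊔ g.range = ⊤ := by
    rw [eq_top_iff]
    intro y _
    have h1 : y * (g y)⁻¹ ∈ g.ker := by
      rw [MonoidHom.mem_ker, map_mul, map_inv, hgg, mul_inv_cancel]
    have h2 : g y ∈ g.range := ⟨y, rfl⟩
    have := Subgroup.mul_mem_sup h1 h2
    rwa [inv_mul_cancel_right] at this
  rcases hP g.ker g.range (MonoidHom.normal_ker g) hK hinf hsup with h | h
  · left
    have hginj : Function.Injective g := (MonoidHom.ker_eq_bot_iff g).mp h
    have hαinj : Function.Injective α := by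
      intro x y hxy
      apply hginj
      rw [hgi, hgi]
      obtain ⟨k, rfl⟩ : ∃ k, n = k + 1 := ⟨n - 1, by omega⟩
      rw [Function.iterate_succ_apply, Function.iterate_succ_apply, hxy]
    exact Finite.injective_iff_bijective.mp hαinj
  · right
    refine ⟨n, fun y => ?_⟩
    rw [← hgi]
    have : g y ∈ g.range := ⟨y, rfl⟩
    rw [h, Subgroup.mem_bot] at this
    exact this

end Cfsg.Agent.Lib.Helper7.KRS
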