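import Mathlib
import Cfsg.Agent.Lib.Helper7.KRSFitting

set_option autoImplicit false
set_option maxHeartbeats 800000
set_option linter.unusedSectionVars false

/-! The two-factor exchange step of the Krull–Remak–Schmidt theorem. -/

namespace Cfsg.Agent.Lib.Helper7.KRS

section TwoFactor

variable {P Q K L : Type*} [Group P] [Group Q] [Group K] [Group L]

/-- `P → K`: the `K`-component of `P` under `φ` -/
def mapA (φ : P × Q ≃* K × L) : P →* K :=
  (MonoidHom.fst K L).comp (φ.toMonoidHom.comp (MonoidHom.inl P Q))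

/-- `K → P`: the `P`-component of `K` under `φ⁻¹` -/
def mapC (φ : P × Q ≃* K × L) : K →* P :=
  (MonoidHom.fst P Q).comp (φ.symm.toMonoidHom.comp (MonoidHom.inl K L))

/-- the same isomorphism with the factors of the target swapped -/
def swp (φ : P × Q ≃* K × L) : P × Q ≃* L × K := φ.trans MulEquiv.prodComm

theorem mapA_apply (φ : P × Q ≃* K × L) (p : P) : mapA φ p = (φ (p, 1)).1 := rfl

theorem mapC_apply (φ : P × Q ≃* K × L) (k : K) : mapC φ k = (φ.symm (k, 1)).1 := rfl

theorem mapA_swp_apply (φ : P × Q ≃* K × L) (p : P) : mapA (swp φ) p = (φ (p, 1)).2 := rfl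

theorem mapC_swp_apply (φ : P × Q ≃* K × L) (l : L) : mapC (swp φ) l = (φ.symm (1, l)).1 := rfl

theorem sum_eq (φ : P × Q ≃* K × L) (h : P) :
    mapC φ (mapA φ h) * mapC (swp φ) (mapA (swp φ) h) = h := by
  rw [mapC_apply, mapC_swp_apply, mapA_apply, mapA_swp_apply]
  have h1 : ((φ (h, 1)).1, (1 : L)) * ((1 : K), (φ (h, 1)).2) = φ (h, 1) := by
    ext <;> simp
  have h2 : φ.symm (((φ (h, 1)).1, (1 : L)) * ((1 : K), (φ (h, 1)).2)) = (h, 1) := by
    rw [h1, MulEquiv.symm_apply_apply]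
  rw [map_mul] at h2
  exact congrArg Prod.fst h2

theorem commute_cd (φ : P × Q ≃* K × L) (k : K) (l : L) :
    Commute (mapC φ k) (mapC (swp φ) l) := by
  rw [mapC_apply, mapC_swp_apply]
  have h1 : ((k, (1 : L)) : K × L) * ((1 : K), l) = ((1 : K), l) * (k, (1 : L)) := by
    ext <;> simp
  have h2 := congrArg φ.symm h1
  rw [map_mul, map_mul] at h2
  exact congrArg Prod.fst h2

/-- the endomorphism `α = c ∘ a` of `P` -/
def alpha (φ : P × Q ≃* K × L) : P →* P := (mapC φ).comp (mapA φ)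

theorem alpha_mul_beta (φ : P × Q ≃* K × L) (h : P) : alpha φ h * alpha (swp φ) h = h :=
  sum_eq φ h

theorem commute_alpha_beta (φ : P × Q ≃* K × L) (x y : P) :
    Commute (alpha φ x) (alpha (swp φ) y) := commute_cd φ _ _

theorem alpha_normal (φ : P × Q ≃* K × L) (x h : P) :
    alpha φ (x * h * x⁻¹) = x * alpha φ h * x⁻¹ := by
  rw [map_mul, map_mul, map_inv]
  have hx : x = alpha φ x * alpha (swp φ) x := (alpha_mul_beta φ x).symm
  have hc : Commute (alpha φ h) (alpha (swp φ) x) := commute_alpha_beta φ h x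
  calc alpha φ x * alpha φ h * (alpha φ x)⁻¹
      = alpha φ x * (alpha (swp φ) x * alpha φ h * (alpha (swp φ) x)⁻¹) * (alpha φ x)⁻¹ := by
        rw [← hc.eq, mul_inv_cancel_right]
    _ = (alpha φ x * alpha (swp φ) x) * alpha φ h * (alpha φ x * alpha (swp φ) x)⁻¹ := by
        group
    _ = x * alpha φ h * x⁻¹ := by rw [← hx]

theorem mapA_injective (φ : P × Q ≃* K × L) (hα : Function.Bijective (alpha φ)) :
    Function.Injective (mapA φ) := by
  intro x y hxy
  apply hα.1
  show mapC φ (mapA φ x) = mapC φ (mapA φ y)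
  rw [hxy]

theorem range_mapA_normal (φ : P × Q ≃* K × L) : (mapA φ).range.Normal := by
  constructor
  rintro _ ⟨p, rfl⟩ k
  refine ⟨mapC φ k * p * (mapC φ k)⁻¹, ?_⟩
  rw [mapA_apply, mapA_apply]
  have h1 : ((mapC φ k * p * (mapC φ k)⁻¹, (1 : Q)) : P × Q)
      = φ.symm (k, 1) * (p, 1) * (φ.symm (k, 1))⁻¹ := by
    ext
    · simp [mapC_apply]
    · simp
  rw [h1, map_mul, map_mul, map_inv, MulEquiv.apply_symm_apply]
  simp

theorem range_inf_ker (φ : P × Q ≃* K × L) (hα : Function.Bijective (alpha φ)) :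
    (mapA φ).range ⊓ (mapC φ).ker = ⊥ := by
  rw [eq_bot_iff]
  rintro y ⟨⟨h, rfl⟩, hy⟩
  rw [Subgroup.mem_bot]
  have h1 : alpha φ h = alpha φ 1 := by
    rw [map_one]
    exact hy
  rw [hα.1 h1, map_one]

theorem exists_decomp (φ : P × Q ≃* K × L) (hα : Function.Bijective (alpha φ)) (k : K) :
    ∃ h : P, (mapA φ h)⁻¹ * k ∈ (mapC φ).ker := by
  obtain ⟨h, hh⟩ := hα.2 (mapC φ k)
  refine ⟨h, ?_⟩
  rw [MonoidHom.mem_ker, map_mul, map_inv]
  have : mapC φ (mapA φ h) = mapC φ k := hh
  rw [this, inv_mul_cancel]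

theorem range_sup_ker (φ : P × Q ≃* K × L) (hα : Function.Bijective (alpha φ)) :
    (mapA φ).range ⊔ (mapC φ).ker = ⊤ := by
  rw [eq_top_iff]
  intro k _
  obtain ⟨h, h2⟩ := exists_decomp φ hα k
  have h1 : mapA φ h ∈ (mapA φ).range := ⟨h, rfl⟩
  have := Subgroup.mul_mem_sup h1 h2
  rwa [mul_inv_cancel_left] at this

/-- if `α` is bijective and `K` is indecomposable then `P ≅ K` -/
theorem equiv_of_indec [Nontrivial P] (φ : P × Q ≃* K × L)
    (hα : Function.Bijective (alpha φ)) (hK : Indec K) : Nonempty (P ≃* K) := by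
  rcases hK _ _ (range_mapA_normal φ) (MonoidHom.normal_ker _) (range_inf_ker φ hα)
    (range_sup_ker φ hα) with h | h
  · exfalso
    obtain ⟨x, y, hxy⟩ := exists_pair_ne P
    apply hxy
    apply mapA_injective φ hα
    have hx : mapA φ x ∈ (mapA φ).range := ⟨x, rfl⟩
    have hy : mapA φ y ∈ (mapA φ).range := ⟨y, rfl⟩
    rw [h, Subgroup.mem_bot] at hx hy
    rw [hx, hy]
  · have hsup := range_sup_ker φ hα
    rw [h, sup_bot_eq] at hsup
    have hsurj : Function.Surjective (mapA φ) := MonoidHom.range_eq_top.mp hsup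
    exact ⟨MulEquiv.ofBijective (mapA φ) ⟨mapA_injective φ hα, hsurj⟩⟩

/-- if `α` is bijective then `K ≅ P × ker c` -/
theorem factor_equiv (φ : P × Q ≃* K × L) (hα : Function.Bijective (alpha φ)) :
    Nonempty (P × ↥(mapC φ).ker ≃* K) := by
  have hdis : Disjoint (mapA φ).range (mapC φ).ker := disjoint_iff.mpr (range_inf_ker φ hα)
  have hcomm : ∀ (p : P) (r : ↥(mapC φ).ker), Commute (mapA φ p) ((mapC φ).ker.subtype r) := by
    intro p r
    exact Subgroup.commute_of_normal_of_disjoint _ _ (range_mapA_normal φ)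
      (MonoidHom.normal_ker _) hdis _ _ ⟨p, rfl⟩ r.2
  let f : P × ↥(mapC φ).ker →* K := MonoidHom.noncommCoprod (mapA φ) (mapC φ).ker.subtype hcomm
  have hf : ∀ p r, f (p, r) = mapA φ p * (r : K) := fun p r => rfl
  refine ⟨MulEquiv.ofBijective f ⟨?_, ?_⟩⟩
  · rw [injective_iff_map_eq_one]
    rintro ⟨p, r⟩ hpr
    rw [hf] at hpr
    have h1 : mapA φ p = (r : K)⁻¹ := eq_inv_of_mul_eq_one_left hpr
    have h2 : mapA φ p ∈ (mapA φ).range ⊓ (mapC φ).ker :=
      ⟨⟨p, rfl⟩, by rw [h1]; exact Subgroup.inv_mem _ r.2⟩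
    rw [range_inf_ker φ hα, Subgroup.mem_bot] at h2
    have hp : p = 1 := by
      apply mapA_injective φ hα
      rw [h2, map_one]
    have hr : (r : K) = 1 := by
      rw [h2, one_mul] at hpr
      exact hpr
    ext
    · exact hp
    · exact hr
  · intro k
    obtain ⟨h, h2⟩ := exists_decomp φ hα k
    refine ⟨(h, ⟨_, h2⟩), ?_⟩
    rw [hf]
    exact mul_inv_cancel_left _ _

/-- the two-factor exchange step -/
theorem two_factor [Finite P] [Nontrivial P] (hP : Indec P) (hK : Indec K)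
    (φ : P × Q ≃* K × L) :
    Nonempty (P ≃* K) ∨ ∃ R : Subgroup L, Nonempty (P × ↥R ≃* L) := by
  rcases fitting hP (alpha φ) (alpha_normal φ) with hα | ⟨N, hN⟩
  · left
    exact equiv_of_indec φ hα hK
  · right
    have hβinj : Function.Injective (alpha (swp φ)) := by
      rw [injective_iff_map_eq_one]
      intro h hh
      have h1 : alpha φ h = h := by
        have := alpha_mul_beta φ h
        rw [hh, mul_one] at this
        exact this
      have h2 : ∀ n : ℕ, (alpha φ)^[n] h = h := by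
        intro n
        induction n with
        | zero => rfl
        | succ n ih => rw [Function.iterate_succ_apply, h1, ih]
      rw [← h2 N, hN]
    have hβ : Function.Bijective (alpha (swp φ)) := Finite.injective_iff_bijective.mp hβinj
    exact ⟨(mapC (swp φ)).ker, factor_equiv (swp φ) hβ⟩

end TwoFactor

end Cfsg.Agent.Lib.Helper7.KRS
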