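import Mathlib
import Cfsg.Agent.Lib.Helper7.KRSTwo
import Cfsg.Agent.Lib.Helper7.KRSCancel

set_option autoImplicit false
set_option maxHeartbeats 800000
set_option linter.unusedSectionVars false

/-! The Krull–Remak–Schmidt theorem for finite groups. -/

namespace Cfsg.Agent.Lib.Helper7.KRS

universe u v

section Main

/-- the splitting of a product over `Fin (n+1)` at an index -/
def piSplit {n : ℕ} (B : Fin (n + 1) → Type v) [∀ j, Group (B j)] (p : Fin (n + 1)) :
    (∀ j, B j) ≃* B p × (∀ j, B (p.succAbove j)) :=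
  { (Fin.insertNthEquiv B p).symm with map_mul' := fun _ _ => rfl }

/-- the splitting of a product over `Fin (n+1)` at the index zero -/
def piSplitZero {n : ℕ} (B : Fin (n + 1) → Type v) [∀ j, Group (B j)] :
    (∀ j, B j) ≃* B 0 × (∀ j : Fin n, B j.succ) where
  toFun f := (f 0, fun j => f j.succ)
  invFun p := Fin.cons p.1 p.2
  left_inv f := by
    funext j
    induction j using Fin.cases with
    | zero => rfl
    | succ j => rfl
  right_inv p := by
    ext <;> simp
  map_mul' _ _ := rfl

/-- an indecomposable direct factor of a product of indecomposable groups is isomorphic to one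
of the factors -/
theorem matching {P : Type u} [Group P] [Finite P] [Nontrivial P] (hP : Indec P) :
    ∀ (n : ℕ) (B : Fin n → Type v) [∀ j, Group (B j)] (_ : ∀ j, Indec (B j))
      (Q : Type v) [Group Q] (_ : P × Q ≃* (∀ j, B j)), ∃ j, Nonempty (P ≃* B j) := by
  intro n
  induction n with
  | zero =>
    intro B _ hB Q _ φ
    exfalso
    obtain ⟨x, y, hxy⟩ := exists_pair_ne P
    apply hxy
    have : φ (x, 1) = φ (y, 1) := Subsingleton.elim _ _
    exact congrArg Prod.fst (φ.injective this)
  | succ n ih =>
    intro B _ hB Q _ φ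
    rcases two_factor hP (hB 0) (φ.trans (piSplit B 0)) with h | ⟨R, ⟨ψ⟩⟩
    · exact ⟨0, h⟩
    · obtain ⟨j, hj⟩ := ih (fun j => B (Fin.succAbove 0 j)) (fun j => hB _) ↥R ψ
      exact ⟨Fin.succAbove 0 j, hj⟩

/-- the Krull–Remak–Schmidt theorem -/
theorem krs : ∀ (m n : ℕ) (A : Fin m → Type u) (B : Fin n → Type v)
    [∀ i, Group (A i)] [∀ j, Group (B j)] [∀ i, Finite (A i)] [∀ j, Finite (B j)]
    (_ : ∀ i, Nontrivial (A i) ∧ Indec (A i)) (_ : ∀ j, Nontrivial (B j) ∧ Indec (B j))
    (_ : (∀ i, A i) ≃* (∀ j, B j)),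
    ∃ σ : Fin m ≃ Fin n, ∀ i, Nonempty (A i ≃* B (σ i)) := by
  intro m
  induction m with
  | zero =>
    intro n A B _ _ _ _ hA hB e
    rcases n with _ | n
    · exact ⟨Equiv.refl _, fun i => i.elim0⟩
    · exfalso
      haveI := (hB 0).1
      obtain ⟨x, y, hxy⟩ := exists_pair_ne (B 0)
      apply hxy
      have h1 : e.symm (Pi.mulSingle 0 x) = e.symm (Pi.mulSingle 0 y) := Subsingleton.elim _ _
      have h2 := e.symm.injective h1
      have h3 := congrFun h2 0
      simpa using h3
  | succ m ih =>
    intro n A B _ _ _ _ hA hB e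
    rcases n with _ | n
    · exfalso
      haveI := (hA 0).1
      obtain ⟨x, y, hxy⟩ := exists_pair_ne (A 0)
      apply hxy
      have h1 : e (Pi.mulSingle 0 x) = e (Pi.mulSingle 0 y) := Subsingleton.elim _ _
      have h2 := e.injective h1
      have h3 := congrFun h2 0
      simpa using h3
    · haveI := (hA 0).1
      -- transfer the tail of `A` to the universe of `B`
      let tailHom : (∀ i : Fin m, A i.succ) →* (∀ j, B j) :=
        e.toMonoidHom.comp ((piSplitZero A).symm.toMonoidHom.comp (MonoidHom.inr _ _))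
      have htail : Function.Injective tailHom := by
        intro x y hxy
        have h1 := e.injective hxy
        have h2 := (piSplitZero A).symm.injective h1
        exact (Prod.ext_iff.mp h2).2
      let eQ : (∀ i : Fin m, A i.succ) ≃* ↥tailHom.range :=
        MonoidHom.ofInjective htail
      let φ : A 0 × ↥tailHom.range ≃* (∀ j, B j) :=
        ((MulEquiv.prodCongr (MulEquiv.refl (A 0)) eQ.symm).trans (piSplitZero A).symm).trans e
      obtain ⟨j₀, ⟨f₀⟩⟩ := matching (hA 0).2 (n + 1) B (fun j => (hB j).2) ↥tailHom.range φ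
      -- cancel the common factor
      let ψ : B j₀ × (∀ i : Fin m, A i.succ)
          ≃* B j₀ × (∀ j : Fin n, B (j₀.succAbove j)) :=
        ((MulEquiv.prodCongr f₀.symm (MulEquiv.refl _)).trans
          ((piSplitZero A).symm.trans e)).trans (piSplit B j₀)
      obtain ⟨e'⟩ := cancel ψ
      obtain ⟨σ', hσ'⟩ := ih n (fun i => A i.succ) (fun j => B (j₀.succAbove j))
        (fun i => hA _) (fun j => hB _) e'
      have hσ0 : ((finSuccEquiv' (0 : Fin (m + 1))).trans
          ((Equiv.optionCongr σ').trans (finSuccEquiv' j₀).symm)) 0 = j₀ := by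
        simp
      have hσs : ∀ i : Fin m, ((finSuccEquiv' (0 : Fin (m + 1))).trans
          ((Equiv.optionCongr σ').trans (finSuccEquiv' j₀).symm)) i.succ
            = j₀.succAbove (σ' i) := by
        intro i
        have h1 : (finSuccEquiv' (0 : Fin (m + 1))) i.succ = some i := by
          have := finSuccEquiv'_succAbove (0 : Fin (m + 1)) i
          simpa using this
        simp [h1]
      refine ⟨(finSuccEquiv' 0).trans ((Equiv.optionCongr σ').trans (finSuccEquiv' j₀).symm), ?_⟩
      intro i
      induction i using Fin.cases with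
      | zero =>
        rw [hσ0]
        exact ⟨f₀⟩
      | succ i =>
        rw [hσs]
        exact hσ' i

end Main

end Cfsg.Agent.Lib.Helper7.KRS
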