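import Mathlib
import Cfsg.Agent.Lib.Helper3.ThompsonFpf

set_option autoImplicit false
set_option linter.unusedSectionVars false
set_option linter.style.haveILetI false

/-! Splitting automorphisms of prime order (Kegel): basic calculus. -/

namespace Cfsg.Agent.Lib.Helper7

open Cfsg Cfsg.Agent.Lib.Helper3

section basic
variable {G : Type*} [Group G]

/-- the partial trace `x · φ x · … · φ^(n-1) x` -/
def tr (φ : G ≃* G) (n : ℕ) (x : G) : G :=
  ((List.range n).map (fun i : ℕ => (φ ^ i) x)).prod

lemma tr_zero (φ : G ≃* G) (x : G) : tr φ 0 x = 1 := by simp [tr]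

lemma tr_succ (φ : G ≃* G) (n : ℕ) (x : G) : tr φ (n + 1) x = tr φ n x * (φ ^ n) x := by
  simp [tr, List.range_succ]

/-- `φ` is a splitting automorphism with `φ ^ r = 1` -/
structure Spl (φ : G ≃* G) (r : ℕ) : Prop where
  pow : φ ^ r = 1
  split : ∀ x, tr φ r x = 1

lemma conj_mul_pow_apply (φ : G ≃* G) (g : G) (n : ℕ) (x : G) :
    ((MulAut.conj g * φ) ^ n) x = tr φ n g * (φ ^ n) x * (tr φ n g)⁻¹ := by
  induction n generalizing x with
  | zero => simp [tr_zero]
  | succ n ih =>
    rw [pow_succ, MulAut.mul_apply, ih, tr_succ, MulAut.mul_apply, MulAut.conj_apply]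
    rw [pow_succ, MulAut.mul_apply]
    simp only [map_mul, map_inv, mul_inv_rev, mul_assoc]

lemma tr_conj_mul (φ : G ≃* G) (g : G) (n : ℕ) (x : G) :
    tr (MulAut.conj g * φ) n x * tr φ n g = tr φ n (x * g) := by
  induction n with
  | zero => simp [tr_zero]
  | succ n ih =>
    rw [tr_succ, tr_succ, tr_succ, conj_mul_pow_apply, ← ih, map_mul]
    group

theorem Spl.conj {φ : G ≃* G} {r : ℕ} (h : Spl φ r) (g : G) : Spl (MulAut.conj g * φ) r := by
  constructor
  · ext x
    rw [conj_mul_pow_apply, h.split, h.pow]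
    simp
  · intro x
    have := tr_conj_mul φ g r x
    rw [h.split, h.split, mul_one] at this
    exact this

lemma tr_of_fixed (φ : G ≃* G) {x : G} (hx : φ x = x) (n : ℕ) : tr φ n x = x ^ n := by
  induction n with
  | zero => simp [tr_zero]
  | succ n ih => rw [tr_succ, ih, pow_apply_of_fixed φ hx, pow_succ]

theorem Spl.pow_of_fixed {φ : G ≃* G} {r : ℕ} (h : Spl φ r) {x : G} (hx : φ x = x) : x ^ r = 1 := by
  rw [← tr_of_fixed φ hx, h.split]

theorem Spl.fpf_of_coprime [Finite G] {φ : G ≃* G} {r : ℕ} (h : Spl φ r)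
    (hc : (Nat.card G).Coprime r) : Fpf φ r := by
  refine ⟨fun x hx => ?_, h.pow⟩
  have h1 : orderOf x ∣ r := orderOf_dvd_of_pow_eq_one (h.pow_of_fixed hx)
  have h2 : orderOf x ∣ Nat.card G := orderOf_dvd_natCard x
  exact orderOf_eq_one_iff.mp (Nat.eq_one_of_dvd_coprimes hc h2 h1)

lemma tr_resAut [Finite G] (φ : G ≃* G) (L : Subgroup G) (hL : AutInv φ L) (n : ℕ) (x : ↥L) :
    ((tr (resAut φ L hL) n x : ↥L) : G) = tr φ n (x : G) := by
  induction n with
  | zero => simp [tr_zero]
  | succ n ih => rw [tr_succ, tr_succ, Subgroup.coe_mul, ih, resAut_pow_coe]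

theorem Spl.res [Finite G] {φ : G ≃* G} {r : ℕ} (h : Spl φ r) {L : Subgroup G} (hL : AutInv φ L) :
    Spl (resAut φ L hL) r := by
  constructor
  · ext x
    rw [resAut_pow_coe, h.pow]
    rfl
  · intro x
    apply Subtype.ext
    rw [tr_resAut, h.split]
    rfl

lemma tr_quotAut [Finite G] (φ : G ≃* G) (N : Subgroup G) [N.Normal] (hN : AutInv φ N) (n : ℕ)
    (x : G) : tr (quotAut φ N hN) n (QuotientGroup.mk x) = QuotientGroup.mk (tr φ n x) := by
  induction n with
  | zero => simp [tr_zero]
  | succ n ih => rw [tr_succ, tr_succ, ih, quotAut_pow_mk, QuotientGroup.mk_mul]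

theorem Spl.quot [Finite G] {φ : G ≃* G} {r : ℕ} (h : Spl φ r) {N : Subgroup G} [N.Normal]
    (hN : AutInv φ N) : Spl (quotAut φ N hN) r := by
  constructor
  · ext y
    induction y using QuotientGroup.induction_on with
    | H x =>
      rw [quotAut_pow_mk, h.pow]
      rfl
  · intro y
    induction y using QuotientGroup.induction_on with
    | H x =>
      rw [tr_quotAut, h.split]
      rfl

/-- for normal subgroups invariance under `conj g * φ` and under `φ` coincide -/
lemma autInv_conj_mul_iff (φ : G ≃* G) (g : G) (N : Subgroup G) [hN : N.Normal] :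
    AutInv (MulAut.conj g * φ) N ↔ AutInv φ N := by
  constructor
  · intro h x hx
    have := h x hx
    rw [MulAut.mul_apply, MulAut.conj_apply] at this
    have h2 := hN.conj_mem _ this g⁻¹
    simpa [mul_assoc] using h2
  · intro h x hx
    rw [MulAut.mul_apply, MulAut.conj_apply]
    exact hN.conj_mem _ (h x hx) g

/-- some `conj g * φ` leaves a Sylow `q`-subgroup invariant -/
theorem exists_conj_inv_sylow [Finite G] (φ : G ≃* G) (q : ℕ) [Fact q.Prime] :
    ∃ (g : G) (P : Sylow q G), AutInv (MulAut.conj g * φ) (P : Subgroup G) := by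
  obtain ⟨P₀⟩ : Nonempty (Sylow q G) := inferInstance
  have hcard : Nat.card ↥((P₀ : Subgroup G).map φ.toMonoidHom) =
      q ^ (Nat.card G).factorization q := by
    rw [Subgroup.card_map_of_injective φ.injective]
    exact P₀.card_eq_multiplicity
  let S : Sylow q G := Sylow.ofCard _ hcard
  have hS : (S : Subgroup G) = (P₀ : Subgroup G).map φ.toMonoidHom := Sylow.coe_ofCard _ _
  obtain ⟨g, hg⟩ := MulAction.exists_smul_eq G S P₀
  refine ⟨g, P₀, ?_⟩
  intro x hx
  have h1 : φ x ∈ (S : Subgroup G) := by rw [hS]; exact Subgroup.mem_map_of_mem _ hx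
  have h2 : g * φ x * g⁻¹ ∈ ((g • S : Sylow q G) : Subgroup G) := by
    rw [sylow_smul_coe]
    exact conj_mem_map_conj h1
  rw [hg] at h2
  rw [MulAut.mul_apply, MulAut.conj_apply]
  exact h2

/-- list products versus finset products in a commutative group -/
lemma tr_eq_prod {U : Type*} [CommGroup U] (ψ : U ≃* U) (n : ℕ) (u : U) :
    tr ψ n u = ∏ i ∈ Finset.range n, (ψ ^ i) u := by
  induction n with
  | zero => simp [tr_zero]
  | succ n ih => rw [tr_succ, ih, Finset.prod_range_succ]

end basic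

end Cfsg.Agent.Lib.Helper7
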