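import Mathlib
import Cfsg.Agent.Lib.Helper3.ThompsonFpf

set_option autoImplicit false
set_option linter.unusedSectionVars false

/-! Two commuting automorphisms of exponent `r` of an abelian `r'`-group such that all
`ζ^j ψ` have vanishing trace: then `ζ = 1`. -/

namespace Cfsg.Agent.Lib.Helper7

open Cfsg Cfsg.Agent.Lib.Helper3

section rr
variable {U : Type*} [CommGroup U]

lemma pow_eq_pow_mod_of_pow_eq_one (ζ : U ≃* U) {r : ℕ} (hζ : ζ ^ r = 1) (n : ℕ) :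
    ζ ^ n = ζ ^ (n % r) := by
  conv_lhs => rw [← Nat.div_add_mod n r, pow_add, pow_mul, hζ, one_pow, one_mul]

lemma prod_pow_mul_perm (ζ : U ≃* U) {r i : ℕ} (hr : r.Prime) (hζ : ζ ^ r = 1) (hi : 0 < i)
    (hir : i < r) (w : U) :
    ∏ j ∈ Finset.range r, (ζ ^ (j * i)) w = ∏ k ∈ Finset.range r, (ζ ^ k) w := by
  have hcop : Nat.gcd r i = 1 :=
    (Nat.Prime.coprime_iff_not_dvd hr).mpr (Nat.not_dvd_of_pos_of_lt hi hir)
  have hinj : Set.InjOn (fun j => (j * i) % r) (Finset.range r : Set ℕ) := by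
    intro j hj j' hj' h
    have hj1 : j < r := Finset.mem_range.1 hj
    have hj2 : j' < r := Finset.mem_range.1 hj'
    have h1 : j * i ≡ j' * i [MOD r] := h
    have h2 : j ≡ j' [MOD r] := Nat.ModEq.cancel_right_of_coprime hcop h1
    have h3 : j % r = j' % r := h2
    rwa [Nat.mod_eq_of_lt hj1, Nat.mod_eq_of_lt hj2] at h3
  have himg : (Finset.range r).image (fun j => (j * i) % r) = Finset.range r := by
    apply Finset.eq_of_subset_of_card_le
    · intro k hk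
      obtain ⟨j, _, rfl⟩ := Finset.mem_image.1 hk
      exact Finset.mem_range.2 (Nat.mod_lt _ hr.pos)
    · rw [Finset.card_image_of_injOn hinj]
  calc ∏ j ∈ Finset.range r, (ζ ^ (j * i)) w
      = ∏ j ∈ Finset.range r, (ζ ^ ((j * i) % r)) w := by
        apply Finset.prod_congr rfl
        intro j _
        rw [pow_eq_pow_mod_of_pow_eq_one ζ hζ (j * i)]
    _ = ∏ k ∈ (Finset.range r).image (fun j => (j * i) % r), (ζ ^ k) w := by
        rw [Finset.prod_image hinj]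
    _ = ∏ k ∈ Finset.range r, (ζ ^ k) w := by rw [himg]

theorem rr_norm (ζ ψ : U ≃* U) (hc : Commute ζ ψ) {r : ℕ} (hr : r.Prime) (hζ : ζ ^ r = 1)
    (htr : ∀ j, j < r → ∀ u, ∏ i ∈ Finset.range r, ((ζ ^ j * ψ) ^ i) u = 1) :
    ∀ u, ∏ k ∈ Finset.range r, (ζ ^ k) u = u ^ r := by
  intro u
  have h1 : ∀ j i : ℕ, ∀ v : U, ((ζ ^ j * ψ) ^ i) v = (ζ ^ (j * i)) ((ψ ^ i) v) := by
    intro j i v
    rw [(hc.pow_left j).mul_pow, ← pow_mul, MulAut.mul_apply]
  have h2 : ∏ j ∈ Finset.range r, ∏ i ∈ Finset.range r, (ζ ^ (j * i)) ((ψ ^ i) u) = 1 := by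
    apply Finset.prod_eq_one
    intro j hj
    have := htr j (Finset.mem_range.1 hj) u
    simp_rw [h1] at this
    exact this
  rw [Finset.prod_comm] at h2
  obtain ⟨s, rfl⟩ : ∃ s, r = s + 1 := Nat.exists_eq_succ_of_ne_zero hr.ne_zero
  rw [Finset.prod_range_succ'] at h2
  -- the `i = 0` factor
  have h3 : ∏ j ∈ Finset.range (s + 1), (ζ ^ (j * 0)) ((ψ ^ 0) u) = u ^ (s + 1) := by
    simp
  rw [h3] at h2
  -- the other factors
  have h4 : ∀ i ∈ Finset.range s, ∏ j ∈ Finset.range (s + 1), (ζ ^ (j * (i + 1))) ((ψ ^ (i + 1)) u)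
      = ∏ k ∈ Finset.range (s + 1), (ζ ^ k) ((ψ ^ (i + 1)) u) := by
    intro i hi
    have hi' := Finset.mem_range.1 hi
    exact prod_pow_mul_perm ζ hr hζ (Nat.succ_pos i) (by omega) _
  rw [Finset.prod_congr rfl h4, Finset.prod_comm] at h2
  have h5 : ∀ k ∈ Finset.range (s + 1), ∏ i ∈ Finset.range s, (ζ ^ k) ((ψ ^ (i + 1)) u)
      = (ζ ^ k) u⁻¹ := by
    intro k _
    rw [← map_prod]
    congr 1
    have := htr 0 (Nat.succ_pos s) u
    rw [pow_zero, one_mul, Finset.prod_range_succ', pow_zero, MulAut.one_apply] at this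
    exact eq_inv_of_mul_eq_one_left this
  rw [Finset.prod_congr rfl h5] at h2
  simp_rw [map_inv] at h2
  rw [Finset.prod_inv_distrib] at h2
  have := eq_of_inv_mul_eq_one h2
  exact this

theorem rr_trivial [Finite U] (ζ ψ : U ≃* U) (hc : Commute ζ ψ) {r : ℕ} (hr : r.Prime)
    (hζ : ζ ^ r = 1) (hcop : (Nat.card U).Coprime r)
    (htr : ∀ j, j < r → ∀ u, ∏ i ∈ Finset.range r, ((ζ ^ j * ψ) ^ i) u = 1) :
    ∀ u, ζ u = u := by
  intro u
  have hN := rr_norm ζ ψ hc hr hζ htr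
  obtain ⟨s, hs⟩ : ∃ s, r = s + 1 := Nat.exists_eq_succ_of_ne_zero hr.ne_zero
  have hfix : ∀ v, ζ (∏ k ∈ Finset.range r, (ζ ^ k) v) = ∏ k ∈ Finset.range r, (ζ ^ k) v := by
    intro v
    subst hs
    exact prod_pow_fixed ζ s hζ v
  have hshift : ∀ v, ∏ k ∈ Finset.range r, (ζ ^ k) (ζ v) = ∏ k ∈ Finset.range r, (ζ ^ k) v := by
    intro v
    rw [← hfix v, map_prod]
    apply Finset.prod_congr rfl
    intro k _
    rw [← MulAut.mul_apply, ← MulAut.mul_apply, ← pow_succ, ← pow_succ']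
  have h1 : (u⁻¹ * ζ u) ^ r = 1 := by
    rw [← hN (u⁻¹ * ζ u)]
    simp_rw [map_mul, map_inv]
    rw [Finset.prod_mul_distrib, Finset.prod_inv_distrib, hshift u, inv_mul_cancel]
  have h2 : orderOf (u⁻¹ * ζ u) ∣ r := orderOf_dvd_of_pow_eq_one h1
  have h3 : orderOf (u⁻¹ * ζ u) ∣ Nat.card U := orderOf_dvd_natCard _
  have h4 : u⁻¹ * ζ u = 1 := orderOf_eq_one_iff.mp (Nat.eq_one_of_dvd_coprimes hcop h3 h2)
  exact (inv_mul_eq_one.mp h4).symm

end rr

end Cfsg.Agent.Lib.Helper7
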