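import Mathlib
import Cfsg.Agent.Lib.Helper3.ThompsonFpf
import Cfsg.Agent.Lib.Helper7.KegelBasic
import Cfsg.Agent.Lib.Helper7.KegelRR

set_option autoImplicit false
set_option linter.unusedSectionVars false
set_option linter.style.haveILetI false
open scoped commutatorElement
open Cfsg Cfsg.Agent.Lib.Helper1 Cfsg.Agent.Lib.Helper4 Cfsg.Agent.Lib.Helper3

/-! Kegel's theorem: a finite group with a splitting automorphism of prime order is nilpotent. -/

namespace Cfsg.Agent.Lib.Helper7

universe u

section kegel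
variable {G : Type u} [Group G] [Finite G]

/-- induction hypothesis of Kegel's theorem -/
def KHyp (r : ℕ) (G : Type u) [Group G] : Prop :=
  ∀ (H : Type u) [Group H] [Finite H], Nat.card H < Nat.card G → ∀ ψ : H ≃* H, Spl ψ r →
    Group.IsNilpotent H

variable {r : ℕ} {φ : G ≃* G}

lemma k_nilpotent_sub (ih : KHyp r G) (hf : Spl φ r) (L : Subgroup G) (hL : AutInv φ L)
    (hne : L ≠ ⊤) : Group.IsNilpotent ↥L := by
  have hcard : Nat.card ↥L < Nat.card G := by
    have := card_lt_card_of_lt (lt_top_iff_ne_top.mpr hne)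
    rwa [Subgroup.card_top] at this
  exact ih ↥L hcard (resAut φ L hL) (hf.res hL)

lemma k_nilpotent_quot (ih : KHyp r G) (hf : Spl φ r) (N : Subgroup G) [N.Normal]
    (hN : AutInv φ N) (hne : N ≠ ⊥) : Group.IsNilpotent (G ⧸ N) :=
  ih _ (card_quotient_lt N hne) (quotAut φ N hN) (hf.quot hN)

/-- rr lemma for an abelian group given by the mixin -/
theorem rr_trivial' {U : Type*} [Group U] [IsMulCommutative U] [Finite U] (ζ ψ : U ≃* U)
    (hc : Commute ζ ψ) (hr : r.Prime) (hζ : ζ ^ r = 1) (hcop : (Nat.card U).Coprime r)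
    (htr : ∀ j, j < r → ∀ u, tr (ζ ^ j * ψ) r u = 1) : ∀ u, ζ u = u := by
  open scoped IsMulCommutative in
  exact rr_trivial ζ ψ hc hr hζ hcop
    (fun j hj u => (tr_eq_prod (ζ ^ j * ψ) r u).symm.trans (htr j hj u))

/-- the key contradiction: `G = P H` with `H` an abelian normal `q`-group, `C_H(P) = 1`, `p ≠ r` -/
theorem k_frobenius_contra (hr : r.Prime) (hf : Spl φ r) {p q : ℕ} [Fact p.Prime] [Fact q.Prime]
    (hpq : p ≠ q) (hpr : p ≠ r) (P H : Subgroup G) [hHn : H.Normal] (hP : IsPGroup p P)
    (hH : IsPGroup q H) (hPinv : AutInv φ P) (hHinv : AutInv φ H)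
    (hab : ∀ x ∈ H, ∀ y ∈ H, x * y = y * x)
    (hC : H ⊓ Subgroup.centralizer (P : Set G) = ⊥) : H = ⊥ := by
  classical
  haveI : IsMulCommutative ↥H := ⟨⟨fun a b => Subtype.ext (hab a a.2 b b.2)⟩⟩
  haveI : Fintype ↥P := Fintype.ofFinite _
  obtain ⟨s, hs⟩ : ∃ s, r = s + 1 := Nat.exists_eq_succ_of_ne_zero hr.ne_zero
  have hfH : Spl (resAut φ H hHinv) r := hf.res hHinv
  have hcopP : (Nat.card ↥P).Coprime r := by
    obtain ⟨k, hk⟩ := IsPGroup.iff_card.mp hP
    rw [hk]
    exact Nat.Coprime.pow_left k ((Nat.coprime_primes Fact.out hr).mpr hpr)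
  have hfP : Fpf (resAut φ P hPinv) r := (hf.res hPinv).fpf_of_coprime hcopP
  have key := frob_partition (U := ↥H) (Z := ↥P)
    ((MulAut.conjNormal (H := H)).comp P.subtype) (resAut φ H hHinv) (resAut φ P hPinv) s
    (by
      intro z u
      apply Subtype.ext
      show φ ((z : G) * (u : G) * (z : G)⁻¹) = φ (z : G) * φ (u : G) * (φ (z : G))⁻¹
      rw [map_mul, map_mul, map_inv])
    (by
      intro u
      have h1 : tr (resAut φ H hHinv) (s + 1) u = 1 := by rw [← hs]; exact hfH.split u
      open scoped IsMulCommutative in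
      exact (tr_eq_prod (resAut φ H hHinv) (s + 1) u).symm.trans h1)
    (by
      intro u hu
      have h1 : (u : G) ∈ H ⊓ Subgroup.centralizer (P : Set G) := by
        refine Subgroup.mem_inf.mpr ⟨u.2, ?_⟩
        rw [Subgroup.mem_centralizer_iff]
        intro z hz
        have h2 := congrArg Subtype.val (hu ⟨z, hz⟩)
        have h3 : z * (u : G) * z⁻¹ = (u : G) := h2
        exact mul_inv_eq_iff_eq_mul.mp h3
      rw [hC, Subgroup.mem_bot] at h1
      exact Subtype.ext h1)
    (by
      intro i hi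
      exact hfP.bij hr (Nat.succ_pos i) (by omega))
  rw [eq_bot_iff]
  intro h hh
  have h1 := congrArg Subtype.val (key ⟨h, hh⟩)
  have h2 : h ^ Fintype.card ↥P = 1 := by simpa using h1
  rw [← Nat.card_eq_fintype_card] at h2
  exact Subgroup.mem_bot.mpr (eq_one_of_pow_card_of_pgroups hpq hP hH hh h2)

/-- a nontrivial `r`-subgroup invariant under an automorphism `β` with `β ^ r = 1` has a
nontrivial central element of order `r` fixed by `β` -/
theorem exists_fixed_central (hr : r.Prime) {β : G ≃* G} (hβ : β ^ r = 1) (P : Subgroup G)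
    (hP : IsPGroup r P) (hP1 : P ≠ ⊥) (hPi : AutInv β P) :
    ∃ z : G, z ∈ P ∧ z ∈ Subgroup.centralizer (P : Set G) ∧ β z = z ∧ orderOf z = r := by
  haveI : Fact r.Prime := ⟨hr⟩
  set Zp : Subgroup G := P ⊓ Subgroup.centralizer (P : Set G) with hZp
  have hZi : AutInv β Zp := by
    intro x hx
    obtain ⟨hxP, hxC⟩ := Subgroup.mem_inf.mp hx
    refine Subgroup.mem_inf.mpr ⟨hPi x hxP, ?_⟩
    rw [Subgroup.mem_centralizer_iff] at hxC ⊢
    intro y hy
    have h1 := hxC (β.symm y) (hPi.symm_mem hy)
    have h2 := congrArg β h1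
    rw [map_mul, map_mul, β.apply_symm_apply] at h2
    exact h2
  have hZpP : IsPGroup r ↥Zp := hP.to_le inf_le_left
  -- `Zp` is nontrivial
  have hZ1 : Zp ≠ ⊥ := by
    haveI : Nontrivial ↥P := (Subgroup.nontrivial_iff_ne_bot P).mpr hP1
    haveI := hP.center_nontrivial
    obtain ⟨c, hc⟩ := exists_ne (1 : Subgroup.center ↥P)
    intro hbot
    have hmem : ((c : ↥P) : G) ∈ Zp := by
      refine Subgroup.mem_inf.mpr ⟨(c : ↥P).2, ?_⟩
      rw [Subgroup.mem_centralizer_iff]
      intro y hy
      have h1 := Subgroup.mem_center_iff.mp c.2 ⟨y, hy⟩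
      exact congrArg Subtype.val h1
    rw [hbot, Subgroup.mem_bot] at hmem
    apply hc
    apply Subtype.ext
    apply Subtype.ext
    exact hmem
  have hdvd : r ∣ Nat.card ↥Zp := by
    haveI : Nontrivial ↥Zp := (Subgroup.nontrivial_iff_ne_bot Zp).mpr hZ1
    obtain ⟨n, hn0, hn⟩ := hZpP.nontrivial_iff_card.mp inferInstance
    rw [hn]
    exact dvd_pow_self _ (ne_of_gt hn0)
  set θ : MulAut ↥Zp := resAut β Zp hZi with hθ
  have hθr : θ ^ r = 1 := by
    ext x
    rw [hθ, resAut_pow_coe, hβ]
    rfl
  have hT : IsPGroup r ↥(Subgroup.zpowers θ) := by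
    intro t
    refine ⟨1, ?_⟩
    obtain ⟨m, hm⟩ := Subgroup.mem_zpowers_iff.mp t.2
    apply Subtype.ext
    rw [pow_one, Subgroup.coe_pow, ← hm, ← zpow_natCast, ← zpow_mul, mul_comm, zpow_mul,
      zpow_natCast, hθr, one_zpow]
    rfl
  have hone : (1 : ↥Zp) ∈ MulAction.fixedPoints ↥(Subgroup.zpowers θ) ↥Zp := by
    intro t
    show (t : MulAut ↥Zp) 1 = 1
    exact map_one _
  obtain ⟨b, hb, hb1⟩ := hT.exists_fixed_point_of_prime_dvd_card_of_fixed_point ↥Zp hdvd hone
  have hbfix : θ b = b := hb ⟨θ, Subgroup.mem_zpowers θ⟩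
  have hbfix' : β (b : G) = (b : G) := congrArg Subtype.val hbfix
  have hb1' : (b : G) ≠ 1 := by
    intro h
    apply hb1
    exact (Subtype.ext h).symm
  -- order of `b`
  obtain ⟨k, hk⟩ := (IsPGroup.iff_orderOf.mp hZpP) b
  have hk' : orderOf (b : G) = r ^ k := by rw [← hk, Subgroup.orderOf_coe]
  have hk0 : k ≠ 0 := by
    intro h0
    rw [h0, pow_zero, orderOf_eq_one_iff] at hk'
    exact hb1' hk'
  have hrd : r ∣ orderOf (b : G) := by rw [hk']; exact dvd_pow_self _ hk0
  have hne0 : orderOf (b : G) ≠ 0 := by rw [hk']; exact pow_ne_zero _ hr.ne_zero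
  refine ⟨(b : G) ^ (orderOf (b : G) / r), ?_, ?_, ?_, orderOf_pow_orderOf_div hne0 hrd⟩
  · exact P.pow_mem (Subgroup.mem_inf.mp b.2).1 _
  · exact Subgroup.pow_mem _ (Subgroup.mem_inf.mp b.2).2 _
  · rw [map_pow, hbfix']

/-- a minimal counterexample to Kegel's theorem is solvable -/
theorem k_solvable_of_ih (ih : KHyp r G) (hf : Spl φ r) : Group.IsSolvable G := by
  by_cases h2 : IsPGroup 2 G
  · haveI : Fact (Nat.Prime 2) := ⟨Nat.prime_two⟩
    haveI := h2.isNilpotent
    infer_instance
  obtain ⟨q, hq, hqd, hq2⟩ : ∃ q : ℕ, q.Prime ∧ q ∣ Nat.card G ∧ q ≠ 2 := by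
    by_contra hcon
    push Not at hcon
    apply h2
    have : Nat.card G = 2 ^ (Nat.card G).primeFactorsList.length :=
      Nat.eq_prime_pow_of_unique_prime_dvd Nat.card_pos.ne' (fun {d} hd hdvd => hcon d hd hdvd)
    exact IsPGroup.of_card this
  haveI : Fact q.Prime := ⟨hq⟩
  obtain ⟨g, P, hPi⟩ := exists_conj_inv_sylow φ q
  have hβ : Spl (MulAut.conj g * φ) r := hf.conj g
  generalize MulAut.conj g * φ = β at hPi hβ
  have hP1 : (P : Subgroup G) ≠ ⊥ := P.ne_bot_of_dvd_card hqd
  have hZ1 : zq 0 (P : Subgroup G) ≠ ⊥ := Cfsg.Agent.S0658.zq_ne_bot P.isPGroup' hP1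
  have hZmap : (zq 0 (P : Subgroup G)).map β.toMonoidHom = zq 0 (P : Subgroup G) := by
    rw [zq_map_equiv β 0 (P : Subgroup G), hPi.map_eq]
  have hZi : AutInv β (zq 0 (P : Subgroup G)) := by
    intro x hx
    have h1 : β.toMonoidHom x ∈ (zq 0 (P : Subgroup G)).map β.toMonoidHom :=
      Subgroup.mem_map_of_mem _ hx
    rw [hZmap] at h1
    exact h1
  have hZp : IsPGroup q ↥(zq 0 (P : Subgroup G)) :=
    P.isPGroup'.to_le ((zq_le_jq 0 _).trans (jq_le 0 _))
  have hNi : AutInv β (Subgroup.normalizer ((zq 0 (P : Subgroup G) : Subgroup G) : Set G)) := by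
    intro x hx
    have h1 : β.toMonoidHom x ∈ (Subgroup.normalizer
        ((zq 0 (P : Subgroup G) : Subgroup G) : Set G)).map β.toMonoidHom :=
      Subgroup.mem_map_of_mem _ hx
    rw [Subgroup.map_equiv_normalizer_eq, hZmap] at h1
    exact h1
  by_cases hNtop : Subgroup.normalizer ((zq 0 (P : Subgroup G) : Subgroup G) : Set G) = ⊤
  · haveI hZn : (zq 0 (P : Subgroup G)).Normal := Subgroup.normalizer_eq_top_iff.mp hNtop
    haveI : Group.IsNilpotent (G ⧸ zq 0 (P : Subgroup G)) := k_nilpotent_quot ih hβ _ hZi hZ1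
    haveI : Group.IsNilpotent ↥(zq 0 (P : Subgroup G)) := hZp.isNilpotent
    exact (Group.isSolvable_iff_subgroup_quotient (zq 0 (P : Subgroup G))).mpr
      ⟨inferInstance, inferInstance⟩
  · have hNnil := k_nilpotent_sub ih hβ _ hNi hNtop
    have hNnpc := npc_of_nilpotent hNnil q
    have hG := gt_main hq2 _ G rfl P hNnpc
    obtain ⟨K, hKn, hKc, hKq⟩ := exists_normal_hall_of_hasNormalPComplement q hG
    haveI := hKn
    have hmem := mem_iff_coprime_of_normal_hall q K hKc hKq
    have hKi : AutInv β K := by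
      intro x hx
      rw [hmem] at hx ⊢
      rw [MulEquiv.orderOf_eq]
      exact hx
    have hKtop : K ≠ ⊤ := by
      intro h
      rw [h, Subgroup.card_top] at hKc
      exact (Nat.Prime.coprime_iff_not_dvd hq).mp hKc.symm hqd
    haveI : Group.IsNilpotent ↥K := k_nilpotent_sub ih hβ K hKi hKtop
    haveI : Group.IsNilpotent (G ⧸ K) := hKq.isNilpotent
    exact (Group.isSolvable_iff_subgroup_quotient K).mpr ⟨inferInstance, inferInstance⟩

/-- the solvable case of Kegel's theorem -/
theorem k_nilpotent_of_solvable (hr : r.Prime) (ih : KHyp r G) (hf : Spl φ r)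
    (hsol : Group.IsSolvable G) : Group.IsNilpotent G := by
  rcases subsingleton_or_nontrivial G with hsub | hnt
  · infer_instance
  obtain ⟨H, hHn, hHi, hH1, hmin⟩ := exists_min_inv_normal φ
  haveI := hHn
  -- `H` is abelian
  have hab : ∀ x ∈ H, ∀ y ∈ H, x * y = y * x := by
    have hlt : ⁅H, H⁆ < H := Group.IsSolvable.commutator_lt_of_ne_bot hH1
    have hci : AutInv φ ⁅H, H⁆ := by
      intro x hx
      have h1 : φ.toMonoidHom x ∈ (⁅H, H⁆).map φ.toMonoidHom := Subgroup.mem_map_of_mem _ hx
      rw [Subgroup.map_commutator, hHi.map_eq] at h1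
      exact h1
    rcases hmin ⁅H, H⁆ hlt.le inferInstance hci with h1 | h1
    · intro x hx y hy
      have h2 : ⁅x, y⁆ ∈ ⁅H, H⁆ := Subgroup.commutator_mem_commutator hx hy
      rw [h1, Subgroup.mem_bot] at h2
      exact commutatorElement_eq_one_iff_mul_comm.mp h2
    · exact absurd h1 hlt.ne
  -- `H` is a `q`-group
  obtain ⟨q, hq, hHq⟩ : ∃ q : ℕ, q.Prime ∧ IsPGroup q ↥H := by
    have hcard : Nat.card ↥H ≠ 1 := fun h => hH1 (Subgroup.card_eq_one.mp h)
    obtain ⟨q, hq, hqd⟩ := Nat.exists_prime_and_dvd hcard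
    refine ⟨q, hq, ?_⟩
    haveI : Fact q.Prime := ⟨hq⟩
    let Ω : Subgroup G :=
      { carrier := {h | h ∈ H ∧ h ^ q = 1}
        mul_mem' := by
          rintro a b ⟨ha, ha'⟩ ⟨hb, hb'⟩
          refine ⟨H.mul_mem ha hb, ?_⟩
          rw [(show Commute a b from hab a ha b hb).mul_pow, ha', hb', one_mul]
        one_mem' := ⟨H.one_mem, one_pow _⟩
        inv_mem' := by
          rintro a ⟨ha, ha'⟩
          exact ⟨H.inv_mem ha, by rw [inv_pow, ha', inv_one]⟩ }
    have hΩmem : ∀ x, x ∈ Ω ↔ x ∈ H ∧ x ^ q = 1 := fun x => Iff.rfl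
    have hΩH : Ω ≤ H := fun x hx => hx.1
    have hΩn : Ω.Normal := by
      refine ⟨fun n hn g => ?_⟩
      rw [hΩmem] at hn ⊢
      refine ⟨hHn.conj_mem n hn.1 g, ?_⟩
      rw [conj_pow, hn.2]; group
    have hΩi : AutInv φ Ω := by
      intro x hx
      rw [hΩmem] at hx ⊢
      exact ⟨hHi x hx.1, by rw [← map_pow, hx.2, map_one]⟩
    have hΩ1 : Ω ≠ ⊥ := by
      obtain ⟨x, hx⟩ := exists_prime_orderOf_dvd_card' (G := ↥H) q hqd
      intro hbot
      have hxΩ : (x : G) ∈ Ω := by
        rw [hΩmem]
        refine ⟨x.2, ?_⟩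
        have h1 : x ^ q = 1 := by rw [← hx]; exact pow_orderOf_eq_one x
        have h2 := congrArg Subtype.val h1
        simpa using h2
      rw [hbot, Subgroup.mem_bot] at hxΩ
      have h3 : x = 1 := Subtype.ext hxΩ
      rw [h3, orderOf_one] at hx
      exact hq.one_lt.ne hx
    rcases hmin Ω hΩH hΩn hΩi with h1 | h1
    · exact absurd h1 hΩ1
    · intro h
      refine ⟨1, ?_⟩
      have h2 : (h : G) ∈ Ω := by rw [h1]; exact h.2
      apply Subtype.ext
      rw [pow_one]
      simpa using h2.2
  haveI : Fact q.Prime := ⟨hq⟩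
  have hGq : Group.IsNilpotent (G ⧸ H) := k_nilpotent_quot ih hf H hHi hH1
  -- all Sylow subgroups are normal
  apply ((Group.isNilpotent_of_finite_tfae (G := G)).out 0 3 rfl rfl).mpr
  intro p hp P'
  haveI := hp
  obtain ⟨g, P, hPi⟩ := exists_conj_inv_sylow φ p
  have hβ : Spl (MulAut.conj g * φ) r := hf.conj g
  have hHβ : AutInv (MulAut.conj g * φ) H := (autInv_conj_mul_iff φ g H).mpr hHi
  have hminβ : ∀ M : Subgroup G, M ≤ H → M.Normal → AutInv (MulAut.conj g * φ) M →
      M = ⊥ ∨ M = H := by
    intro M hMH hMn hMi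
    haveI := hMn
    exact hmin M hMH hMn ((autInv_conj_mul_iff φ g M).mp hMi)
  generalize MulAut.conj g * φ = β at hPi hβ hHβ hminβ
  suffices hPn : (P : Subgroup G).Normal by
    obtain ⟨g, hg⟩ := MulAction.exists_smul_eq G P P'
    rw [← hg, Sylow.smul_eq_of_normal]
    exact hPn
  -- `P H` is normal
  have hLn : ((P : Subgroup G) ⊔ H).Normal := by
    haveI := hGq
    let Pb : Sylow p (G ⧸ H) := P.mapSurjective (QuotientGroup.mk'_surjective H)
    have hPb : (Pb : Subgroup (G ⧸ H)) = (P : Subgroup G).map (QuotientGroup.mk' H) := rfl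
    have hPbn : (Pb : Subgroup (G ⧸ H)).Normal := inferInstance
    have h1 : ((Pb : Subgroup (G ⧸ H)).comap (QuotientGroup.mk' H)).Normal := hPbn.comap _
    rw [hPb, Subgroup.comap_map_eq, QuotientGroup.ker_mk'] at h1
    exact h1
  by_cases hpq : p = q
  · subst hpq
    have hHP : H ≤ (P : Subgroup G) := hHq.le_sylow_of_normal P
    rw [sup_eq_left.mpr hHP] at hLn
    exact hLn
  by_cases hLtop : (P : Subgroup G) ⊔ H = ⊤
  · -- `C_H(P)`
    have hCn : (H ⊓ Subgroup.centralizer ((P : Subgroup G) : Set G)).Normal := by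
      rw [← Subgroup.normalizer_eq_top_iff, eq_top_iff, ← hLtop]
      apply sup_le
      · refine le_trans ?_ (normalizer_inf_normalizer_le _ _)
        apply le_inf
        · exact le_normalizer_of_normal hHn _
        · exact Subgroup.le_normalizer.trans (normalizer_le_normalizer_centralizer _)
      · refine le_trans ?_ (Subgroup.centralizer_le_normalizer _)
        intro h hh
        rw [Subgroup.mem_centralizer_iff]
        intro c hc
        exact hab c (Subgroup.mem_inf.mp hc).1 h hh
    have hCi : AutInv β (H ⊓ Subgroup.centralizer ((P : Subgroup G) : Set G)) := by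
      intro x hx
      obtain ⟨hxH, hxC⟩ := Subgroup.mem_inf.mp hx
      refine Subgroup.mem_inf.mpr ⟨hHβ x hxH, ?_⟩
      rw [Subgroup.mem_centralizer_iff] at hxC ⊢
      intro y hy
      have h1 := hxC (β.symm y) (hPi.symm_mem hy)
      have h2 := congrArg β h1
      rw [map_mul, map_mul, β.apply_symm_apply] at h2
      exact h2
    rcases hminβ _ inf_le_left hCn hCi with h1 | h1
    · by_cases hpr : p = r
      · -- the new case: `P` is an `r`-group
        subst hpr
        have hqp : q ≠ p := fun h => hpq h.symm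
        have hP1 : (P : Subgroup G) ≠ ⊥ := by
          intro hbot
          apply hH1
          rw [← h1, hbot]
          rw [eq_comm, inf_eq_left]
          intro x _
          rw [Subgroup.mem_centralizer_iff]
          intro y hy
          rw [Subgroup.coe_bot, Set.mem_singleton_iff] at hy
          rw [hy, one_mul, mul_one]
        obtain ⟨z, hzP, hzC, hzfix, hzord⟩ :=
          exists_fixed_central hr hβ.pow (P : Subgroup G) P.isPGroup' hP1 hPi
        have hz1 : z ≠ 1 := by
          intro h
          rw [h, orderOf_one] at hzord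
          exact hr.one_lt.ne hzord
        have hzr : z ^ p = 1 := by rw [← hzord]; exact pow_orderOf_eq_one z
        haveI : IsMulCommutative ↥H := ⟨⟨fun a b => Subtype.ext (hab a a.2 b b.2)⟩⟩
        -- the two commuting automorphisms of `H`
        have hcopH : (Nat.card ↥H).Coprime p := by
          obtain ⟨k, hk⟩ := IsPGroup.iff_card.mp hHq
          rw [hk]
          exact Nat.Coprime.pow_left k ((Nat.coprime_primes hq hr).mpr hqp)
        have hcomm : Commute (MulAut.conjNormal (H := H) z) (resAut β H hHβ) := by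
          show MulAut.conjNormal (H := H) z * resAut β H hHβ
            = resAut β H hHβ * MulAut.conjNormal (H := H) z
          ext u
          rw [MulAut.mul_apply, MulAut.mul_apply, MulAut.conjNormal_apply, resAut_coe, resAut_coe,
            MulAut.conjNormal_apply, map_mul, map_mul, map_inv, hzfix]
        have hζr : (MulAut.conjNormal (H := H) z) ^ p = 1 := by
          rw [← map_pow, hzr, map_one]
        have htr : ∀ j, j < p → ∀ u : ↥H,
            tr ((MulAut.conjNormal (H := H) z) ^ j * resAut β H hHβ) p u = 1 := by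
          intro j _ u
          have hS : Spl (MulAut.conj (z ^ j) * β) p := hβ.conj (z ^ j)
          have hHi' : AutInv (MulAut.conj (z ^ j) * β) H :=
            (autInv_conj_mul_iff β (z ^ j) H).mpr hHβ
          have heq : (MulAut.conjNormal (H := H) z) ^ j * resAut β H hHβ
              = resAut (MulAut.conj (z ^ j) * β) H hHi' := by
            ext u
            rw [← map_pow, MulAut.mul_apply, MulAut.conjNormal_apply, resAut_coe, resAut_coe,
              MulAut.mul_apply, MulAut.conj_apply]
          rw [heq]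
          exact (hS.res hHi').split u
        have hfixH := rr_trivial' (MulAut.conjNormal (H := H) z) (resAut β H hHβ) hcomm hr hζr
          hcopH htr
        -- `z` centralizes `H`
        have hzH : z ∈ Subgroup.centralizer (H : Set G) := by
          rw [Subgroup.mem_centralizer_iff]
          intro h hh
          have h2 := congrArg Subtype.val (hfixH ⟨h, hh⟩)
          rw [MulAut.conjNormal_apply] at h2
          have h3 : z * h * z⁻¹ = h := h2
          exact (mul_inv_eq_iff_eq_mul.mp h3).symm
        -- the normal subgroup `C = C_P(H)`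
        set C : Subgroup G := (P : Subgroup G) ⊓ Subgroup.centralizer (H : Set G) with hCdef
        have hC1 : C ≠ ⊥ := by
          intro hbot
          have : z ∈ C := Subgroup.mem_inf.mpr ⟨hzP, hzH⟩
          rw [hbot, Subgroup.mem_bot] at this
          exact hz1 this
        have hCnorm : C.Normal := by
          rw [← Subgroup.normalizer_eq_top_iff, eq_top_iff, ← hLtop]
          apply sup_le
          · refine le_trans ?_ (normalizer_inf_normalizer_le _ _)
            apply le_inf
            · exact Subgroup.le_normalizer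
            · exact (le_normalizer_of_normal hHn _).trans (normalizer_le_normalizer_centralizer _)
          · refine le_trans ?_ (Subgroup.centralizer_le_normalizer _)
            intro h hh
            rw [Subgroup.mem_centralizer_iff]
            intro c hc
            have := Subgroup.mem_centralizer_iff.mp (Subgroup.mem_inf.mp hc).2 h hh
            exact this.symm
        have hCinv : AutInv β C := by
          intro x hx
          obtain ⟨hxP, hxC⟩ := Subgroup.mem_inf.mp hx
          refine Subgroup.mem_inf.mpr ⟨hPi x hxP, ?_⟩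
          rw [Subgroup.mem_centralizer_iff] at hxC ⊢
          intro y hy
          have h1 := hxC (β.symm y) (hHβ.symm_mem hy)
          have h2 := congrArg β h1
          rw [map_mul, map_mul, β.apply_symm_apply] at h2
          exact h2
        haveI := hCnorm
        haveI hGC : Group.IsNilpotent (G ⧸ C) := k_nilpotent_quot ih hβ C hCinv hC1
        let Pb : Sylow p (G ⧸ C) := P.mapSurjective (QuotientGroup.mk'_surjective C)
        have hPb : (Pb : Subgroup (G ⧸ C)) = (P : Subgroup G).map (QuotientGroup.mk' C) := rfl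
        have hPbn : (Pb : Subgroup (G ⧸ C)).Normal := inferInstance
        have h5 : ((Pb : Subgroup (G ⧸ C)).comap (QuotientGroup.mk' C)).Normal := hPbn.comap _
        rw [hPb, Subgroup.comap_map_eq, QuotientGroup.ker_mk'] at h5
        have hCP : C ≤ (P : Subgroup G) := inf_le_left
        rw [sup_eq_left.mpr hCP] at h5
        exact h5
      · exfalso
        exact hH1 (k_frobenius_contra hr hβ hpq hpr (P : Subgroup G) H P.isPGroup' hHq hPi hHβ
          hab h1)
    · have hHC : H ≤ Subgroup.centralizer ((P : Subgroup G) : Set G) := by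
        rw [← h1]; exact inf_le_right
      rw [← Subgroup.normalizer_eq_top_iff, eq_top_iff, ← hLtop]
      exact sup_le Subgroup.le_normalizer (hHC.trans (Subgroup.centralizer_le_normalizer _))
  · -- `P H` is nilpotent
    have hLnil : Group.IsNilpotent ↥((P : Subgroup G) ⊔ H) :=
      k_nilpotent_sub ih hβ _ (hPi.sup hHβ) hLtop
    haveI := hLnil
    haveI := hLn
    have hPL : (P : Subgroup G) ≤ (P : Subgroup G) ⊔ H := le_sup_left
    have hP'n : ((P.subtype hPL : Sylow p ↥((P : Subgroup G) ⊔ H)) :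
        Subgroup ↥((P : Subgroup G) ⊔ H)).Normal := inferInstance
    have hfr := Sylow.normalizer_sup_eq_top (P.subtype hPL)
    rw [Sylow.coe_subtype] at hP'n hfr
    rw [Subgroup.subgroupOf_map_subtype, inf_eq_left.mpr hPL] at hfr
    have hLN : (P : Subgroup G) ⊔ H ≤ Subgroup.normalizer ((P : Subgroup G) : Set G) :=
      (Subgroup.normal_subgroupOf_iff_le_normalizer hPL).mp hP'n
    rw [sup_eq_left.mpr hLN] at hfr
    exact Subgroup.normalizer_eq_top_iff.mp hfr

end kegel

/-- **Kegel**: a finite group with a splitting automorphism whose `r`-th power is trivial,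
`r` prime, is nilpotent -/
theorem kegel {r : ℕ} (hr : r.Prime) :
    ∀ (n : ℕ) (G : Type u) [Group G] [Finite G], Nat.card G = n → ∀ φ : G ≃* G, Spl φ r →
      Group.IsNilpotent G := by
  intro n
  induction n using Nat.strong_induction_on with
  | _ n IH =>
  intro G _ _ hn φ hf
  have ih : KHyp r G := by
    intro H _ _ hlt ψ hψ
    exact IH (Nat.card H) (hn ▸ hlt) H rfl ψ hψ
  exact k_nilpotent_of_solvable hr ih hf (k_solvable_of_ih ih hf)

end Cfsg.Agent.Lib.Helper7
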