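import Mathlib

set_option autoImplicit false

namespace Cfsg.Agent.Lib.Helper7

variable {G : Type*} [Group G]

/-- Normalizers grow in finite `p`-groups (relative form). -/
theorem exists_mem_normalizer_not_mem {p : ℕ} [Fact p.Prime] (P D : Subgroup G) [Finite P]
    (hP : IsPGroup p P) (hD : D < P) :
    ∃ x ∈ P, x ∈ Subgroup.normalizer (D : Set G) ∧ x ∉ D := by
  haveI : Group.IsNilpotent P := hP.isNilpotent
  have hnc : NormalizerCondition P := Group.normalizerCondition_of_isNilpotent
  have hlt : D.subgroupOf P < ⊤ := by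
    rw [lt_top_iff_ne_top, Ne, Subgroup.subgroupOf_eq_top]
    exact not_le_of_gt hD
  have h1 := hnc _ hlt
  rw [← Subgroup.subgroupOf_normalizer_eq hD.le] at h1
  obtain ⟨x, hxN, hxD⟩ := SetLike.exists_of_lt h1
  exact ⟨x, x.2, hxN, hxD⟩

/-- In a `p`-closed group, every `p`-subgroup lies in any given Sylow `p`-subgroup. -/
theorem le_sylow_of_normal_sylow {p : ℕ} [Fact p.Prime] [Finite G] (S : Sylow p G)
    [hS : (S : Subgroup G).Normal] (K : Subgroup G) (hK : IsPGroup p K) : K ≤ S := by
  obtain ⟨S', hS'⟩ := hK.exists_le_sylow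
  obtain ⟨g, rfl⟩ := MulAction.exists_smul_eq G S S'
  rw [Sylow.smul_eq_of_normal] at hS'
  exact hS'

end Cfsg.Agent.Lib.Helper7
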