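import Mathlib
import Cfsg.Agent.Lib.Helper7.Conj
import Cfsg.Agent.Lib.Helper7.SylowBasic
import Cfsg.Agent.Lib.Helper7.PSubFrattini

set_option autoImplicit false

namespace Cfsg.Agent.Lib.Helper7

open scoped Pointwise

variable {G : Type*} [Group G]

/-- If `U` is a `p`-subgroup which is Sylow in `U ⊔ N` (`N` normal), then every `p`-subgroup
`A ≤ U ⊔ N` is conjugate into `U` by an element of `N`. -/
theorem exists_conj_mem_of_le_sup {p : ℕ} [Fact p.Prime] [Finite G] (U N A : Subgroup G)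
    [hN : N.Normal] (hU : IsPGroup p U) (hidx : ¬ p ∣ U.relIndex (U ⊔ N)) (hA : IsPGroup p A)
    (hAle : A ≤ U ⊔ N) : ∃ n ∈ N, ∀ a ∈ A, n⁻¹ * a * n ∈ U := by
  set L : Subgroup G := U ⊔ N with hL
  let S : Sylow p L := (hU.comap_subtype (K := L)).toSylow hidx
  have hS : ∀ z : L, z ∈ S ↔ (z : G) ∈ U := fun z => Iff.rfl
  have hQ : IsPGroup p (A.subgroupOf L) := hA.comap_subtype
  obtain ⟨S', hS'⟩ := hQ.exists_le_sylow
  obtain ⟨l, rfl⟩ := MulAction.exists_smul_eq L S S'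
  obtain ⟨u, hu, n, hn, hl⟩ := (Subgroup.mem_sup_of_normal_right (s := U) (t := N)).mp l.2
  refine ⟨u * n * u⁻¹, hN.conj_mem n hn u, ?_⟩
  intro a ha
  have h2 : (⟨a, hAle ha⟩ : L) ∈ A.subgroupOf L := by
    rw [Subgroup.mem_subgroupOf]; exact ha
  have h3 := (mem_sylow_smul S l _).mp (hS' h2)
  rw [hS] at h3
  have h4 : (l : G)⁻¹ * a * (l : G) ∈ U := by simpa using h3
  rw [← hl] at h4
  have e : (u * n * u⁻¹)⁻¹ * a * (u * n * u⁻¹) = u * ((u * n)⁻¹ * a * (u * n)) * u⁻¹ := by group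
  rw [e]
  exact U.mul_mem (U.mul_mem hu h4) (U.inv_mem hu)

end Cfsg.Agent.Lib.Helper7
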