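import Mathlib
import Cfsg.Agent.Lib.Helper7.Conj
import Cfsg.Agent.Lib.Helper7.SylowBasic
import Cfsg.Agent.Lib.Helper7.PSubFrattini
import Cfsg.Agent.Lib.Helper7.SylowSup
import Cfsg.Agent.Lib.Helper7.PGroupNormalizer

set_option autoImplicit false

namespace Cfsg.Agent.Lib.Helper7

variable {G : Type*} [Group G]

/-- if `s` inverts `u` modulo a normal subgroup `D`, it inverts all powers of `u` modulo `D` -/
theorem inverts_mod_pow (D : Subgroup G) [D.Normal] (s u : G) (h : s * u * s⁻¹ * u ∈ D) (k : ℕ) :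
    s * u ^ k * s⁻¹ * u ^ k ∈ D := by
  rw [← QuotientGroup.eq_one_iff] at h ⊢
  have h1 : (QuotientGroup.mk' D s) * (QuotientGroup.mk' D u) * (QuotientGroup.mk' D s)⁻¹
      = (QuotientGroup.mk' D u)⁻¹ := by
    have : (QuotientGroup.mk' D s) * (QuotientGroup.mk' D u) * (QuotientGroup.mk' D s)⁻¹
        * (QuotientGroup.mk' D u) = 1 := by
      simpa using h
    exact eq_inv_of_mul_eq_one_left this
  have h2 : ((s * u ^ k * s⁻¹ * u ^ k : G) : G ⧸ D)
      = ((QuotientGroup.mk' D s) * (QuotientGroup.mk' D u) * (QuotientGroup.mk' D s)⁻¹) ^ k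
        * (QuotientGroup.mk' D u) ^ k := by
    rw [conj_pow]; simp
  rw [h2, h1, inv_pow, inv_mul_cancel]

/-- Lifting a real element of odd prime order through a normal `2`-subgroup. -/
theorem isConj_inv_of_inverts_mod [Finite G] (D : Subgroup G) [hDn : D.Normal] (hD : IsPGroup 2 D)
    (w s : G) (q : ℕ) (hq : q.Prime) (hq2 : q ≠ 2) (hw : orderOf w = q)
    (hs : s * w * s⁻¹ * w ∈ D) : IsConj w w⁻¹ := by
  haveI : Fact q.Prime := ⟨hq⟩
  have hU : IsPGroup q (Subgroup.zpowers w) :=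
    isPGroup_zpowers_of_orderOf w 1 (by rw [hw, pow_one])
  have hA : IsPGroup q (Subgroup.zpowers (s * w * s⁻¹)) :=
    isPGroup_zpowers_of_orderOf _ 1 (by rw [orderOf_conj_eq, hw, pow_one])
  have hcop : (Nat.card D).Coprime q := by
    obtain ⟨k, hk⟩ := IsPGroup.iff_card.mp hD
    rw [hk]
    apply Nat.Coprime.pow_left
    exact (Nat.coprime_primes Nat.prime_two hq).mpr (Ne.symm hq2)
  have hAle : Subgroup.zpowers (s * w * s⁻¹) ≤ Subgroup.zpowers w ⊔ D := by
    rw [Subgroup.zpowers_le]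
    have : s * w * s⁻¹ = (s * w * s⁻¹ * w) * w⁻¹ := by group
    rw [this]
    exact Subgroup.mul_mem _ (Subgroup.mem_sup_right hs)
      (Subgroup.mem_sup_left (Subgroup.inv_mem _ (Subgroup.mem_zpowers w)))
  obtain ⟨n, hn, hconj⟩ := exists_conj_mem_of_le_sup (Subgroup.zpowers w) D
    (Subgroup.zpowers (s * w * s⁻¹)) hU (not_dvd_relIndex_sup_of_coprime _ D hcop) hA hAle
  have h1 := hconj _ (Subgroup.mem_zpowers _)
  rw [← (isOfFinOrder_of_finite w).mem_powers_iff_mem_zpowers, Submonoid.mem_powers_iff] at h1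
  obtain ⟨k, hk⟩ := h1
  -- w ^ (k+1) ∈ D
  have h2 : w ^ (k + 1) ∈ D := by
    rw [pow_succ, hk]
    have : n⁻¹ * (s * w * s⁻¹) * n * w = n⁻¹ * (s * w * s⁻¹ * w) * (w⁻¹ * n * w) := by group
    rw [this]
    apply D.mul_mem (D.mul_mem (D.inv_mem hn) hs)
    have := hDn.conj_mem n hn w⁻¹
    simpa using this
  have h3 : w ^ (k + 1) = 1 := by
    obtain ⟨j, hj⟩ := (IsPGroup.iff_orderOf.mp hD) ⟨w ^ (k + 1), h2⟩
    rw [Subgroup.orderOf_mk] at hj
    have hd : orderOf (w ^ (k + 1)) ∣ q := by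
      rw [← hw]; exact orderOf_pow_dvd (k + 1)
    rw [hj] at hd
    rcases (Nat.dvd_prime hq).mp hd with h | h
    · rw [← hj, orderOf_eq_one_iff] at h; exact h
    · exfalso
      have : 2 ∣ q := by rw [← h]; exact dvd_pow_self 2 (by rintro rfl; rw [pow_zero] at h; exact hq.one_lt.ne h)
      exact hq2 ((Nat.prime_dvd_prime_iff_eq Nat.prime_two hq).mp this).symm
  have h4 : w ^ k = w⁻¹ := by
    rw [pow_succ] at h3
    exact eq_inv_of_mul_eq_one_left h3
  rw [isConj_iff]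
  refine ⟨n⁻¹ * s, ?_⟩
  rw [← h4, hk]
  group

end Cfsg.Agent.Lib.Helper7
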