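import Mathlib
import Cfsg.Agent.Lib.Helper7.NoRealOdd

set_option autoImplicit false

namespace Cfsg.Agent.Lib.Helper7

/-- A finite group without non-trivial real elements of odd order has a normal Sylow
`2`-subgroup. -/
theorem sylow_two_normal_of_no_real_odd_aux : ∀ (n : ℕ) (G : Type*) [Group G] [Finite G],
    Nat.card G = n → (∀ x : G, IsConj x x⁻¹ → Odd (orderOf x) → x = 1) →
    ∀ P : Sylow 2 G, (P : Subgroup G).Normal := by
  intro n
  induction n using Nat.strong_induction_on with
  | _ n ih =>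
  intro G _ _ hcard hreal P0
  -- proper subgroups are 2-closed
  have hsub : ∀ H : Subgroup G, H ≠ ⊤ → ∀ S : Sylow 2 H, (S : Subgroup H).Normal := by
    intro H hH S
    have hlt : Nat.card H < n := by
      rw [← hcard]
      have h1 := H.card_mul_index
      have h2 : 1 < H.index := Subgroup.one_lt_index_of_ne_top hH
      have h3 : 0 < Nat.card H := Nat.card_pos
      nlinarith
    apply ih _ hlt H rfl
    intro x hx hodd
    have hx' : IsConj (x : G) (x : G)⁻¹ := by
      obtain ⟨c, hc⟩ := isConj_iff.mp hx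
      exact isConj_iff.mpr ⟨c, by simpa using congrArg Subtype.val hc⟩
    have : (x : G) = 1 := hreal x hx' (by rwa [Subgroup.orderOf_coe])
    exact Subtype.ext this
  by_contra hP0
  have hex : ∃ S T : Sylow 2 G, S ≠ T := by
    by_contra hno
    push_neg at hno
    apply hP0
    rw [← Subgroup.normalizer_eq_top_iff, eq_top_iff]
    intro g _
    exact Sylow.smul_eq_iff_mem_normalizer.mp (hno _ _)
  obtain ⟨S0, T0, hne0⟩ := hex
  let Tp := {PQ : Sylow 2 G × Sylow 2 G // PQ.1 ≠ PQ.2}
  haveI : Nonempty Tp := ⟨⟨(S0, T0), hne0⟩⟩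
  obtain ⟨⟨⟨S, T⟩, hne⟩, hmax⟩ := Finite.exists_max
    (fun t : Tp => Nat.card ((t.1.1 : Subgroup G) ⊓ t.1.2 : Subgroup G))
  simp only at hne hmax
  set D : Subgroup G := (S : Subgroup G) ⊓ T with hDdef
  have hDS : D < (S : Subgroup G) := by
    refine lt_of_le_of_ne inf_le_left ?_
    intro h
    apply hne
    have hle : (S : Subgroup G) ≤ T := by rw [← h]; exact inf_le_right
    exact Sylow.ext (S.is_maximal' T.isPGroup' hle).symm
  have hDT : D < (T : Subgroup G) := by
    refine lt_of_le_of_ne inf_le_right ?_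
    intro h
    apply hne
    have hle : (T : Subgroup G) ≤ S := by rw [← h]; exact inf_le_left
    exact Sylow.ext (T.is_maximal' S.isPGroup' hle)
  have hDp : IsPGroup 2 D := S.isPGroup'.to_le inf_le_left
  -- D is normal
  have hDn : D.Normal := by
    rw [← Subgroup.normalizer_eq_top_iff]
    by_contra hNtop
    set N : Subgroup G := Subgroup.normalizer (D : Set G) with hNdef
    have hcl := hsub N hNtop
    obtain ⟨S1⟩ : Nonempty (Sylow 2 N) := inferInstance
    haveI : (S1 : Subgroup N).Normal := hcl S1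
    obtain ⟨R, hR⟩ := (S1.isPGroup'.map N.subtype).exists_le_sylow
    have hKR : ∀ P' : Sylow 2 G, (P' : Subgroup G) ⊓ N ≤ R := by
      intro P' z hz
      have hK : IsPGroup 2 (((P' : Subgroup G) ⊓ N).subgroupOf N) :=
        (P'.isPGroup'.to_le inf_le_left).comap_subtype
      have hKS := le_sylow_of_normal_sylow S1 _ hK
      have hzN : z ∈ N := hz.2
      have : (⟨z, hzN⟩ : N) ∈ ((P' : Subgroup G) ⊓ N).subgroupOf N := by
        rw [Subgroup.mem_subgroupOf]; exact hz
      exact hR ⟨⟨z, hzN⟩, hKS this, rfl⟩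
    have hRP : ∀ P' : Sylow 2 G, D < (P' : Subgroup G) → R = P' := by
      intro P' hDP'
      by_contra hne'
      obtain ⟨x, hxP, hxN, hxD⟩ :=
        exists_mem_normalizer_not_mem (P' : Subgroup G) D P'.isPGroup' hDP'
      have hle : D ≤ (R : Subgroup G) ⊓ P' := by
        intro z hz
        exact ⟨hKR P' ⟨hDP'.le hz, Subgroup.le_normalizer hz⟩, hDP'.le hz⟩
      have h1 := hmax ⟨(R, P'), hne'⟩
      simp only at h1
      have h2 := Subgroup.eq_of_le_of_card_ge hle h1
      apply hxD
      rw [h2]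
      exact ⟨hKR P' ⟨hxP, hxN⟩, hxP⟩
    exact hne ((hRP S hDS).symm.trans (hRP T hDT))
  haveI := hDn
  -- key property of D
  have hkey : ∀ R P' : Sylow 2 G, ∀ x : G, x ∈ R → x ∈ P' → x ∉ D → R = P' := by
    intro R P' x hxR hxP hxD
    by_contra hne'
    have h1 := hmax ⟨(R, P'), hne'⟩
    simp only at h1
    have hle : D ≤ (R : Subgroup G) ⊓ P' :=
      le_inf (hDp.le_sylow_of_normal R) (hDp.le_sylow_of_normal P')
    have h2 := Subgroup.eq_of_le_of_card_ge hle h1
    apply hxD
    rw [h2]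
    exact ⟨hxR, hxP⟩
  -- involutions modulo D
  have hinv : ∀ P' : Sylow 2 G, D < (P' : Subgroup G) → ∃ s ∈ P', s ∉ D ∧ s ^ 2 ∈ D := by
    intro P' hlt
    obtain ⟨s0, hs0P, hs0D⟩ := SetLike.exists_of_lt hlt
    have hne1 : QuotientGroup.mk' D s0 ≠ 1 := fun h => hs0D ((QuotientGroup.eq_one_iff s0).mp h)
    obtain ⟨k, hk⟩ := orderOf_eq_prime_pow_of_mem_sylow P' s0 hs0P
    have hdvd : orderOf (QuotientGroup.mk' D s0) ∣ 2 ^ k := hk ▸ orderOf_map_dvd _ s0
    obtain ⟨j, hj, hoj⟩ := (Nat.dvd_prime_pow Nat.prime_two).mp hdvd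
    have hj0 : j ≠ 0 := by
      rintro rfl
      rw [pow_zero, orderOf_eq_one_iff] at hoj
      exact hne1 hoj
    refine ⟨s0 ^ 2 ^ (j - 1), Subgroup.pow_mem _ hs0P _, ?_, ?_⟩
    · intro h
      rw [← QuotientGroup.eq_one_iff] at h
      have h' : (QuotientGroup.mk' D s0) ^ 2 ^ (j - 1) = 1 := by
        rw [← map_pow]; exact h
      have h2 := orderOf_dvd_of_pow_eq_one h'
      rw [hoj] at h2
      have := (Nat.pow_dvd_pow_iff_le_right (by norm_num : 1 < 2)).mp h2
      omega
    · rw [← pow_mul, ← pow_succ, Nat.sub_add_cancel (Nat.pos_of_ne_zero hj0),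
        ← QuotientGroup.eq_one_iff]
      have : ((s0 ^ 2 ^ j : G) : G ⧸ D) = (QuotientGroup.mk' D s0) ^ 2 ^ j := by simp
      rw [this, ← hoj]
      exact pow_orderOf_eq_one _
  obtain ⟨s, hsS, hsD, hs2⟩ := hinv S hDS
  obtain ⟨t, htT, htD, ht2⟩ := hinv T hDT
  set u := s * t with hu
  -- s inverts u modulo D
  have hrel : s * u * s⁻¹ * u ∈ D := by
    rw [← QuotientGroup.eq_one_iff] at hs2 ht2 ⊢
    have ha : (QuotientGroup.mk' D s) * (QuotientGroup.mk' D s) = 1 := by
      rw [← map_mul, ← pow_two]; exact hs2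
    have hb : (QuotientGroup.mk' D t) * (QuotientGroup.mk' D t) = 1 := by
      rw [← map_mul, ← pow_two]; exact ht2
    have e : ((s * u * s⁻¹ * u : G) : G ⧸ D)
        = (QuotientGroup.mk' D s) * (QuotientGroup.mk' D s) *
          ((QuotientGroup.mk' D t) * (QuotientGroup.mk' D t)) := by
      rw [hu]
      simp only [QuotientGroup.mk'_apply, QuotientGroup.mk_mul, QuotientGroup.mk_inv]
      group
    rw [e, ha, hb, one_mul]
  -- u is not a 2-element
  have hunot : ¬ ∃ k : ℕ, orderOf u = 2 ^ k := by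
    rintro ⟨k, hk⟩
    have hM : IsPGroup 2 (D ⊔ Subgroup.zpowers u : Subgroup G) :=
      IsPGroup.to_sup_of_normal_left hDp (isPGroup_zpowers_of_orderOf u k hk)
    have hsN : s ∈ Subgroup.normalizer ((D ⊔ Subgroup.zpowers u : Subgroup G) : Set G) := by
      apply mem_normalizer_of_conj_mem
      have hle : D ⊔ Subgroup.zpowers u ≤
          (D ⊔ Subgroup.zpowers u).comap (MulAut.conj s).toMonoidHom := by
        apply sup_le
        · intro d hd
          rw [Subgroup.mem_comap]
          exact Subgroup.mem_sup_left (hDn.conj_mem d hd s)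
        · rw [Subgroup.zpowers_le, Subgroup.mem_comap]
          have : (MulAut.conj s).toMonoidHom u = (s * u * s⁻¹ * u) * u⁻¹ := by
            simp [MulAut.conj_apply]
          rw [this]
          exact Subgroup.mul_mem _ (Subgroup.mem_sup_left hrel)
            (Subgroup.mem_sup_right (Subgroup.inv_mem _ (Subgroup.mem_zpowers u)))
      intro x hx
      have := hle hx
      rw [Subgroup.mem_comap] at this
      simpa [MulAut.conj_apply] using this
    obtain ⟨ks, hks⟩ := orderOf_eq_prime_pow_of_mem_sylow S s hsS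
    have hL : IsPGroup 2 ((D ⊔ Subgroup.zpowers u) ⊔ Subgroup.zpowers s : Subgroup G) := by
      apply IsPGroup.to_sup_of_normal_left' hM (isPGroup_zpowers_of_orderOf s ks hks)
      rw [Subgroup.zpowers_le]; exact hsN
    obtain ⟨R, hR⟩ := hL.exists_le_sylow
    have hsR : s ∈ R := hR (Subgroup.mem_sup_right (Subgroup.mem_zpowers s))
    have huR : u ∈ R :=
      hR (Subgroup.mem_sup_left (Subgroup.mem_sup_right (Subgroup.mem_zpowers u)))
    have htR : t ∈ R := by
      have : t = s⁻¹ * u := by rw [hu]; group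
      rw [this]
      exact mul_mem (inv_mem hsR) huR
    have h1 := hkey R S s hsR hsS hsD
    have h2 := hkey R T t htR htT htD
    exact hne (h1.symm.trans h2)
  -- an odd prime q dividing the order of u
  obtain ⟨a, m, hm, hn⟩ := Nat.exists_eq_two_pow_mul_odd (orderOf_pos u).ne'
  have hm1 : m ≠ 1 := by
    rintro rfl
    exact hunot ⟨a, by rw [hn, mul_one]⟩
  have hq : (m.minFac).Prime := Nat.minFac_prime hm1
  have hqm : m.minFac ∣ m := Nat.minFac_dvd m
  have hq2 : m.minFac ≠ 2 := by
    intro h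
    rw [h] at hqm
    exact (Nat.not_even_iff_odd.mpr hm) (even_iff_two_dvd.mpr hqm)
  have hqu : m.minFac ∣ orderOf u := by rw [hn]; exact Dvd.dvd.mul_left hqm _
  obtain ⟨c, hc⟩ := hqu
  have hc0 : c ≠ 0 := by
    rintro rfl
    rw [mul_zero] at hc
    exact (orderOf_pos u).ne' hc
  set w := u ^ c with hw
  have how : orderOf w = m.minFac := by
    rw [hw, orderOf_pow_of_dvd hc0 (by rw [hc]; exact Dvd.intro_left _ rfl)]
    nth_rewrite 1 [hc]
    exact Nat.mul_div_cancel _ (Nat.pos_of_ne_zero hc0)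
  have hrelw : s * w * s⁻¹ * w ∈ D := inverts_mod_pow D s u hrel c
  have hconj := isConj_inv_of_inverts_mod D hDp w s m.minFac hq hq2 how hrelw
  have hwodd : Odd (orderOf w) := by
    rw [how]
    exact Odd.of_dvd_nat hm hqm
  have hw1 := hreal w hconj hwodd
  rw [hw1, orderOf_one] at how
  exact hq.one_lt.ne how

theorem sylow_two_normal_of_no_real_odd {G : Type*} [Group G] [Finite G]
    (h : ∀ x : G, IsConj x x⁻¹ → Odd (orderOf x) → x = 1) (P : Sylow 2 G) :
    (P : Subgroup G).Normal :=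
  sylow_two_normal_of_no_real_odd_aux _ G rfl h P

end Cfsg.Agent.Lib.Helper7
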