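import Mathlib
import Cfsg.Agent.S3977

set_option autoImplicit false

namespace Cfsg.Agent.Lib.Helper7

variable {G : Type*} [Group G]

theorem eq_one_of_conj_commute (x a c : G) (h : x * a * x⁻¹ = a * c) (hc : x * c = c * x) (p k : ℕ)
    (hck : c ^ (p ^ k) = 1) (hx : (orderOf x).Coprime p) : c = 1 := by
  have h1 : ∀ n : ℕ, x ^ n * a * (x ^ n)⁻¹ = a * c ^ n := by
    intro n
    induction n with
    | zero => simp
    | succ n ih =>
      have hcn : x * c ^ n * x⁻¹ = c ^ n := by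
        have : Commute x (c ^ n) := (show Commute x c from hc).pow_right n
        rw [this.eq]; group
      calc x ^ (n + 1) * a * (x ^ (n + 1))⁻¹ = x * (x ^ n * a * (x ^ n)⁻¹) * x⁻¹ := by
            rw [pow_succ']; group
        _ = x * (a * c ^ n) * x⁻¹ := by rw [ih]
        _ = (x * a * x⁻¹) * (x * c ^ n * x⁻¹) := by group
        _ = a * c * c ^ n := by rw [h, hcn]
        _ = a * c ^ (n + 1) := by rw [pow_succ']; group
  have h2 := h1 (orderOf x)
  rw [pow_orderOf_eq_one] at h2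
  have h3 : c ^ orderOf x = 1 := by
    have : a = a * c ^ orderOf x := by simpa using h2
    exact (mul_eq_left.1 this.symm)
  have hd1 : orderOf c ∣ orderOf x := orderOf_dvd_of_pow_eq_one h3
  have hd2 : orderOf c ∣ p ^ k := orderOf_dvd_of_pow_eq_one hck
  have hcop : Nat.gcd (orderOf x) (p ^ k) = 1 := Nat.Coprime.pow_right k hx
  have : orderOf c = 1 := Nat.dvd_one.1 (hcop ▸ Nat.dvd_gcd hd1 hd2)
  exact orderOf_eq_one_iff.1 this

/-- An automorphism of order prime to `p` (`p` odd) of a `p`-group which fixes all elements of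
order `p` is trivial. -/
theorem centralizes_of_centralizes_order_p [Finite G] (p : ℕ) [hp : Fact p.Prime] (hp2 : p ≠ 2) (x : G)
    (hx : (orderOf x).Coprime p) :
    ∀ n : ℕ, ∀ P : Subgroup G, Nat.card P = n → IsPGroup p P →
      (∀ a ∈ P, x * a * x⁻¹ ∈ P) →
      (∀ a ∈ P, orderOf a = p → x * a = a * x) → ∀ a ∈ P, x * a = a * x := by
  intro n
  induction n using Nat.strong_induction_on with
  | _ n ih =>
  intro P hn hP hφ hord
  have hpp : p.Prime := hp.out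
  have hpk : ∀ a ∈ P, ∃ k, a ^ (p ^ k) = 1 := by
    intro a ha
    obtain ⟨k, hk⟩ := hP ⟨a, ha⟩
    exact ⟨k, by simpa [Subtype.ext_iff] using hk⟩
  have IH : ∀ Q : Subgroup G, Q ≤ P → Q ≠ P → (∀ q ∈ Q, x * q * x⁻¹ ∈ Q) →
      ∀ q ∈ Q, x * q = q * x := by
    intro Q hQP hne hQx q hq
    have hlt : Nat.card Q < n := by
      rw [← hn]
      by_contra hcon
      exact hne (Subgroup.eq_of_le_of_card_ge hQP (not_lt.1 hcon))
    exact ih (Nat.card Q) hlt Q rfl (hP.to_le hQP) hQx (fun a ha h => hord a (hQP ha) h) q hq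
  by_cases hbot : P = ⊥
  · intro a ha
    rw [hbot, Subgroup.mem_bot] at ha
    rw [ha]; simp
  -- the commutator subgroup [P, x]
  obtain ⟨Q, hQdef⟩ : ∃ Q : Subgroup G,
      Q = Subgroup.closure ((fun a => a⁻¹ * (x * a * x⁻¹)) '' (P : Set G)) := ⟨_, rfl⟩
  have hQP : Q ≤ P := by
    rw [hQdef, Subgroup.closure_le]
    rintro _ ⟨a, ha, rfl⟩
    exact Subgroup.mul_mem _ (Subgroup.inv_mem _ ha) (hφ a ha)
  have hcQ : ∀ a ∈ P, a⁻¹ * (x * a * x⁻¹) ∈ Q := by
    intro a ha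
    rw [hQdef]; exact Subgroup.subset_closure ⟨a, ha, rfl⟩
  have hQx : ∀ q ∈ Q, x * q * x⁻¹ ∈ Q := by
    intro q hq
    rw [hQdef] at hq
    induction hq using Subgroup.closure_induction with
    | mem y hy =>
      obtain ⟨a, ha, rfl⟩ := hy
      have : x * (a⁻¹ * (x * a * x⁻¹)) * x⁻¹ = (x * a * x⁻¹)⁻¹ * (x * (x * a * x⁻¹) * x⁻¹) := by
        group
      rw [this]; exact hcQ _ (hφ a ha)
    | one => simp
    | mul a b _ _ iha ihb =>
      have : x * (a * b) * x⁻¹ = (x * a * x⁻¹) * (x * b * x⁻¹) := by group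
      rw [this]; exact Subgroup.mul_mem _ iha ihb
    | inv a _ iha =>
      have : x * a⁻¹ * x⁻¹ = (x * a * x⁻¹)⁻¹ := by group
      rw [this]; exact Subgroup.inv_mem _ iha
  -- general finishing step: if x commutes with c(a) then a is fixed
  have hfin : ∀ a ∈ P, x * (a⁻¹ * (x * a * x⁻¹)) = (a⁻¹ * (x * a * x⁻¹)) * x → x * a = a * x := by
    intro a ha hc
    obtain ⟨k, hk⟩ := hpk _ (hQP (hcQ a ha))
    have h1 : x * a * x⁻¹ = a * (a⁻¹ * (x * a * x⁻¹)) := by group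
    have h2 := eq_one_of_conj_commute x a _ h1 hc p k hk hx
    rw [h2, mul_one] at h1
    calc x * a = x * a * x⁻¹ * x := by group
      _ = a * x := by rw [h1]
  by_cases hQne : Q = P
  swap
  · -- [P,x] < P : x centralizes [P,x]
    intro a ha
    exact hfin a ha (IH Q hQP hQne hQx _ (hcQ a ha))
  -- [P,x] = P
  -- a subgroup of index p
  obtain ⟨k, hk⟩ := IsPGroup.exists_card_eq hP
  have hk0 : k ≠ 0 := by
    rintro rfl
    rw [pow_zero] at hk
    exact hbot (Subgroup.card_eq_one.1 hk)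
  obtain ⟨M, hM⟩ := Sylow.exists_subgroup_card_pow_prime p
    (show p ^ (k - 1) ∣ Nat.card P from hk ▸ pow_dvd_pow p (Nat.sub_le k 1))
  have hMidx : M.index = p := by
    have h1 := Subgroup.card_mul_index M
    rw [hM, hk] at h1
    have h2 : p ^ k = p ^ (k - 1) * p := by
      rw [← pow_succ]; congr 1; omega
    rw [h2] at h1
    exact Nat.eq_of_mul_eq_mul_left (pow_pos hpp.pos _) h1
  haveI hMn : M.Normal := by
    apply Subgroup.normal_of_index_eq_minFac_card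
    rw [hk, Nat.Prime.pow_minFac hpp hk0, hMidx]
  have hcardq : Nat.card ((P : Subgroup G) ⧸ M) = p := by
    rw [← Subgroup.index_eq_card, hMidx]
  haveI : IsCyclic ((P : Subgroup G) ⧸ M) := isCyclic_of_prime_card hcardq
  have hMpow : ∀ a : P, a ^ p ∈ M := by
    intro a
    rw [← QuotientGroup.eq_one_iff, QuotientGroup.mk_pow, ← hcardq]
    exact pow_card_eq_one'
  have hMcomm : ∀ a b : P, a * b * a⁻¹ * b⁻¹ ∈ M := by
    intro a b
    rw [← QuotientGroup.eq_one_iff]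
    have hc : (a : (P : Subgroup G) ⧸ M) * (b : (P : Subgroup G) ⧸ M) = b * a :=
      (IsCyclic.isMulCommutative (α := (P : Subgroup G) ⧸ M)).is_comm.comm _ _
    rw [QuotientGroup.mk_mul, QuotientGroup.mk_mul, QuotientGroup.mk_mul, hc,
      QuotientGroup.mk_inv, QuotientGroup.mk_inv]
    group
  -- the Frattini-like subgroup
  obtain ⟨Φ, hΦdef⟩ : ∃ Φ : Subgroup G,
      Φ = Subgroup.closure (((fun a => a ^ p) '' (P : Set G)) ∪
        {z | ∃ a ∈ P, ∃ b ∈ P, z = a * b * a⁻¹ * b⁻¹}) := ⟨_, rfl⟩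
  have hΦpow : ∀ a ∈ P, a ^ p ∈ Φ := by
    intro a ha
    rw [hΦdef]; exact Subgroup.subset_closure (Or.inl ⟨a, ha, rfl⟩)
  have hΦcomm : ∀ a ∈ P, ∀ b ∈ P, a * b * a⁻¹ * b⁻¹ ∈ Φ := by
    intro a ha b hb
    rw [hΦdef]; exact Subgroup.subset_closure (Or.inr ⟨a, ha, b, hb, rfl⟩)
  have hΦM : Φ ≤ M.map (P : Subgroup G).subtype := by
    rw [hΦdef, Subgroup.closure_le]
    rintro z (⟨a, ha, rfl⟩ | ⟨a, ha, b, hb, rfl⟩)
    · exact ⟨⟨a, ha⟩ ^ p, hMpow ⟨a, ha⟩, by simp⟩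
    · exact ⟨⟨a, ha⟩ * ⟨b, hb⟩ * ⟨a, ha⟩⁻¹ * ⟨b, hb⟩⁻¹, hMcomm ⟨a, ha⟩ ⟨b, hb⟩, by simp⟩
  have hΦP : Φ ≤ P := by
    refine hΦM.trans ?_
    rintro _ ⟨y, _, rfl⟩
    exact y.2
  have hΦne : Φ ≠ P := by
    intro h
    have h1 : Nat.card Φ ≤ Nat.card (M.map (P : Subgroup G).subtype) :=
      Subgroup.card_le_of_le hΦM
    rw [Subgroup.card_map_of_injective (Subgroup.subtype_injective _), hM, h, hk] at h1
    have : p ^ (k - 1) < p ^ k := Nat.pow_lt_pow_right hpp.one_lt (by omega)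
    omega
  have hΦx : ∀ d ∈ Φ, x * d * x⁻¹ ∈ Φ := by
    intro d hd
    rw [hΦdef] at hd
    induction hd using Subgroup.closure_induction with
    | mem y hy =>
      rcases hy with ⟨a, ha, rfl⟩ | ⟨a, ha, b, hb, rfl⟩
      · have : x * a ^ p * x⁻¹ = (x * a * x⁻¹) ^ p := by rw [conj_pow]
        rw [this]; exact hΦpow _ (hφ a ha)
      · have : x * (a * b * a⁻¹ * b⁻¹) * x⁻¹ =
            (x * a * x⁻¹) * (x * b * x⁻¹) * (x * a * x⁻¹)⁻¹ * (x * b * x⁻¹)⁻¹ := by group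
        rw [this]; exact hΦcomm _ (hφ a ha) _ (hφ b hb)
    | one => simp
    | mul a b _ _ iha ihb =>
      have : x * (a * b) * x⁻¹ = (x * a * x⁻¹) * (x * b * x⁻¹) := by group
      rw [this]; exact Subgroup.mul_mem _ iha ihb
    | inv a _ iha =>
      have : x * a⁻¹ * x⁻¹ = (x * a * x⁻¹)⁻¹ := by group
      rw [this]; exact Subgroup.inv_mem _ iha
  have hΦn : ∀ t ∈ P, ∀ d ∈ Φ, t * d * t⁻¹ ∈ Φ := by
    intro t ht d hd
    rw [hΦdef] at hd
    induction hd using Subgroup.closure_induction with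
    | mem y hy =>
      rcases hy with ⟨a, ha, rfl⟩ | ⟨a, ha, b, hb, rfl⟩
      · have : t * a ^ p * t⁻¹ = (t * a * t⁻¹) ^ p := by rw [conj_pow]
        rw [this]
        exact hΦpow _ (Subgroup.mul_mem _ (Subgroup.mul_mem _ ht ha) (Subgroup.inv_mem _ ht))
      · have : t * (a * b * a⁻¹ * b⁻¹) * t⁻¹ =
            (t * a * t⁻¹) * (t * b * t⁻¹) * (t * a * t⁻¹)⁻¹ * (t * b * t⁻¹)⁻¹ := by group
        rw [this]
        exact hΦcomm _ (Subgroup.mul_mem _ (Subgroup.mul_mem _ ht ha) (Subgroup.inv_mem _ ht)) _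
          (Subgroup.mul_mem _ (Subgroup.mul_mem _ ht hb) (Subgroup.inv_mem _ ht))
    | one => simp
    | mul a b _ _ iha ihb =>
      have : t * (a * b) * t⁻¹ = (t * a * t⁻¹) * (t * b * t⁻¹) := by group
      rw [this]; exact Subgroup.mul_mem _ iha ihb
    | inv a _ iha =>
      have : t * a⁻¹ * t⁻¹ = (t * a * t⁻¹)⁻¹ := by group
      rw [this]; exact Subgroup.inv_mem _ iha
  have hΦfix : ∀ d ∈ Φ, x * d = d * x := IH Φ hΦP hΦne hΦx
  have hΦfix' : ∀ d ∈ Φ, x * d * x⁻¹ = d := by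
    intro d hd
    rw [hΦfix d hd]; group
  -- Φ is central in P
  have hΦZ : ∀ d ∈ Φ, ∀ b ∈ P, b * d = d * b := by
    intro d hd b hb
    have hle : Q ≤ Subgroup.centralizer {d} := by
      rw [hQdef, Subgroup.closure_le]
      rintro _ ⟨a, ha, rfl⟩
      rw [SetLike.mem_coe, Subgroup.mem_centralizer_iff]
      intro d' hd'
      rw [Set.mem_singleton_iff] at hd'
      subst hd'
      have h1 := hΦfix' _ (hΦn a ha d' hd)
      have h2 : x * (a * d' * a⁻¹) * x⁻¹ = (x * a * x⁻¹) * d' * (x * a * x⁻¹)⁻¹ := by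
        have : x * (a * d' * a⁻¹) * x⁻¹ = (x * a * x⁻¹) * (x * d' * x⁻¹) * (x * a * x⁻¹)⁻¹ := by
          group
        rw [this, hΦfix' d' hd]
      rw [h2] at h1
      -- (xax⁻¹) d (xax⁻¹)⁻¹ = a d a⁻¹
      calc d' * (a⁻¹ * (x * a * x⁻¹)) = a⁻¹ * (a * d' * a⁻¹) * (x * a * x⁻¹) := by group
        _ = a⁻¹ * ((x * a * x⁻¹) * d' * (x * a * x⁻¹)⁻¹) * (x * a * x⁻¹) := by rw [h1]
        _ = a⁻¹ * (x * a * x⁻¹) * d' := by group
    have hb' : b ∈ Q := by rw [hQne]; exact hb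
    have := Subgroup.mem_centralizer_iff.1 (hle hb') d (Set.mem_singleton d)
    exact this.symm
  intro a ha
  apply hfin a ha
  obtain ⟨c, hcdef⟩ : ∃ c, c = a⁻¹ * (x * a * x⁻¹) := ⟨_, rfl⟩
  rw [← hcdef]
  have hcP : c ∈ P := hcdef ▸ hQP (hcQ a ha)
  have hac : x * a * x⁻¹ = a * c := by rw [hcdef]; group
  obtain ⟨e, hedef⟩ : ∃ e, e = c * a * c⁻¹ * a⁻¹ := ⟨_, rfl⟩
  have heΦ : e ∈ Φ := hedef ▸ hΦcomm c hcP a ha
  have hca : c * a = e * a * c := by rw [hedef]; group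
  have hea : Commute e a := (hΦZ e heΦ a ha).symm
  have hec : Commute e c := (hΦZ e heΦ c hcP).symm
  have hep : e ^ p = 1 := by
    have h1 := Cfsg.Agent.S3977.pow_mul_of_comm hca hec p
    have h2 : c ^ p * a = a * c ^ p := (hΦZ _ (hΦpow c hcP) a ha).symm
    rw [h2] at h1
    -- a * c^p = e^p * a * c^p
    have h3 : a = e ^ p * a := by
      have := mul_right_cancel h1
      exact this
    have h4 : e ^ p * a = 1 * a := by rw [one_mul]; exact h3.symm
    exact mul_right_cancel h4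
  have hformula := Cfsg.Agent.S3977.mul_pow_class2 hca hea hec p
  have hodd : 2 ∣ p - 1 := by
    have := hpp.eq_one_or_self_of_dvd 2
    rcases Nat.Prime.eq_two_or_odd hpp with h | h
    · exact absurd h hp2
    · omega
  have hexp : e ^ (p * (p - 1) / 2) = 1 := by
    rw [Nat.mul_div_assoc p hodd, pow_mul, hep, one_pow]
  rw [hexp, one_mul] at hformula
  have hleft : (a * c) ^ p = a ^ p := by
    rw [← hac, conj_pow]
    exact hΦfix' _ (hΦpow a ha)
  rw [hleft] at hformula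
  have hcp : c ^ p = 1 := by
    have : a ^ p * 1 = a ^ p * c ^ p := by rw [mul_one]; exact hformula
    exact (mul_left_cancel this).symm
  by_cases hc1 : c = 1
  · rw [hc1]; simp
  · have : orderOf c = p := orderOf_eq_prime hcp hc1
    exact hord c hcP this

end Cfsg.Agent.Lib.Helper7
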