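import Mathlib
import Cfsg.Prelude.Def_Solvable

set_option autoImplicit false

namespace Cfsg.Agent.Lib.Helper7

open Cfsg

variable {G : Type*} [Group G]

theorem pCore_normal (p : ℕ) : (pCore p G).Normal := by
  unfold pCore
  exact Subgroup.sSup_normal _ (fun N hN => hN.1)

theorem pCore_le_sylow {p : ℕ} [Fact p.Prime] [Finite G] (Q : Sylow p G) : pCore p G ≤ Q := by
  unfold pCore
  apply sSup_le
  rintro N ⟨hN1, hN2⟩
  haveI := hN1
  exact hN2.le_sylow_of_normal Q

theorem pCore_isPGroup {p : ℕ} [Fact p.Prime] [Finite G] : IsPGroup p (pCore p G) := by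
  obtain ⟨Q⟩ : Nonempty (Sylow p G) := inferInstance
  exact Q.isPGroup'.to_le (pCore_le_sylow Q)

theorem le_pCore {p : ℕ} (N : Subgroup G) (h1 : N.Normal) (h2 : IsPGroup p N) : N ≤ pCore p G :=
  le_sSup ⟨h1, h2⟩

end Cfsg.Agent.Lib.Helper7
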