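import Mathlib
import Cfsg.Prelude.Def_OddOrderLocal
import Cfsg.Prelude.Def_Solvable
import Cfsg.Agent.Lib.Helper7.PiHall
import Cfsg.Agent.Lib.Helper7.PCore

set_option autoImplicit false

namespace Cfsg.Agent.Lib.Helper7

open Cfsg Cfsg.Agent.Lib.Helper4

universe u

section aux
variable {X : Type*} [Group X]

theorem pCore_char (p : ℕ) : (pCore p X).Characteristic := by
  rw [Subgroup.characteristic_iff_map_le]
  intro ϕ
  unfold pCore
  rw [Subgroup.map_le_iff_le_comap]
  apply sSup_le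
  rintro N ⟨hN1, hN2⟩
  rw [← Subgroup.map_le_iff_le_comap]
  exact le_sSup (a := N.map ϕ.toMonoidHom)
    ⟨Subgroup.Normal.map hN1 ϕ.toMonoidHom ϕ.surjective, hN2.map _⟩

theorem cj_sup (g : X) (A B : Subgroup X) : cj g (A ⊔ B) = cj g A ⊔ cj g B :=
  Subgroup.map_sup _ _ _

theorem relIndex_dvd_card_of_sup_normal [Finite X] (W N : Subgroup X) [N.Normal] :
    W.relIndex (W ⊔ N) ∣ Nat.card N := by
  have h1 := card_sup_mul_inf_normal N W
  have h2 := card_mul_relIndex_of_le (le_sup_left : W ≤ W ⊔ N)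
  rw [← h2] at h1
  have hpos : 0 < Nat.card W := Nat.card_pos
  have h3 : W.relIndex (W ⊔ N) * Nat.card (W ⊓ N : Subgroup X) = Nat.card N := by
    apply Nat.eq_of_mul_eq_mul_left hpos
    rw [← h1]; ring
  exact ⟨_, h3.symm⟩

theorem exists_normal_pgroup_le [Finite X] (G : Subgroup X) [G.Normal] (hG : G ≠ ⊥)
    (hsolv : Group.IsSolvable G) :
    ∃ (p : ℕ) (N : Subgroup X), p.Prime ∧ N.Normal ∧ N ≤ G ∧ N ≠ ⊥ ∧ ∃ a : ℕ, Nat.card N = p ^ a := by
  haveI : Nontrivial G := (Subgroup.nontrivial_iff_ne_bot G).2 hG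
  obtain ⟨p, hp, R, hRn, hRne, hRp⟩ := exists_normal_pSubgroup_of_solvable (G := G)
  haveI := hp
  haveI : (pCore p G).Characteristic := pCore_char p
  refine ⟨p, (pCore p G).map G.subtype, hp.out, ConjAct.normal_of_characteristic_of_normal,
    Subgroup.map_subtype_le _, ?_, ?_⟩
  · rw [Ne, Subgroup.map_eq_bot_iff_of_injective _ G.subtype_injective]
    intro h
    have := le_pCore R hRn hRp
    rw [h, le_bot_iff] at this
    exact hRne this
  · obtain ⟨a, ha⟩ := (IsPGroup.iff_card).1 (pCore_isPGroup (p := p) (G := G))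
    exact ⟨a, by rw [Subgroup.card_map_of_injective G.subtype_injective, ha]⟩

end aux

theorem hallC_normal : ∀ (n : ℕ) (X : Type u) [Group X] [Finite X] (A G : Subgroup X) [G.Normal],
    Nat.card G = n → (Nat.card A).Coprime (Nat.card G) → Group.IsSolvable G →
    ∀ (π : Set ℕ) (U : Subgroup X), U ≤ G → A ≤ Subgroup.normalizer (U : Set X) →
    IsPiNum π (Nat.card U) →
    ∃ H : Subgroup X, IsPiHallOf π H G ∧ A ≤ Subgroup.normalizer (H : Set X) ∧ U ≤ H := by
  intro n
  induction n using Nat.strong_induction_on with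
  | _ n ih =>
  intro X _ _ A G _ hn hcop hsolv π U hUG hAU hUπ
  by_cases hG : G = ⊥
  · subst hG
    refine ⟨⊥, ⟨le_refl _, ?_, ?_⟩, ?_, hUG⟩
    · rw [Subgroup.card_bot]; intro p hp h; exact absurd (Nat.dvd_one.1 h) hp.ne_one
    · intro p hp _ h
      rw [Subgroup.relIndex_self] at h
      exact hp.ne_one (Nat.dvd_one.1 h)
    · rw [Subgroup.normalizer_eq_top_iff.2 inferInstance]; exact le_top
  obtain ⟨p, N, hp, hNn, hNG, hNne, a, ha⟩ := exists_normal_pgroup_le G hG hsolv
  haveI := hNn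
  set f := QuotientGroup.mk' N with hf
  have hf_surj : Function.Surjective f := QuotientGroup.mk'_surjective N
  have hker : f.ker = N := QuotientGroup.ker_mk' N
  have hcardG : Nat.card G = Nat.card (G.map f) * Nat.card N := by
    have := card_sup_normal_eq N G
    rwa [sup_eq_left.2 hNG] at this
  have hNcard : 1 < Nat.card N := by
    rw [Finite.one_lt_card_iff_nontrivial]; exact (Subgroup.nontrivial_iff_ne_bot N).2 hNne
  have hlt : Nat.card (G.map f) < n := by
    rw [← hn, hcardG]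
    have : 0 < Nat.card (G.map f) := Nat.card_pos
    nlinarith
  haveI : (G.map f).Normal := Subgroup.Normal.map inferInstance f hf_surj
  have hsolvQ : Group.IsSolvable (G.map f) :=
    Group.isSolvable_of_surjective (f := f.subgroupMap G) (f.subgroupMap_surjective G)
  have hcopQ : (Nat.card (A.map f)).Coprime (Nat.card (G.map f)) :=
    Nat.Coprime.coprime_dvd_left (Subgroup.card_map_dvd _ _)
      (Nat.Coprime.coprime_dvd_right (Subgroup.card_map_dvd _ _) hcop)
  obtain ⟨Hbar, hHbar, hAHbar, hUHbar⟩ := ih _ hlt (X ⧸ N) (A.map f) (G.map f) rfl hcopQ hsolvQ π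
    (U.map f) (Subgroup.map_mono hUG)
    ((Subgroup.map_mono hAU).trans (Subgroup.le_normalizer_map f))
    (isPiNum_of_dvd (Subgroup.card_map_dvd _ _) hUπ)
  set H : Subgroup X := Hbar.comap f with hH
  have hNH : N ≤ H := by rw [← hker]; exact Subgroup.ker_le_comap f Hbar
  have hHG : H ≤ G := by
    have := Subgroup.comap_mono (f := f) hHbar.1
    rwa [Subgroup.comap_map_eq, hker, sup_eq_left.2 hNG] at this
  have hUH : U ≤ H := (Subgroup.le_comap_map f U).trans (Subgroup.comap_mono hUHbar)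
  have hAH : A ≤ Subgroup.normalizer (H : Set X) := by
    intro x hx
    have : f x ∈ Subgroup.normalizer (Hbar : Set (X ⧸ N)) :=
      hAHbar (Subgroup.mem_map_of_mem f hx)
    exact Subgroup.le_normalizer_comap f this
  have hrel : H.relIndex G = Hbar.relIndex (G.map f) := Subgroup.relIndex_comap Hbar f G
  have hcardH : Nat.card H = Nat.card Hbar * Nat.card N := card_comap_mk_quot N Hbar
  have hHπ' : ∀ q : ℕ, q.Prime → q ∈ π → ¬ q ∣ H.relIndex G := by
    rw [hrel]; exact hHbar.2.2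
  by_cases hpπ : p ∈ π
  · refine ⟨H, ⟨hHG, ?_, hHπ'⟩, hAH, hUH⟩
    show IsPiNum π (Nat.card H)
    rw [hcardH, ha]
    exact isPiNum_mul hHbar.2.1 (isPiNum_prime_pow hp hpπ a)
  · -- p ∉ π
    have hsolvH : Group.IsSolvable H :=
      Group.isSolvable_of_isSolvable_injective (Subgroup.inclusion_injective hHG)
    have hcopH : (Nat.card A).Coprime (Nat.card H) :=
      Nat.Coprime.coprime_dvd_right (Subgroup.card_dvd_of_le hHG) hcop
    obtain ⟨H₁, hH₁, hAH₁⟩ := hallA A H hAH hcopH hsolvH π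
    have hH₁G : IsPiHallOf π H₁ G := isPiHallOf_trans hH₁ hHG hHπ'
    have hNπ' : IsPiNum' π (Nat.card N) := by rw [ha]; exact isPiNum'_prime_pow hp hpπ a
    have hcardH₁ : Nat.card H₁ = Nat.card Hbar :=
      ((isPiHallOf_iff_card hcardH hHbar.2.1 hNπ' H₁).1 hH₁).2
    have hH₁N : H₁ ⊓ N = ⊥ :=
      (Subgroup.disjoint_of_coprime_natCard (coprime_of_piNum hH₁.2.1 hNπ')).eq_bot
    have hH₁supN : H₁ ⊔ N = H := by
      apply Subgroup.eq_of_le_of_card_ge (sup_le hH₁.1 hNH)
      have := card_sup_mul_inf_normal N H₁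
      rw [hH₁N, Subgroup.card_bot, mul_one] at this
      rw [this, hcardH, hcardH₁]
    set V : Subgroup X := U ⊔ N with hV
    have hVH : V ≤ H := sup_le hUH hNH
    have hVG : V ≤ G := hVH.trans hHG
    have hAV : A ≤ Subgroup.normalizer (V : Set X) := by
      intro x hx
      rw [Subgroup.mem_normalizer_iff_map_conj_eq]
      show cj x V = V
      rw [hV, cj_sup, cj_eq_of_mem_normalizer (hAU hx), cj_self_of_normal N x]
    have hsolvV : Group.IsSolvable V :=
      Group.isSolvable_of_isSolvable_injective (Subgroup.inclusion_injective hVG)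
    have hcopV : (Nat.card A).Coprime (Nat.card V) :=
      Nat.Coprime.coprime_dvd_right (Subgroup.card_dvd_of_le hVG) hcop
    have hUV : IsPiHallOf π U V :=
      ⟨le_sup_left, hUπ, fun q hq hqπ hd =>
        hNπ' q hq (hd.trans (relIndex_dvd_card_of_sup_normal U N)) hqπ⟩
    set W : Subgroup X := V ⊓ H₁ with hW
    have hWV : W ⊔ N = V := by
      apply le_antisymm (sup_le inf_le_left le_sup_right)
      intro v hv
      have hvH : v ∈ H₁ ⊔ N := by rw [hH₁supN]; exact hVH hv
      obtain ⟨h, hh, n', hn', rfl⟩ := Subgroup.mem_sup_of_normal_right.1 hvH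
      have hhV : h ∈ V := by
        have : h = (h * n') * n'⁻¹ := by group
        rw [this]; exact V.mul_mem hv (V.inv_mem (le_sup_right (a := U) hn'))
      exact Subgroup.mul_mem _ (le_sup_left (b := N) ⟨hhV, hh⟩) (le_sup_right (a := W) hn')
    have hWV' : IsPiHallOf π W V := by
      refine ⟨inf_le_left, isPiNum_of_dvd (Subgroup.card_dvd_of_le inf_le_right) hH₁.2.1, ?_⟩
      intro q hq hqπ hd
      have := relIndex_dvd_card_of_sup_normal W N
      rw [hWV] at this
      exact hNπ' q hq (hd.trans this) hqπ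
    have hAW : A ≤ Subgroup.normalizer (W : Set X) := by
      intro x hx
      rw [Subgroup.mem_normalizer_iff_map_conj_eq]
      show cj x W = W
      rw [hW, cj_inf, cj_eq_of_mem_normalizer (hAV hx), cj_eq_of_mem_normalizer (hAH₁ hx)]
    obtain ⟨c, hc, hcW⟩ := hallB A V hAV hcopV hsolvV π W U hWV' hAW hUV hAU
    refine ⟨cj c H₁, isPiHallOf_cj_of_mem hH₁G (Subgroup.le_normalizer (hVG hc.1)), ?_, ?_⟩
    · intro x hx
      rw [Subgroup.mem_normalizer_iff_map_conj_eq]
      show cj x (cj c H₁) = cj c H₁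
      have hxc : x * c = c * x := Subgroup.mem_centralizer_iff.1 hc.2 x hx
      rw [← cj_mul, hxc, cj_mul, cj_eq_of_mem_normalizer (hAH₁ hx)]
    · rw [← hcW]; exact cj_mono c inf_le_right

theorem hallC {X : Type u} [Group X] [Finite X] (A G : Subgroup X)
    (hAG : A ≤ Subgroup.normalizer (G : Set X))
    (hcop : (Nat.card A).Coprime (Nat.card G)) (hsolv : Group.IsSolvable G) (π : Set ℕ)
    (U : Subgroup X) (hUG : U ≤ G) (hAU : A ≤ Subgroup.normalizer (U : Set X))
    (hUπ : IsPiNum π (Nat.card U)) :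
    ∃ H : Subgroup X, IsPiHallOf π H G ∧ A ≤ Subgroup.normalizer (H : Set X) ∧ U ≤ H := by
  set Γ : Subgroup X := G ⊔ A with hΓ
  have hGΓ : G ≤ Γ := le_sup_left
  have hAΓ : A ≤ Γ := le_sup_right
  have hΓN : Γ ≤ Subgroup.normalizer (G : Set X) := sup_le Subgroup.le_normalizer hAG
  haveI : (G.subgroupOf Γ).Normal := (Subgroup.normal_subgroupOf_iff_le_normalizer hGΓ).2 hΓN
  have hsolv' : Group.IsSolvable (G.subgroupOf Γ) :=
    Group.isSolvable_of_isSolvable_injective (f := (Subgroup.subgroupOfEquivOfLe hGΓ).toMonoidHom)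
      (Subgroup.subgroupOfEquivOfLe hGΓ).injective
  have hAU' : A.subgroupOf Γ ≤ Subgroup.normalizer ((U.subgroupOf Γ : Subgroup Γ) : Set Γ) := by
    intro x hx
    rw [Subgroup.mem_normalizer_iff]
    intro h
    rw [Subgroup.mem_subgroupOf, Subgroup.mem_subgroupOf]
    exact Subgroup.mem_normalizer_iff.1 (hAU (Subgroup.mem_subgroupOf.1 hx)) (h : X)
  obtain ⟨H', hH', hAH', hUH'⟩ := hallC_normal _ Γ (A.subgroupOf Γ) (G.subgroupOf Γ) rfl
    (by rw [card_subgroupOf_of_le hAΓ, card_subgroupOf_of_le hGΓ]; exact hcop) hsolv' π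
    (U.subgroupOf Γ) (fun x hx => Subgroup.mem_subgroupOf.2 (hUG (Subgroup.mem_subgroupOf.1 hx)))
    hAU' (by rw [card_subgroupOf_of_le (hUG.trans hGΓ)]; exact hUπ)
  refine ⟨H'.map Γ.subtype, ⟨?_, ?_, ?_⟩, ?_, ?_⟩
  · rintro _ ⟨h, hh, rfl⟩
    exact Subgroup.mem_subgroupOf.1 (hH'.1 hh)
  · rw [Subgroup.card_map_of_injective Γ.subtype_injective]; exact hH'.2.1
  · have h1 := Subgroup.relIndex_map_map_of_injective H' (G.subgroupOf Γ) Γ.subtype_injective
    rw [Subgroup.subgroupOf_map_subtype, inf_eq_left.2 hGΓ] at h1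
    rw [h1]; exact hH'.2.2
  · intro x hx
    apply Subgroup.le_normalizer_map Γ.subtype
    exact ⟨⟨x, hAΓ hx⟩, hAH' (Subgroup.mem_subgroupOf.2 hx), rfl⟩
  · intro u hu
    exact ⟨⟨u, hGΓ (hUG hu)⟩, hUH' (Subgroup.mem_subgroupOf.2 hu), rfl⟩

end Cfsg.Agent.Lib.Helper7
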