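import Mathlib

set_option autoImplicit false

namespace Cfsg.Agent.Lib.Helper7

variable {G : Type*} [Group G]

/-- If a subgroup contains `k ^ a` and `k ^ b` with `a`, `b` coprime, it contains `k`. -/
theorem mem_of_pow_mem_of_coprime (C : Subgroup G) (k : G) (a b : ℕ) (hab : a.Coprime b)
    (ha : k ^ a ∈ C) (hb : k ^ b ∈ C) : k ∈ C := by
  have h := Int.gcd_eq_gcd_ab (a : ℤ) (b : ℤ)
  have hg : Int.gcd (a : ℤ) (b : ℤ) = 1 := by
    rw [Int.gcd_natCast_natCast]; exact hab
  rw [hg] at h
  have : k = (k ^ a) ^ (Int.gcdA a b) * (k ^ b) ^ (Int.gcdB a b) := by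
    rw [← zpow_natCast, ← zpow_natCast, ← zpow_mul, ← zpow_mul, ← zpow_add, ← h]
    simp
  rw [this]
  exact C.mul_mem (C.zpow_mem ha _) (C.zpow_mem hb _)

/-- A subgroup containing all elements of prime power order for primes `≠ p` contains all
elements of order prime to `p`. -/
theorem mem_of_forall_prime_pow_mem [Finite G] (C : Subgroup G) (p : ℕ)
    (hC : ∀ (y : G) (q b : ℕ), q.Prime → q ≠ p → orderOf y = q ^ b → y ∈ C) :
    ∀ (n : ℕ) (k : G), orderOf k = n → n.Coprime p → k ∈ C := by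
  intro n
  induction n using Nat.strong_induction_on with
  | _ n ih =>
    intro k hk hcop
    by_cases h1 : n = 1
    · rw [h1, orderOf_eq_one_iff] at hk
      rw [hk]; exact C.one_mem
    have hn0 : n ≠ 0 := by
      rw [← hk]; exact (orderOf_pos k).ne'
    set q := n.minFac with hq
    have hqp : q.Prime := Nat.minFac_prime h1
    have hqn : q ∣ n := Nat.minFac_dvd n
    have hqne : q ≠ p := by
      intro h
      have : q ∣ Nat.gcd n p := Nat.dvd_gcd hqn (h ▸ dvd_rfl)
      rw [hcop] at this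
      exact hqp.one_lt.ne' (Nat.dvd_one.mp this)
    set b := n.factorization q with hb
    set m := n / q ^ b with hm
    have hmul : q ^ b * m = n := Nat.ordProj_mul_ordCompl_eq_self n q
    have hcop2 : (q ^ b).Coprime m := (Nat.coprime_ordCompl hqp hn0).pow_left b
    have hbpos : 0 < b := hqp.factorization_pos_of_dvd hn0 hqn
    have hm0 : m ≠ 0 := by
      intro h; rw [h, mul_zero] at hmul; exact hn0 hmul.symm
    have hq0 : q ^ b ≠ 0 := pow_ne_zero _ hqp.pos.ne'
    -- k ^ m has order q ^ b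
    have ho1 : orderOf (k ^ m) = q ^ b := by
      rw [orderOf_pow_of_dvd hm0 (by rw [hk]; exact Dvd.intro_left _ hmul), hk]
      exact Nat.div_eq_of_eq_mul_left (Nat.pos_of_ne_zero hm0) hmul.symm
    have ho2 : orderOf (k ^ (q ^ b)) = m := by
      rw [orderOf_pow_of_dvd hq0 (by rw [hk]; exact Dvd.intro _ hmul), hk]
    have hmlt : m < n := by
      rw [← hmul]
      have : 1 < q ^ b := Nat.one_lt_pow hbpos.ne' hqp.one_lt
      exact lt_mul_of_one_lt_left (Nat.pos_of_ne_zero hm0) this
    have hmcop : m.Coprime p := Nat.Coprime.coprime_dvd_left (Dvd.intro_left _ hmul) hcop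
    have hmem1 : k ^ m ∈ C := hC _ q b hqp hqne ho1
    have hmem2 : k ^ (q ^ b) ∈ C := ih m hmlt _ ho2 hmcop
    exact mem_of_pow_mem_of_coprime C k (q ^ b) m hcop2 hmem2 hmem1

end Cfsg.Agent.Lib.Helper7
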