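import Mathlib
import Cfsg.Prelude.Def_LieRecognition
import Cfsg.Agent.Lib.Helper9.SylowConj
import Cfsg.Agent.Lib.Helper2.Index

set_option autoImplicit false

namespace Cfsg.Agent.Lib.Helper7.R1

open Cfsg

variable {G Ω : Type*} [Group G] [MulAction G Ω] {a : Ω} {t : G} {Q : Subgroup G}

theorem two_trans (hS : IsRankOneSetup G Ω a t Q) {c d e f : Ω} (h1 : c ≠ d) (h2 : e ≠ f) :
    ∃ g : G, g • c = e ∧ g • d = f :=
  MulAction.is_two_pretransitive_iff.1 hS.two_transitive h1 h2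

theorem ta_ne (hS : IsRankOneSetup G Ω a t Q) : t • a ≠ a :=
  fun h => hS.not_mem (MulAction.mem_stabilizer_iff.2 h)

theorem t_inv (hS : IsRankOneSetup G Ω a t Q) : t⁻¹ = t :=
  inv_eq_of_mul_eq_one_left hS.mul_self

theorem tt_smul (hS : IsRankOneSetup G Ω a t Q) (c : Ω) : t • t • c = c := by
  rw [← mul_smul, hS.mul_self, one_smul]

theorem Q_inf_D (hS : IsRankOneSetup G Ω a t Q) :
    Q ⊓ (MulAction.stabilizer G a ⊓ MulAction.stabilizer G (t • a)) = ⊥ := by
  apply le_antisymm _ bot_le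
  rw [← hS.inf_eq_bot]
  exact inf_le_inf_left Q inf_le_right

theorem H_le_normalizer (hS : IsRankOneSetup G Ω a t Q) :
    MulAction.stabilizer G a ≤ Subgroup.normalizer (Q : Set G) := by
  intro d hd
  rw [Subgroup.mem_normalizer_iff]
  intro x
  constructor
  · intro hx; exact hS.conj_mem d hd x hx
  · intro hx
    have := hS.conj_mem d⁻¹ (inv_mem hd) _ hx
    simpa [mul_assoc] using this

theorem D_le_normalizer (hS : IsRankOneSetup G Ω a t Q) :
    (MulAction.stabilizer G a ⊓ MulAction.stabilizer G (t • a)) ≤ Subgroup.normalizer (Q : Set G) :=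
  inf_le_left.trans (H_le_normalizer hS)

theorem mem_H_decomp (hS : IsRankOneSetup G Ω a t Q) {h : G} (hh : h ∈ MulAction.stabilizer G a) :
    ∃ x ∈ Q, ∃ d ∈ (MulAction.stabilizer G a ⊓ MulAction.stabilizer G (t • a)), h = x * d := by
  have : h ∈ (MulAction.stabilizer G a ⊓ MulAction.stabilizer G (t • a)) ⊔ Q := by
    rw [sup_comm, hS.sup_eq]; exact hh
  obtain ⟨d, hd, x, hx, rfl⟩ :=
    Cfsg.Agent.Lib.Helper9.exists_mul_of_mem_sup_of_le_normalizer (D_le_normalizer hS) this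
  exact ⟨d * x * d⁻¹, hS.conj_mem d hd.1 x hx, d, hd, by group⟩

theorem Q_fix_a (hS : IsRankOneSetup G Ω a t Q) {x : G} (hx : x ∈ Q) : x • a = a :=
  MulAction.mem_stabilizer_iff.1 (hS.le hx)

theorem Q_trans (hS : IsRankOneSetup G Ω a t Q) {c : Ω} (hc : c ≠ a) : ∃ x ∈ Q, x • (t • a) = c := by
  obtain ⟨g, hg1, hg2⟩ := two_trans hS (ta_ne hS).symm hc.symm
  obtain ⟨x, hx, d, hd, rfl⟩ := mem_H_decomp hS (MulAction.mem_stabilizer_iff.2 hg1)
  refine ⟨x, hx, ?_⟩
  rw [mul_smul, MulAction.mem_stabilizer_iff.1 hd.2] at hg2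
  exact hg2

theorem Q_free (hS : IsRankOneSetup G Ω a t Q) {x : G} (hx : x ∈ Q) {c : Ω} (hc : c ≠ a)
    (hxc : x • c = c) : x = 1 := by
  obtain ⟨y, hy, rfl⟩ := Q_trans hS hc
  have h1 : (y⁻¹ * x * y) • (t • a) = t • a := by
    rw [mul_smul, mul_smul, hxc, inv_smul_smul]
  have h2 : y⁻¹ * x * y ∈ Q := mul_mem (mul_mem (inv_mem hy) hx) hy
  have h3 : y⁻¹ * x * y ∈ Q ⊓ MulAction.stabilizer G (t • a) :=
    ⟨h2, MulAction.mem_stabilizer_iff.2 h1⟩
  rw [hS.inf_eq_bot, Subgroup.mem_bot] at h3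
  have : x = y * (y⁻¹ * x * y) * y⁻¹ := by group
  rw [this, h3]; group

theorem H_smul_ne (hS : IsRankOneSetup G Ω a t Q) {x : G} (hx : x ∈ MulAction.stabilizer G a) {c : Ω}
    (hc : c ≠ a) : x • c ≠ a := by
  intro h
  apply hc
  have h1 : x • c = x • a := by rw [h, MulAction.mem_stabilizer_iff.1 hx]
  exact MulAction.injective x h1

theorem Q_regular (hS : IsRankOneSetup G Ω a t Q) {b c : Ω} (hb : b ≠ a) (hc : c ≠ a) :
    ∃! x : Q, (x : G) • b = c := by
  obtain ⟨y, hy, rfl⟩ := Q_trans hS hb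
  obtain ⟨z, hz, rfl⟩ := Q_trans hS hc
  refine ⟨⟨z * y⁻¹, mul_mem hz (inv_mem hy)⟩, ?_, ?_⟩
  · show (z * y⁻¹) • y • t • a = z • t • a
    rw [mul_smul, inv_smul_smul]
  · rintro ⟨w, hw⟩ hw'
    have hw'' : w • y • t • a = z • t • a := hw'
    have h1 : (z⁻¹ * w * y) • (t • a) = t • a := by
      rw [mul_smul, mul_smul, hw'', inv_smul_smul]
    have h2 := Q_free hS (mul_mem (mul_mem (inv_mem hz) hw) hy) (ta_ne hS) h1
    apply Subtype.ext
    show w = z * y⁻¹
    have : w = z * (z⁻¹ * w * y) * y⁻¹ := by group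
    rw [this, h2]; group

/-- `x t y` is never in `G_a` -/
theorem canon_not_mem (hS : IsRankOneSetup G Ω a t Q) {x y : G} (hx : x ∈ MulAction.stabilizer G a)
    (hy : y ∈ Q) : x * t * y ∉ MulAction.stabilizer G a := by
  intro h
  rw [MulAction.mem_stabilizer_iff, mul_smul, mul_smul, Q_fix_a hS hy] at h
  exact H_smul_ne hS hx (ta_ne hS) h

theorem canon_unique (hS : IsRankOneSetup G Ω a t Q) {x x' y y' : G}
    (hx : x ∈ MulAction.stabilizer G a) (hx' : x' ∈ MulAction.stabilizer G a) (hy : y ∈ Q) (hy' : y' ∈ Q)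
    (h : x * t * y = x' * t * y') : x = x' ∧ y = y' := by
  have h1 : (x * t * y)⁻¹ • a = y⁻¹ • t • a := by
    rw [mul_inv_rev, mul_inv_rev, t_inv hS, mul_smul, mul_smul,
      MulAction.mem_stabilizer_iff.1 (inv_mem hx)]
  have h2 : (x' * t * y')⁻¹ • a = y'⁻¹ • t • a := by
    rw [mul_inv_rev, mul_inv_rev, t_inv hS, mul_smul, mul_smul,
      MulAction.mem_stabilizer_iff.1 (inv_mem hx')]
  rw [h, h2] at h1
  have h3 : (y' * y⁻¹) • (t • a) = t • a := by
    rw [mul_smul, ← h1, smul_inv_smul]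
  have h4 := Q_free hS (mul_mem hy' (inv_mem hy)) (ta_ne hS) h3
  have hyy : y = y' := by
    have : y' = (y' * y⁻¹) * y := by group
    rw [this, h4, one_mul]
  subst hyy
  refine ⟨?_, rfl⟩
  have : x * t * y * (y⁻¹ * t⁻¹) = x' * t * y * (y⁻¹ * t⁻¹) := by rw [h]
  simpa [mul_assoc] using this

theorem canon_exists (hS : IsRankOneSetup G Ω a t Q) {g : G} (hg : g ∉ MulAction.stabilizer G a) :
    ∃ x ∈ MulAction.stabilizer G a, ∃ y ∈ Q, g = x * t * y := by
  have hc : g⁻¹ • a ≠ a := by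
    intro h
    apply hg
    rw [MulAction.mem_stabilizer_iff]
    have := congrArg (g • ·) h
    simpa using this.symm
  obtain ⟨y', hy', hy'c⟩ := Q_trans hS hc
  refine ⟨g * y' * t, ?_, y'⁻¹, inv_mem hy', ?_⟩
  · rw [MulAction.mem_stabilizer_iff, mul_smul, mul_smul, hy'c, smul_inv_smul]
  · have : g * y' * t * t * y'⁻¹ = g * y' * (t * t) * y'⁻¹ := by group
    rw [this, hS.mul_self]; group

theorem canon3_unique (hS : IsRankOneSetup G Ω a t Q) {g g' h h' f f' : G}
    (hg : g ∈ Q) (hg' : g' ∈ Q)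
    (hh : h ∈ (MulAction.stabilizer G a ⊓ MulAction.stabilizer G (t • a)))
    (hh' : h' ∈ (MulAction.stabilizer G a ⊓ MulAction.stabilizer G (t • a)))
    (hf : f ∈ Q) (hf' : f' ∈ Q)
    (he : g * h * t * f = g' * h' * t * f') : g = g' ∧ h = h' ∧ f = f' := by
  obtain ⟨h1, h2⟩ := canon_unique hS (mul_mem (hS.le hg) hh.1) (mul_mem (hS.le hg') hh'.1) hf hf' he
  have h3 : g'⁻¹ * g = h' * h⁻¹ := by
    have : g'⁻¹ * (g * h) * h⁻¹ = g'⁻¹ * (g' * h') * h⁻¹ := by rw [h1]
    simpa [mul_assoc] using this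
  have h4 : g'⁻¹ * g ∈ Q ⊓ (MulAction.stabilizer G a ⊓ MulAction.stabilizer G (t • a)) :=
    Subgroup.mem_inf.2 ⟨mul_mem (inv_mem hg') hg, by rw [h3]; exact mul_mem hh' (inv_mem hh)⟩
  rw [Q_inf_D hS, Subgroup.mem_bot] at h4
  have hgg : g = g' := by
    have : g = g' * (g'⁻¹ * g) := by group
    rw [this, h4, mul_one]
  refine ⟨hgg, ?_, h2⟩
  rw [h4] at h3
  have : h' = (h' * h⁻¹) * h := by group
  rw [this, ← h3, one_mul]

/-- `t` normalizes the two point stabilizer. -/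
theorem t_conj_D (hS : IsRankOneSetup G Ω a t Q) {d : G}
    (hd : d ∈ (MulAction.stabilizer G a ⊓ MulAction.stabilizer G (t • a))) :
    t * d * t ∈ (MulAction.stabilizer G a ⊓ MulAction.stabilizer G (t • a)) := by
  refine Subgroup.mem_inf.2 ⟨?_, ?_⟩
  · rw [MulAction.mem_stabilizer_iff, mul_smul, mul_smul, MulAction.mem_stabilizer_iff.1 hd.2,
      tt_smul hS]
  · rw [MulAction.mem_stabilizer_iff, mul_smul, mul_smul, tt_smul hS,
      MulAction.mem_stabilizer_iff.1 hd.1]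

theorem pow_decomp (hS : IsRankOneSetup G Ω a t Q) {x d : G} (hx : x ∈ Q)
    (hd : d ∈ MulAction.stabilizer G a) (k : ℕ) : ∃ q ∈ Q, (x * d) ^ k = q * d ^ k := by
  induction k with
  | zero => exact ⟨1, Q.one_mem, by simp⟩
  | succ k ih =>
    obtain ⟨q, hq, hk⟩ := ih
    refine ⟨q * (d ^ k * x * (d ^ k)⁻¹), mul_mem hq (hS.conj_mem _ (pow_mem hd k) x hx), ?_⟩
    rw [pow_succ, hk, pow_succ]; group

section finite
variable [Finite G]

/-- Involutions of `G_a` lie in `Q`. -/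
theorem invol_mem_Q (hS : IsRankOneSetup G Ω a t Q) {s : G} (hs : s ∈ MulAction.stabilizer G a)
    (hs2 : s * s = 1) : s ∈ Q := by
  obtain ⟨x, hx, d, hd, rfl⟩ := mem_H_decomp hS hs
  have hodd : Odd (orderOf d) := hS.odd_card.of_dvd_nat (Subgroup.orderOf_dvd_natCard _ hd)
  obtain ⟨j, hj⟩ := hodd
  obtain ⟨q, hq, hk⟩ := pow_decomp hS hx hd.1 (orderOf d)
  rw [pow_orderOf_eq_one, mul_one] at hk
  have h2 : (x * d) ^ 2 = 1 := by rw [pow_two]; exact hs2
  have : (x * d) ^ orderOf d = x * d := by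
    rw [hj, pow_succ, pow_mul, h2, one_pow, one_mul]
  rw [← this, hk]; exact hq

theorem finite_Ω (hS : IsRankOneSetup G Ω a t Q) : Finite Ω := by
  haveI := hS.two_transitive
  haveI : MulAction.IsPretransitive G Ω := MulAction.isPretransitive_of_is_two_pretransitive
  exact Finite.of_surjective (fun g : G => g • a) (MulAction.exists_smul_eq G a)

theorem card_Ω (hS : IsRankOneSetup G Ω a t Q) : Nat.card Ω = Nat.card Q + 1 := by
  classical
  haveI := finite_Ω hS
  rw [← Nat.card_congr (Equiv.optionSubtypeNe a), Finite.card_option]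
  congr 1
  symm
  apply Nat.card_congr
  refine Equiv.ofBijective (fun x : Q => ⟨(x : G) • (t • a), H_smul_ne hS (hS.le x.2) (ta_ne hS)⟩) ⟨?_, ?_⟩
  · intro x y hxy
    have h1 : (x : G) • (t • a) = (y : G) • (t • a) := congrArg Subtype.val hxy
    obtain ⟨z, _, hz⟩ := Q_regular hS (ta_ne hS) (H_smul_ne hS (hS.le y.2) (ta_ne hS))
    rw [hz x h1, hz y rfl]
  · rintro ⟨c, hc⟩
    obtain ⟨x, hx, hxc⟩ := Q_trans hS hc
    exact ⟨⟨x, hx⟩, Subtype.ext hxc⟩

theorem card_H (hS : IsRankOneSetup G Ω a t Q) :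
    Nat.card (MulAction.stabilizer G a) =
      Nat.card Q * Nat.card ↥(MulAction.stabilizer G a ⊓ MulAction.stabilizer G (t • a)) := by
  have := Cfsg.Agent.Lib.Helper2.card_sup_mul_card_inf
    (MulAction.stabilizer G a ⊓ MulAction.stabilizer G (t • a)) Q (D_le_normalizer hS)
  rw [sup_comm, hS.sup_eq, inf_comm, Q_inf_D hS, Subgroup.card_bot, mul_one] at this
  rw [this, mul_comm]

theorem card_G (hS : IsRankOneSetup G Ω a t Q) :
    Nat.card G = Nat.card Q *
      Nat.card ↥(MulAction.stabilizer G a ⊓ MulAction.stabilizer G (t • a)) * (Nat.card Q + 1) := by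
  haveI := hS.two_transitive
  haveI : MulAction.IsPretransitive G Ω := MulAction.isPretransitive_of_is_two_pretransitive
  have h1 := MulAction.index_stabilizer_of_transitive G a
  have h2 := (MulAction.stabilizer G a).card_mul_index
  rw [h1, card_H hS, card_Ω hS] at h2
  exact h2.symm

theorem Q_ne_bot (hS : IsRankOneSetup G Ω a t Q) : ∃ x ∈ Q, x ≠ 1 := by
  by_contra h
  push Not at h
  have : Q = ⊥ := by
    rw [Subgroup.eq_bot_iff_forall]; exact h
  have h1 := hS.even_card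
  rw [this, Subgroup.card_bot] at h1
  exact absurd h1 (by decide)

end finite

end Cfsg.Agent.Lib.Helper7.R1
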