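import Mathlib
import Cfsg.Prelude.Def_LieRecognition
import Cfsg.Agent.Lib.Helper7.R1Setup

set_option autoImplicit false

namespace Cfsg.Agent.Lib.Helper7.R1

open Cfsg

/-- Two involutions whose product has odd order are conjugate. -/
theorem conj_of_odd_order {G : Type*} [Group G] {s u : G} (hs : s * s = 1) (hu : u * u = 1)
    (hodd : Odd (orderOf (s * u))) : ∃ g : G, g * s * g⁻¹ = u := by
  obtain ⟨k, hk⟩ := hodd
  have hsi : s⁻¹ = s := inv_eq_of_mul_eq_one_left hs
  have hui : u⁻¹ = u := inv_eq_of_mul_eq_one_left hu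
  have hr : (s * u) ^ (2 * k + 1) = 1 := by rw [← hk]; exact pow_orderOf_eq_one _
  have hinv1 : (s * u)⁻¹ = u * s := by rw [mul_inv_rev, hsi, hui]
  have hinv2 : (u * s)⁻¹ = s * u := by rw [mul_inv_rev, hsi, hui]
  have hsc : ∀ j : ℕ, s * (u * s) ^ j = (s * u) ^ j * s := by
    intro j
    induction j with
    | zero => simp
    | succ j ih =>
      rw [pow_succ, ← mul_assoc, ih, pow_succ]
      simp only [mul_assoc]
  have hinv : ((s * u) ^ k)⁻¹ = (u * s) ^ k := by rw [← inv_pow, hinv1]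
  have h2k : (u * s) ^ (2 * k) = s * u := by
    have h1 : (u * s) ^ (2 * k + 1) = 1 := by
      rw [← hinv1, inv_pow, hr, inv_one]
    rw [pow_succ] at h1
    have h2 := eq_inv_of_mul_eq_one_left h1
    rw [h2, hinv2]
  refine ⟨(s * u) ^ k, ?_⟩
  calc (s * u) ^ k * s * ((s * u) ^ k)⁻¹ = s * (u * s) ^ k * (u * s) ^ k := by rw [hinv, hsc]
    _ = s * (u * s) ^ (2 * k) := by rw [mul_assoc, ← pow_add, two_mul]
    _ = s * (s * u) := by rw [h2k]
    _ = u := by rw [← mul_assoc, hs, one_mul]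

variable {G Ω : Type*} [Group G] [MulAction G Ω] {a : Ω} {t : G} {Q : Subgroup G}

/-- An element commuting with a non-identity element of `Q` fixes `a`. -/
theorem mem_H_of_commute (hS : IsRankOneSetup G Ω a t Q) {x g : G} (hx : x ∈ Q) (hx1 : x ≠ 1)
    (hc : g * x = x * g) : g ∈ MulAction.stabilizer G a := by
  rw [MulAction.mem_stabilizer_iff]
  by_contra hga
  apply hx1
  apply Q_free hS hx hga
  rw [← mul_smul, ← hc, mul_smul, Q_fix_a hS hx]

section finite
variable [Finite G]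

/-- The product of an involution in `G_a` and an involution outside has odd order. -/
theorem odd_order_mul (hS : IsRankOneSetup G Ω a t Q) {s u : G} (hs : s ∈ MulAction.stabilizer G a)
    (hs1 : s ≠ 1) (hs2 : s * s = 1) (hu : u ∉ MulAction.stabilizer G a) (hu2 : u * u = 1) :
    Odd (orderOf (s * u)) := by
  rw [← Nat.not_even_iff_odd]
  rintro ⟨k, hk⟩
  have hsi : s⁻¹ = s := inv_eq_of_mul_eq_one_left hs2
  have hui : u⁻¹ = u := inv_eq_of_mul_eq_one_left hu2
  have hpos : 0 < orderOf (s * u) := orderOf_pos _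
  have hk0 : 0 < k := by omega
  set r := s * u with hr
  have hz1 : r ^ k ≠ 1 := by
    intro h
    have := orderOf_le_of_pow_eq_one hk0 h
    omega
  have hz2 : r ^ k * r ^ k = 1 := by
    rw [← pow_add, ← hk]; exact pow_orderOf_eq_one _
  have hzi : (r ^ k)⁻¹ = r ^ k := inv_eq_of_mul_eq_one_left hz2
  have hrinv : r⁻¹ = u * s := by rw [hr, mul_inv_rev, hsi, hui]
  -- s r = r⁻¹ s
  have hsr : s * r = r⁻¹ * s := by
    rw [hrinv, hr, ← mul_assoc, hs2, one_mul, mul_assoc, hs2, mul_one]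
  have hur : u * r = r⁻¹ * u := by
    rw [hrinv, hr, mul_assoc u s u]
  have hsz : s * r ^ k = r ^ k * s := by
    have h1 : SemiconjBy s r r⁻¹ := hsr
    have h2 : s * r ^ k = (r⁻¹) ^ k * s := (h1.pow_right k)
    rw [h2, inv_pow, hzi]
  have huz : u * r ^ k = r ^ k * u := by
    have h1 : SemiconjBy u r r⁻¹ := hur
    have h2 : u * r ^ k = (r⁻¹) ^ k * u := (h1.pow_right k)
    rw [h2, inv_pow, hzi]
  have hsQ : s ∈ Q := invol_mem_Q hS hs hs2
  have hzH : r ^ k ∈ MulAction.stabilizer G a := mem_H_of_commute hS hsQ hs1 hsz.symm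
  have hzQ : r ^ k ∈ Q := invol_mem_Q hS hzH hz2
  exact hu (mem_H_of_commute hS hzQ hz1 huz)

/-- Every involution of `G` fixes a point. -/
theorem exists_fixed_of_invol (hS : IsRankOneSetup G Ω a t Q) {u : G} (hu2 : u * u = 1) :
    ∃ c : Ω, u • c = c := by
  haveI := finite_Ω hS
  haveI : Fact (Nat.Prime 2) := ⟨Nat.prime_two⟩
  have hP : IsPGroup 2 (Subgroup.zpowers u) := by
    intro g
    obtain ⟨k, hk⟩ := Subgroup.mem_zpowers_iff.1 g.2
    refine ⟨1, ?_⟩
    apply Subtype.ext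
    simp only [pow_one, Subgroup.coe_pow, Subgroup.coe_one]
    rw [← hk, ← zpow_natCast, ← zpow_mul, mul_comm, zpow_mul, zpow_natCast, pow_two, hu2, one_zpow]
  have hnd : ¬ 2 ∣ Nat.card Ω := by
    rw [card_Ω hS, ← even_iff_two_dvd, Nat.not_even_iff_odd]
    exact hS.even_card.add_one
  obtain ⟨c, hc⟩ := hP.nonempty_fixed_point_of_prime_not_dvd_card Ω hnd
  exact ⟨c, hc ⟨u, Subgroup.mem_zpowers u⟩⟩

/-- Every involution of `G_a` is conjugate to `t`. -/
theorem conj_t_of_invol_H (hS : IsRankOneSetup G Ω a t Q) {s : G} (hs : s ∈ MulAction.stabilizer G a)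
    (hs1 : s ≠ 1) (hs2 : s * s = 1) : ∃ g : G, g * s * g⁻¹ = t :=
  conj_of_odd_order hs2 hS.mul_self (odd_order_mul hS hs hs1 hs2 hS.not_mem hS.mul_self)

/-- Every involution of `G` is conjugate to `t`. -/
theorem conj_t_of_invol (hS : IsRankOneSetup G Ω a t Q) {u : G} (hu1 : u ≠ 1) (hu2 : u * u = 1) :
    ∃ g : G, g * u * g⁻¹ = t := by
  haveI := hS.two_transitive
  haveI : MulAction.IsPretransitive G Ω := MulAction.isPretransitive_of_is_two_pretransitive
  obtain ⟨c, hc⟩ := exists_fixed_of_invol hS hu2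
  obtain ⟨g, hg⟩ := MulAction.exists_smul_eq G a c
  have h1 : g⁻¹ * u * g ∈ MulAction.stabilizer G a := by
    rw [MulAction.mem_stabilizer_iff, mul_smul, mul_smul, hg, hc, ← hg, inv_smul_smul]
  have h2 : g⁻¹ * u * g ≠ 1 := by
    intro h
    apply hu1
    have : u = g * (g⁻¹ * u * g) * g⁻¹ := by group
    rw [this, h]; group
  have h3 : (g⁻¹ * u * g) * (g⁻¹ * u * g) = 1 := by
    have : (g⁻¹ * u * g) * (g⁻¹ * u * g) = g⁻¹ * (u * u) * g := by group
    rw [this, hu2]; group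
  obtain ⟨k, hk⟩ := conj_t_of_invol_H hS h1 h2 h3
  refine ⟨k * g⁻¹, ?_⟩
  rw [← hk]; group

end finite

end Cfsg.Agent.Lib.Helper7.R1
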