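import Mathlib
import Cfsg.Prelude.Def_LieRecognition
import Cfsg.Agent.Lib.Helper7.R1Invol

set_option autoImplicit false

namespace Cfsg.Agent.Lib.Helper7.R1

open Cfsg

variable {G Ω : Type*} [Group G] [MulAction G Ω] {a : Ω} {t : G} {Q : Subgroup G}

theorem mem_K_iff (hS : IsRankOneSetup G Ω a t Q) {h : G} :
    h ∈ invertedBy (MulAction.stabilizer G a ⊓ MulAction.stabilizer G (t • a)) t ↔
      h ∈ (MulAction.stabilizer G a ⊓ MulAction.stabilizer G (t • a)) ∧ t * h * t = h⁻¹ := by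
  show (h ∈ (MulAction.stabilizer G a ⊓ MulAction.stabilizer G (t • a)) ∧ t * h * t⁻¹ = h⁻¹) ↔ _
  rw [t_inv hS]

theorem mem_I_iff {s : G} :
    s ∈ involutionsIn (MulAction.stabilizer G a : Set G) ↔
      s ∈ MulAction.stabilizer G a ∧ s ≠ 1 ∧ s * s = 1 := Iff.rfl

theorem tst_not_mem (hS : IsRankOneSetup G Ω a t Q) {s : G} (hs : s ∈ Q) (hs1 : s ≠ 1) :
    t * s * t ∉ MulAction.stabilizer G a := by
  intro h
  rw [MulAction.mem_stabilizer_iff, mul_smul, mul_smul] at h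
  have h3 : s • t • a = t • a := by
    have := congrArg (t • ·) h
    simpa only [tt_smul hS] using this
  exact hs1 (Q_free hS hs (ta_ne hS) h3)

theorem tst_fix_b (hS : IsRankOneSetup G Ω a t Q) {s : G} (hs : s ∈ Q) :
    (t * s * t) • (t • a) = t • a := by
  rw [mul_smul, mul_smul, tt_smul hS, Q_fix_a hS hs]

section finite
variable [Finite G]

theorem invol_canon (hS : IsRankOneSetup G Ω a t Q) {s : G}
    (hs : s ∈ involutionsIn (MulAction.stabilizer G a : Set G)) :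
    ∃ h f, h ∈ invertedBy (MulAction.stabilizer G a ⊓ MulAction.stabilizer G (t • a)) t ∧ f ∈ Q ∧
      t * s * t = f⁻¹ * h * t * f := by
  obtain ⟨hsH, hs1, hs2⟩ := mem_I_iff.1 hs
  have hsQ := invol_mem_Q hS hsH hs2
  obtain ⟨x, hx, f, hf, he⟩ := canon_exists hS (tst_not_mem hS hsQ hs1)
  obtain ⟨g, hg, h, hh, rfl⟩ := mem_H_decomp hS hx
  have hsi : s⁻¹ = s := inv_eq_of_mul_eq_one_left hs2
  have ht := t_inv hS
  have htt : ∀ y : G, t * (t * y) = y := by
    intro y; rw [← mul_assoc, hS.mul_self, one_mul]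
  have e1 : g * h * t * f = f⁻¹ * (t * h⁻¹ * t) * t * g⁻¹ := by
    have h0 : (t * s * t)⁻¹ = t * s * t := by rw [mul_inv_rev, mul_inv_rev, ht, hsi, mul_assoc]
    rw [he] at h0
    rw [← h0]
    simp only [mul_inv_rev, ht, mul_assoc, htt]
  obtain ⟨h1, h2, -⟩ := canon3_unique hS hg (inv_mem hf) hh (t_conj_D hS (inv_mem hh)) hf (inv_mem hg) e1
  refine ⟨h, f, (mem_K_iff hS).2 ⟨hh, ?_⟩, hf, by rw [he, h1]⟩
  have h3 : h⁻¹ = (t * h⁻¹ * t)⁻¹ := by rw [← h2]
  rw [h3]; simp only [mul_inv_rev, ht, inv_inv, mul_assoc]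

theorem invol_fix_unique (hS : IsRankOneSetup G Ω a t Q) {u : G} (hu1 : u ≠ 1) (hu2 : u * u = 1)
    {c c' : Ω} (hc : u • c = c) (hc' : u • c' = c') : c = c' := by
  obtain ⟨g, hg⟩ := conj_t_of_invol hS hu1 hu2
  haveI : Fact (Nat.Prime 2) := ⟨Nat.prime_two⟩
  obtain ⟨s0, hs0⟩ := exists_prime_orderOf_dvd_card' 2 (even_iff_two_dvd.1 hS.even_card)
  have hs0' : orderOf (s0 : G) = 2 := by rw [Subgroup.orderOf_coe]; exact hs0
  have hs01 : (s0 : G) ≠ 1 := by
    intro h; rw [h, orderOf_one] at hs0'; omega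
  have hs02 : (s0 : G) * s0 = 1 := by rw [← pow_two, ← hs0', pow_orderOf_eq_one]
  obtain ⟨k, hk⟩ := conj_t_of_invol_H hS (hS.le s0.2) hs01 hs02
  have hm : (k⁻¹ * g) * u * (k⁻¹ * g)⁻¹ = s0 := by
    have h1 : (k⁻¹ * g) * u * (k⁻¹ * g)⁻¹ = k⁻¹ * (g * u * g⁻¹) * k := by group
    rw [h1, hg, ← hk]; group
  have key : ∀ e : Ω, u • e = e → (k⁻¹ * g) • e = a := by
    intro e he
    by_contra hne
    apply hs01
    apply Q_free hS s0.2 hne
    rw [← hm, mul_smul, mul_smul, inv_smul_smul, he]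
  have := (key c hc).trans (key c' hc').symm
  exact MulAction.injective _ this

theorem Psi_inj (hS : IsRankOneSetup G Ω a t Q) {s s' h f f' : G}
    (hs : s ∈ involutionsIn (MulAction.stabilizer G a : Set G))
    (hs' : s' ∈ involutionsIn (MulAction.stabilizer G a : Set G))
    (hf : f ∈ Q) (hf' : f' ∈ Q) (e : t * s * t = f⁻¹ * h * t * f)
    (e' : t * s' * t = f'⁻¹ * h * t * f') : s = s' ∧ f = f' := by
  obtain ⟨hsH, hs1, hs2⟩ := mem_I_iff.1 hs
  obtain ⟨hsH', hs1', hs2'⟩ := mem_I_iff.1 hs'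
  have hsQ := invol_mem_Q hS hsH hs2
  have hsQ' := invol_mem_Q hS hsH' hs2'
  have ht := t_inv hS
  have htt : ∀ y : G, t * (t * y) = y := by
    intro y; rw [← mul_assoc, hS.mul_self, one_mul]
  have hu : h * t = f * (t * s * t) * f⁻¹ := by rw [e]; group
  have hu' : h * t = f' * (t * s' * t) * f'⁻¹ := by rw [e']; group
  have hu2 : (h * t) * (h * t) = 1 := by
    rw [hu]
    have : f * (t * s * t) * f⁻¹ * (f * (t * s * t) * f⁻¹) = f * (t * (s * (t * t) * s) * t) * f⁻¹ := by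
      group
    rw [this, hS.mul_self, mul_one, hs2, mul_one, hS.mul_self]; group
  have hu1 : h * t ≠ 1 := by
    intro h1
    rw [hu] at h1
    apply hs1
    have h2 : t * s * t = f⁻¹ * (f * (t * s * t) * f⁻¹) * f := by group
    rw [h1] at h2
    have h3 : t * s * t = 1 := by rw [h2]; group
    have h4 : s = t * (t * s * t) * t := by simp only [mul_assoc, htt, hS.mul_self, mul_one]
    rw [h4, h3, mul_one, hS.mul_self]
  have hfix : (h * t) • (f • t • a) = f • t • a := by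
    rw [hu, mul_smul, mul_smul, inv_smul_smul, tst_fix_b hS hsQ]
  have hfix' : (h * t) • (f' • t • a) = f' • t • a := by
    rw [hu', mul_smul, mul_smul, inv_smul_smul, tst_fix_b hS hsQ']
  have hff := invol_fix_unique hS hu1 hu2 hfix hfix'
  have h5 : (f'⁻¹ * f) • (t • a) = t • a := by
    rw [mul_smul, hff, inv_smul_smul]
  have h6 := Q_free hS (mul_mem (inv_mem hf') hf) (ta_ne hS) h5
  have hfeq : f = f' := by
    have : f = f' * (f'⁻¹ * f) := by group
    rw [this, h6, mul_one]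
  subst hfeq
  refine ⟨?_, rfl⟩
  have h7 : t * s * t = t * s' * t := by rw [e, e']
  have h8 : s = t * (t * s * t) * t := by simp only [mul_assoc, htt, hS.mul_self, mul_one]
  have h9 : s' = t * (t * s' * t) * t := by simp only [mul_assoc, htt, hS.mul_self, mul_one]
  rw [h8, h9, h7]

theorem Psi_surj (hS : IsRankOneSetup G Ω a t Q) {k : G}
    (hk : k ∈ invertedBy (MulAction.stabilizer G a ⊓ MulAction.stabilizer G (t • a)) t) :
    ∃ s f, s ∈ involutionsIn (MulAction.stabilizer G a : Set G) ∧ f ∈ Q ∧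
      t * s * t = f⁻¹ * k * t * f := by
  obtain ⟨hkD, hkt⟩ := (mem_K_iff hS).1 hk
  have ht := t_inv hS
  have htt : ∀ y : G, t * (t * y) = y := by
    intro y; rw [← mul_assoc, hS.mul_self, one_mul]
  have hu2 : (k * t) * (k * t) = 1 := by
    have : (k * t) * (k * t) = k * (t * k * t) := by group
    rw [this, hkt, mul_inv_cancel]
  have hu1 : k * t ≠ 1 := by
    intro h
    apply hS.not_mem
    have : t = k⁻¹ := by
      have h1 : t = k⁻¹ * (k * t) := by group
      rw [h1, h, mul_one]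
    rw [this]; exact inv_mem hkD.1
  obtain ⟨c, hc⟩ := exists_fixed_of_invol hS hu2
  have hca : c ≠ a := by
    intro h
    rw [h, mul_smul, MulAction.mem_stabilizer_iff.1 hkD.2] at hc
    exact ta_ne hS hc
  obtain ⟨f, hf, hfc⟩ := Q_trans hS hca
  refine ⟨t * f⁻¹ * k * t * f * t, f, mem_I_iff.2 ⟨?_, ?_, ?_⟩, hf, ?_⟩
  · rw [MulAction.mem_stabilizer_iff]
    have : (t * f⁻¹ * k * t * f * t) • a = t • f⁻¹ • (k * t) • f • t • a := by
      simp only [mul_smul]
    rw [this, hfc, hc, ← hfc, inv_smul_smul, tt_smul hS]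
  · intro h
    apply hu1
    have h1 : k * t = f * t * (t * f⁻¹ * k * t * f * t) * (t * f⁻¹) := by
      simp only [mul_assoc, htt, mul_inv_cancel_left, mul_inv_cancel, mul_one]
    rw [h1, h]
    simp only [mul_assoc, htt, mul_one, mul_inv_cancel]
  · have : (t * f⁻¹ * k * t * f * t) * (t * f⁻¹ * k * t * f * t) =
        t * f⁻¹ * ((k * t) * (k * t)) * f * t := by
      simp only [mul_assoc, htt, mul_inv_cancel_left]
    rw [this, hu2]
    simp only [mul_assoc, one_mul, inv_mul_cancel_left, hS.mul_self]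
  · simp only [mul_assoc, htt, hS.mul_self, mul_one]

theorem Psi_conj (hS : IsRankOneSetup G Ω a t Q) {s h f k : G}
    (e : t * s * t = f⁻¹ * h * t * f)
    (hk : k ∈ invertedBy (MulAction.stabilizer G a ⊓ MulAction.stabilizer G (t • a)) t) :
    t * (k⁻¹ * s * k) * t = (k * f * k⁻¹)⁻¹ * (k * h * k) * t * (k * f * k⁻¹) := by
  obtain ⟨hkD, hkt⟩ := (mem_K_iff hS).1 hk
  have ht := t_inv hS
  have htt : ∀ y : G, t * (t * y) = y := by
    intro y; rw [← mul_assoc, hS.mul_self, one_mul]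
  have hkt' : t * k⁻¹ * t = k := by
    have : t * k⁻¹ * t = (t * k * t)⁻¹ := by rw [mul_inv_rev, mul_inv_rev, ht, mul_assoc]
    rw [this, hkt, inv_inv]
  have h1 : t * (k⁻¹ * s * k) * t = (t * k⁻¹ * t) * (t * s * t) * (t * k * t) := by
    simp only [mul_assoc, htt]
  have hktk : k * t * k = t := by
    have : k * t * k = t * (t * k * t) * k := by simp only [mul_assoc, htt]
    rw [this, hkt, mul_assoc, inv_mul_cancel, mul_one]
  rw [h1, hkt', hkt, e]
  have h2 : (k * f * k⁻¹)⁻¹ * (k * h * k) * t * (k * f * k⁻¹) = k * f⁻¹ * h * (k * t * k) * f * k⁻¹ := by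
    group
  rw [h2, hktk]
  simp only [mul_assoc]

theorem K_solve (hS : IsRankOneSetup G Ω a t Q) {h h' : G}
    (hh : h ∈ invertedBy (MulAction.stabilizer G a ⊓ MulAction.stabilizer G (t • a)) t)
    (hh' : h' ∈ invertedBy (MulAction.stabilizer G a ⊓ MulAction.stabilizer G (t • a)) t) :
    ∃ k ∈ invertedBy (MulAction.stabilizer G a ⊓ MulAction.stabilizer G (t • a)) t, k * h * k = h' := by
  obtain ⟨hhD, hht⟩ := (mem_K_iff hS).1 hh
  obtain ⟨hhD', hht'⟩ := (mem_K_iff hS).1 hh'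
  have ht := t_inv hS
  have htt : ∀ y : G, t * (t * y) = y := by
    intro y; rw [← mul_assoc, hS.mul_self, one_mul]
  have hwD : h' * h ∈ (MulAction.stabilizer G a ⊓ MulAction.stabilizer G (t • a)) := mul_mem hhD' hhD
  have hodd : Odd (orderOf (h' * h)) := hS.odd_card.of_dvd_nat (Subgroup.orderOf_dvd_natCard _ hwD)
  obtain ⟨j, hj⟩ := hodd
  have hrr : (h' * h) ^ (j + 1) * (h' * h) ^ (j + 1) = h' * h := by
    rw [← pow_add]
    have : j + 1 + (j + 1) = orderOf (h' * h) + 1 := by omega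
    rw [this, pow_succ, pow_orderOf_eq_one, one_mul]
  refine ⟨(h' * h) ^ (j + 1) * h⁻¹, (mem_K_iff hS).2 ⟨mul_mem (pow_mem hwD _) (inv_mem hhD), ?_⟩, ?_⟩
  · have h1 : t * ((h' * h) ^ (j + 1) * h⁻¹) * t = (t * (h' * h) ^ (j + 1) * t⁻¹) * (t * h⁻¹ * t) := by
      rw [ht]; simp only [mul_assoc, htt]
    have h2 : t * (h' * h) ^ (j + 1) * t⁻¹ = (t * (h' * h) * t⁻¹) ^ (j + 1) := (conj_pow).symm
    have h3 : t * (h' * h) * t⁻¹ = h'⁻¹ * h⁻¹ := by
      rw [ht, ← hht, ← hht']; simp only [mul_assoc, htt]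
    have h4 : t * h⁻¹ * t = h := by
      have : t * h⁻¹ * t = (t * h * t)⁻¹ := by rw [mul_inv_rev, mul_inv_rev, ht, mul_assoc]
      rw [this, hht, inv_inv]
    rw [h1, h2, h3, h4]
    have h5 : ((h' * h) ^ (j + 1) * h⁻¹)⁻¹ = h * (h⁻¹ * h'⁻¹) ^ (j + 1) := by
      rw [mul_inv_rev, inv_inv, ← inv_pow, mul_inv_rev]
    rw [h5]
    have hsc : SemiconjBy h (h⁻¹ * h'⁻¹) (h'⁻¹ * h⁻¹) := by
      unfold SemiconjBy; group
    exact ((hsc.pow_right (j + 1)).eq).symm
  · have : (h' * h) ^ (j + 1) * h⁻¹ * h * ((h' * h) ^ (j + 1) * h⁻¹) =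
        ((h' * h) ^ (j + 1) * (h' * h) ^ (j + 1)) * h⁻¹ := by group
    rw [this, hrr]; group

end finite

end Cfsg.Agent.Lib.Helper7.R1
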