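import Mathlib
import Cfsg.Prelude.Def_LieRecognition
import Cfsg.Agent.Lib.Helper7.R1Psi

set_option autoImplicit false

namespace Cfsg.Agent.Lib.Helper7.R1

open Cfsg

variable {G Ω : Type*} [Group G] [MulAction G Ω] {a : Ω} {t : G} {Q : Subgroup G}

theorem N_fix {X : Set G} {g : G} (hg : g ∈ Subgroup.centralizer X) {c : Ω}
    (hc : ∀ x ∈ X, x • c = c) : ∀ x ∈ X, x • (g • c) = g • c := by
  intro x hx
  rw [← mul_smul, Subgroup.mem_centralizer_iff.1 hg x hx, mul_smul, hc x hx]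

theorem X_fix_a {X : Set G}
    (hX : X ⊆ ((MulAction.stabilizer G a ⊓ MulAction.stabilizer G (t • a) : Subgroup G) : Set G)) :
    ∀ x ∈ X, x • a = a := fun x hx => MulAction.mem_stabilizer_iff.1 (Subgroup.mem_inf.1 (hX hx)).1

theorem X_fix_b {X : Set G}
    (hX : X ⊆ ((MulAction.stabilizer G a ⊓ MulAction.stabilizer G (t • a) : Subgroup G) : Set G)) :
    ∀ x ∈ X, x • (t • a) = t • a := fun x hx => MulAction.mem_stabilizer_iff.1 (Subgroup.mem_inf.1 (hX hx)).2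

theorem CQ_trans (hS : IsRankOneSetup G Ω a t Q) {X : Set G}
    (hX : X ⊆ ((MulAction.stabilizer G a ⊓ MulAction.stabilizer G (t • a) : Subgroup G) : Set G))
    {c : Ω} (hc : ∀ x ∈ X, x • c = c) (hca : c ≠ a) :
    ∃ y ∈ Subgroup.centralizer X ⊓ Q, y • (t • a) = c := by
  obtain ⟨y, hy, hyc⟩ := Q_trans hS hca
  refine ⟨y, Subgroup.mem_inf.2 ⟨Subgroup.mem_centralizer_iff.2 ?_, hy⟩, hyc⟩
  intro x hx
  have hxD' : x ∈ (MulAction.stabilizer G a ⊓ MulAction.stabilizer G (t • a)) := hX hx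
  have h1 : x * y * x⁻¹ ∈ Q := hS.conj_mem x (Subgroup.mem_inf.1 hxD').1 y hy
  have h2 : (y⁻¹ * (x * y * x⁻¹)) • (t • a) = t • a := by
    have : (y⁻¹ * (x * y * x⁻¹)) • (t • a) = y⁻¹ • x • y • x⁻¹ • (t • a) := by
      simp only [mul_smul]
    rw [this, MulAction.mem_stabilizer_iff.1 (inv_mem (Subgroup.mem_inf.1 hxD').2), hyc, hc x hx, ← hyc,
      inv_smul_smul]
  have h3 := Q_free hS (mul_mem (inv_mem hy) h1) (ta_ne hS) h2
  have : x * y = y * (y⁻¹ * (x * y * x⁻¹)) * x := by group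
  rw [this, h3, mul_one]

theorem CQ_trans' (hS : IsRankOneSetup G Ω a t Q) {X : Set G}
    (hX : X ⊆ ((MulAction.stabilizer G a ⊓ MulAction.stabilizer G (t • a) : Subgroup G) : Set G))
    {c c' : Ω} (hc : ∀ x ∈ X, x • c = c) (hca : c ≠ a) (hc' : ∀ x ∈ X, x • c' = c') (hca' : c' ≠ a) :
    ∃ y ∈ Subgroup.centralizer X ⊓ Q, y • c = c' := by
  obtain ⟨y, hy, hyc⟩ := CQ_trans hS hX hc hca
  obtain ⟨y', hy', hyc'⟩ := CQ_trans hS hX hc' hca'
  refine ⟨y' * y⁻¹, mul_mem hy' (inv_mem hy), ?_⟩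
  rw [mul_smul, ← hyc, inv_smul_smul, hyc']

theorem CQt_trans (hS : IsRankOneSetup G Ω a t Q) {X : Set G}
    (hX : X ⊆ ((MulAction.stabilizer G a ⊓ MulAction.stabilizer G (t • a) : Subgroup G) : Set G))
    {c : Ω} (hc : ∀ x ∈ X, x • c = c) (hcb : c ≠ t • a) :
    ∃ z ∈ Subgroup.centralizer X, z • a = c := by
  have htt : ∀ y : G, t * (t * y) = y := by
    intro y; rw [← mul_assoc, hS.mul_self, one_mul]
  have htc : t • c ≠ a := by
    intro h; apply hcb; rw [← h, tt_smul hS]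
  obtain ⟨y, hy, hyc⟩ := Q_trans hS htc
  refine ⟨t * y * t, Subgroup.mem_centralizer_iff.2 ?_, ?_⟩
  · intro x hx
    have hxD' : x ∈ (MulAction.stabilizer G a ⊓ MulAction.stabilizer G (t • a)) := hX hx
    have hx'D := t_conj_D hS hxD'
    have hx'c : (t * x * t) • (t • c) = t • c := by rw [mul_smul, mul_smul, tt_smul hS, hc x hx]
    have h1 : (t * x * t) * y * (t * x * t)⁻¹ ∈ Q := hS.conj_mem _ (Subgroup.mem_inf.1 hx'D).1 y hy
    have h2 : (y⁻¹ * ((t * x * t) * y * (t * x * t)⁻¹)) • (t • a) = t • a := by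
      have : (y⁻¹ * ((t * x * t) * y * (t * x * t)⁻¹)) • (t • a) =
          y⁻¹ • (t * x * t) • y • (t * x * t)⁻¹ • (t • a) := by
        simp only [mul_smul]
      rw [this, MulAction.mem_stabilizer_iff.1 (inv_mem (Subgroup.mem_inf.1 hx'D).2), hyc, hx'c, ← hyc,
        inv_smul_smul]
    have h3 := Q_free hS (mul_mem (inv_mem hy) h1) (ta_ne hS) h2
    have h4 : (t * x * t) * y = y * (t * x * t) := by
      have : (t * x * t) * y = y * (y⁻¹ * ((t * x * t) * y * (t * x * t)⁻¹)) * (t * x * t) := by group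
      rw [this, h3, mul_one]
    have h5 : x * (t * y * t) = t * ((t * x * t) * y) * t := by simp only [mul_assoc, htt]
    rw [h5, h4]; simp only [mul_assoc, htt, hS.mul_self, mul_one]
  · rw [mul_smul, mul_smul, hyc, tt_smul hS]

theorem exists_third {X : Set G}
    (h3 : ∃ b c d : Ω, b ≠ c ∧ b ≠ d ∧ c ≠ d ∧ ∀ x ∈ X, x • b = b ∧ x • c = c ∧ x • d = d) (p q : Ω) :
    ∃ e : Ω, e ≠ p ∧ e ≠ q ∧ ∀ x ∈ X, x • e = e := by
  obtain ⟨b, c, d, hbc, hbd, hcd, hfix⟩ := h3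
  by_cases h1 : b ≠ p ∧ b ≠ q
  · exact ⟨b, h1.1, h1.2, fun x hx => (hfix x hx).1⟩
  by_cases h2 : c ≠ p ∧ c ≠ q
  · exact ⟨c, h2.1, h2.2, fun x hx => (hfix x hx).2.1⟩
  refine ⟨d, ?_, ?_, fun x hx => (hfix x hx).2.2⟩
  · intro hd
    subst hd
    by_cases hb : b = d
    · exact hbd hb
    · by_cases hc' : c = d
      · exact hcd hc'
      · have hbq : b = q := by
          by_contra hbq
          exact h1 ⟨hb, hbq⟩
        have hcq : c = q := by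
          by_contra hcq
          exact h2 ⟨hc', hcq⟩
        exact hbc (hbq.trans hcq.symm)
  · intro hd
    subst hd
    by_cases hb : b = d
    · exact hbd hb
    · by_cases hc' : c = d
      · exact hcd hc'
      · have hbp : b = p := by
          by_contra hbp
          exact h1 ⟨hbp, hb⟩
        have hcp : c = p := by
          by_contra hcp
          exact h2 ⟨hcp, hc'⟩
        exact hbc (hbp.trans hcp.symm)

theorem N_trans (hS : IsRankOneSetup G Ω a t Q) {X : Set G}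
    (hX : X ⊆ ((MulAction.stabilizer G a ⊓ MulAction.stabilizer G (t • a) : Subgroup G) : Set G))
    (h3 : ∃ b c d : Ω, b ≠ c ∧ b ≠ d ∧ c ≠ d ∧ ∀ x ∈ X, x • b = b ∧ x • c = c ∧ x • d = d)
    {c : Ω} (hc : ∀ x ∈ X, x • c = c) : ∃ g ∈ Subgroup.centralizer X, g • a = c := by
  by_cases hcb : c = t • a
  · obtain ⟨e, hea, heb, he⟩ := exists_third h3 a (t • a)
    obtain ⟨z, hz, hze⟩ := CQt_trans hS hX he heb
    obtain ⟨y, hy, hye⟩ := CQ_trans hS hX he hea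
    refine ⟨y⁻¹ * z, mul_mem (inv_mem (Subgroup.mem_inf.1 hy).1) hz, ?_⟩
    rw [mul_smul, hze, ← hye, inv_smul_smul, hcb]
  · exact CQt_trans hS hX hc hcb

theorem N_two_trans (hS : IsRankOneSetup G Ω a t Q) {X : Set G}
    (hX : X ⊆ ((MulAction.stabilizer G a ⊓ MulAction.stabilizer G (t • a) : Subgroup G) : Set G))
    (h3 : ∃ b c d : Ω, b ≠ c ∧ b ≠ d ∧ c ≠ d ∧ ∀ x ∈ X, x • b = b ∧ x • c = c ∧ x • d = d)
    {b₁ b₂ c₁ c₂ : Ω} (hb₁ : ∀ x ∈ X, x • b₁ = b₁) (hb₂ : ∀ x ∈ X, x • b₂ = b₂)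
    (hc₁ : ∀ x ∈ X, x • c₁ = c₁) (hc₂ : ∀ x ∈ X, x • c₂ = c₂) (hb : b₁ ≠ b₂) (hc : c₁ ≠ c₂) :
    ∃ g ∈ Subgroup.centralizer X, g • b₁ = c₁ ∧ g • b₂ = c₂ := by
  obtain ⟨g₁, hg₁, hg₁a⟩ := N_trans hS hX h3 hb₁
  obtain ⟨g₂, hg₂, hg₂a⟩ := N_trans hS hX h3 hc₁
  have h1 : g₁⁻¹ • b₂ ≠ a := by
    intro h
    apply hb
    rw [← hg₁a, ← h, smul_inv_smul]
  have h2 : g₂⁻¹ • c₂ ≠ a := by
    intro h
    apply hc
    rw [← hg₂a, ← h, smul_inv_smul]
  obtain ⟨y, hy, hyy⟩ := CQ_trans' hS hX (N_fix (inv_mem hg₁) hb₂) h1 (N_fix (inv_mem hg₂) hc₂) h2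
  refine ⟨g₂ * y * g₁⁻¹, mul_mem (mul_mem hg₂ (Subgroup.mem_inf.1 hy).1) (inv_mem hg₁), ?_, ?_⟩
  · rw [mul_smul, mul_smul, ← hg₁a, inv_smul_smul, Q_fix_a hS (Subgroup.mem_inf.1 hy).2, hg₂a]
  · rw [mul_smul, mul_smul, hyy, smul_inv_smul]

section finite
variable [Finite G]

theorem exists_invol_N (hS : IsRankOneSetup G Ω a t Q) {X : Set G}
    (hX : X ⊆ ((MulAction.stabilizer G a ⊓ MulAction.stabilizer G (t • a) : Subgroup G) : Set G))
    (h3 : ∃ b c d : Ω, b ≠ c ∧ b ≠ d ∧ c ≠ d ∧ ∀ x ∈ X, x • b = b ∧ x • c = c ∧ x • d = d) :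
    ∃ u ∈ Subgroup.centralizer X, u ≠ 1 ∧ u * u = 1 := by
  obtain ⟨g, hg, hga, hgb⟩ := N_two_trans hS hX h3 (X_fix_a hX) (X_fix_b hX) (X_fix_b hX) (X_fix_a hX)
    (ta_ne hS).symm (ta_ne hS)
  have hpos : 0 < orderOf g := orderOf_pos g
  have hgg : (g * g) • a = a := by rw [mul_smul, hga, hgb]
  rcases Nat.even_or_odd (orderOf g) with ⟨j, hj⟩ | ⟨j, hj⟩
  · have hj0 : 0 < j := by omega
    refine ⟨g ^ j, pow_mem hg j, ?_, ?_⟩
    · intro h
      have := orderOf_le_of_pow_eq_one hj0 h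
      omega
    · rw [← pow_add, ← hj, pow_orderOf_eq_one]
  · exfalso
    have h1 : (g * g) ^ (j + 1) = g := by
      rw [← pow_two, ← pow_mul]
      have : 2 * (j + 1) = orderOf g + 1 := by omega
      rw [this, pow_succ, pow_orderOf_eq_one, one_mul]
    have h2 : ∀ n : ℕ, ((g * g) ^ n) • a = a := by
      intro n
      induction n with
      | zero => simp
      | succ n ih => rw [pow_succ, mul_smul, hgg, ih]
    have h4 := h2 (j + 1)
    rw [h1, hga] at h4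
    exact ta_ne hS h4

theorem exists_invol_NQ (hS : IsRankOneSetup G Ω a t Q) {X : Set G}
    (hX : X ⊆ ((MulAction.stabilizer G a ⊓ MulAction.stabilizer G (t • a) : Subgroup G) : Set G))
    (h3 : ∃ b c d : Ω, b ≠ c ∧ b ≠ d ∧ c ≠ d ∧ ∀ x ∈ X, x • b = b ∧ x • c = c ∧ x • d = d) :
    ∃ u ∈ Subgroup.centralizer X ⊓ Q, u ≠ 1 ∧ u * u = 1 := by
  obtain ⟨u, hu, hu1, hu2⟩ := exists_invol_N hS hX h3
  obtain ⟨e, he⟩ := exists_fixed_of_invol hS hu2
  have heX : ∀ x ∈ X, x • e = e := by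
    intro x hx
    apply invol_fix_unique hS hu1 hu2 _ he
    rw [← mul_smul, ← Subgroup.mem_centralizer_iff.1 hu x hx, mul_smul, he]
  obtain ⟨g, hg, hge⟩ := N_trans hS hX h3 heX
  have hu'H : g⁻¹ * u * g ∈ MulAction.stabilizer G a := by
    rw [MulAction.mem_stabilizer_iff, mul_smul, mul_smul, hge, he, ← hge, inv_smul_smul]
  have hu'2 : (g⁻¹ * u * g) * (g⁻¹ * u * g) = 1 := by
    have : (g⁻¹ * u * g) * (g⁻¹ * u * g) = g⁻¹ * (u * u) * g := by group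
    rw [this, hu2]; group
  have hu'1 : g⁻¹ * u * g ≠ 1 := by
    intro h
    apply hu1
    have : u = g * (g⁻¹ * u * g) * g⁻¹ := by group
    rw [this, h]; group
  exact ⟨g⁻¹ * u * g, Subgroup.mem_inf.2 ⟨mul_mem (mul_mem (inv_mem hg) hu) hg, invol_mem_Q hS hu'H hu'2⟩,
    hu'1, hu'2⟩

end finite

end Cfsg.Agent.Lib.Helper7.R1
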