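import Mathlib
import Cfsg.Agent.Lib.Helper7.Involution

set_option autoImplicit false

namespace Cfsg.Agent.Lib.Helper7

/-- If `g` inverts `x` then so does every odd power of `g`. -/
theorem inverts_pow_odd {G : Type*} [Group G] (g x : G) (h : g * x * g⁻¹ = x⁻¹) (m : ℕ)
    (hm : Odd m) : g ^ m * x * (g ^ m)⁻¹ = x⁻¹ := by
  have h2 : g ^ 2 * x * (g ^ 2)⁻¹ = x := by
    have : g ^ 2 * x * (g ^ 2)⁻¹ = g * (g * x * g⁻¹) * g⁻¹ := by
      rw [pow_two]; group
    rw [this, h]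
    have h' : g * x⁻¹ * g⁻¹ = (g * x * g⁻¹)⁻¹ := by group
    rw [h', h, inv_inv]
  have hj : ∀ j : ℕ, (g ^ 2) ^ j * x * ((g ^ 2) ^ j)⁻¹ = x := by
    intro j
    induction j with
    | zero => simp
    | succ j ih =>
      have : (g ^ 2) ^ (j + 1) * x * ((g ^ 2) ^ (j + 1))⁻¹
          = (g ^ 2) ^ j * (g ^ 2 * x * (g ^ 2)⁻¹) * ((g ^ 2) ^ j)⁻¹ := by
        rw [pow_succ]; group
      rw [this, h2, ih]
  obtain ⟨j, rfl⟩ := hm
  have hjinv : ∀ j : ℕ, (g ^ 2) ^ j * x⁻¹ * ((g ^ 2) ^ j)⁻¹ = x⁻¹ := by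
    intro j
    have : (g ^ 2) ^ j * x⁻¹ * ((g ^ 2) ^ j)⁻¹ = ((g ^ 2) ^ j * x * ((g ^ 2) ^ j)⁻¹)⁻¹ := by group
    rw [this, hj]
  have : g ^ (2 * j + 1) * x * (g ^ (2 * j + 1))⁻¹
      = (g ^ 2) ^ j * (g * x * g⁻¹) * ((g ^ 2) ^ j)⁻¹ := by
    rw [pow_succ, pow_mul]; group
  rw [this, h, hjinv]

/-- A real element is inverted by some 2-element. -/
theorem exists_two_element_inverting {G : Type*} [Group G] [Finite G] (x : G)
    (hx : IsConj x x⁻¹) : ∃ t : G, (∃ j : ℕ, orderOf t = 2 ^ j) ∧ t * x * t⁻¹ = x⁻¹ := by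
  obtain ⟨g, hg⟩ := isConj_iff.1 hx
  obtain ⟨a, m, hm, hn⟩ := Nat.exists_eq_two_pow_mul_odd (orderOf_pos g).ne'
  refine ⟨g ^ m, ⟨a, ?_⟩, inverts_pow_odd g x hg m hm⟩
  have hmpos : m ≠ 0 := by
    rintro rfl
    exact (Nat.not_odd_iff_even.2 (by decide)) hm
  rw [orderOf_pow_of_dvd hmpos (by rw [hn]; exact dvd_mul_left _ _), hn,
    Nat.mul_div_cancel _ (Nat.pos_of_ne_zero hmpos)]

/-- A real element whose class has odd size is an involution or trivial. -/
theorem sq_eq_one_of_real_of_odd_index {G : Type*} [Group G] [Finite G] (x : G)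
    (hodd : ¬ 2 ∣ (Subgroup.centralizer ({x} : Set G)).index) (hreal : IsConj x x⁻¹) :
    x ^ 2 = 1 := by
  classical
  by_contra hne
  apply hodd
  rw [← ncard_conj_class]
  haveI : Fintype G := Fintype.ofFinite G
  rw [Set.ncard_eq_toFinset_card']
  apply two_dvd_card_of_involution _ (fun y => y⁻¹)
  · intro a ha
    rw [Set.mem_toFinset] at ha ⊢
    obtain ⟨g, rfl⟩ := ha
    obtain ⟨c, hc⟩ := isConj_iff.1 hreal
    refine ⟨g * c, ?_⟩
    simp only [mul_inv_rev]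
    rw [← hc]
    group
  · intro a _
    exact inv_inv a
  · intro a ha
    rw [Set.mem_toFinset] at ha
    obtain ⟨g, rfl⟩ := ha
    intro h
    apply hne
    have h' : (g * x * g⁻¹)⁻¹ = g * x * g⁻¹ := h
    have h1 : (g * x * g⁻¹) * (g * x * g⁻¹) = 1 := by
      nth_rewrite 1 [← h']
      exact inv_mul_cancel _
    have h2 : g * (x * x) * g⁻¹ = 1 := by
      rw [← h1]; group
    have h3 : x * x = 1 := by
      have := congrArg (fun z => g⁻¹ * z * g) h2
      simpa [mul_assoc] using this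
    rw [pow_two]; exact h3

/-- An element whose order is coprime to the index of a normal subgroup lies in it. -/
theorem mem_of_orderOf_coprime_index {G : Type*} [Group G] [Finite G] (N : Subgroup G) [N.Normal]
    (t : G) (h : (orderOf t).Coprime N.index) : t ∈ N := by
  rw [← QuotientGroup.eq_one_iff, ← orderOf_eq_one_iff]
  have h1 : orderOf (t : G ⧸ N) ∣ orderOf t := orderOf_map_dvd (QuotientGroup.mk' N) t
  have h2 : orderOf (t : G ⧸ N) ∣ N.index := by
    rw [Subgroup.index_eq_card]; exact orderOf_dvd_natCard _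
  exact Nat.eq_one_of_dvd_coprimes h h1 h2

end Cfsg.Agent.Lib.Helper7
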