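import Mathlib
import Cfsg.Prelude
import Cfsg.Agent.Lib.Helper1.PGroupMax

set_option autoImplicit false
open Cfsg
open scoped commutatorElement

namespace Cfsg.Agent.Lib.Helper7.RegularP

universe u

theorem powerClosure_map {G G' : Type*} [Group G] [Group G'] (f : G →* G') (p n : ℕ)
    (K : Subgroup G) : powerClosure p n (K.map f) = (powerClosure p n K).map f := by
  unfold powerClosure
  rw [MonoidHom.map_closure]
  congr 1
  ext y
  constructor
  · rintro ⟨x, ⟨x0, hx0, rfl⟩, rfl⟩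
    exact ⟨x0 ^ (p ^ n), ⟨x0, hx0, rfl⟩, by rw [map_pow]⟩
  · rintro ⟨z, ⟨x0, hx0, rfl⟩, rfl⟩
    exact ⟨f x0, ⟨x0, hx0, rfl⟩, by rw [map_pow]⟩

/-- regularity passes to subgroups -/
theorem regular_subgroup {G : Type*} [Group G] {p : ℕ} (hG : IsRegularPGroup p G)
    (H : Subgroup G) : IsRegularPGroup p ↥H := by
  refine ⟨hG.1.to_subgroup H, ?_⟩
  intro a b n
  obtain ⟨c, hc, hab⟩ := hG.2 (a : G) (b : G) n
  have h1 : Subgroup.closure ({(a : G), (b : G)} : Set G) =
      (Subgroup.closure ({a, b} : Set ↥H)).map H.subtype := by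
    rw [MonoidHom.map_closure]
    congr 1
    rw [Set.image_pair]
    rfl
  have h2 : ⁅Subgroup.closure ({(a : G), (b : G)} : Set G),
      Subgroup.closure ({(a : G), (b : G)} : Set G)⁆ =
      (⁅Subgroup.closure ({a, b} : Set ↥H), Subgroup.closure ({a, b} : Set ↥H)⁆).map H.subtype := by
    rw [h1, Subgroup.map_commutator]
  rw [h2, powerClosure_map] at hc
  obtain ⟨c', hc', rfl⟩ := hc
  refine ⟨c', hc', ?_⟩
  apply Subtype.ext
  simpa using hab

/-- if the derived subgroup has exponent dividing `p^n`, the `p^n`-th power map is multiplicative -/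
theorem mul_pow_of_exp {G : Type*} [Group G] {p : ℕ} (hG : IsRegularPGroup p G) (n : ℕ)
    (hexp : ∀ z ∈ commutator G, z ^ (p ^ n) = 1) (a b : G) :
    (a * b) ^ (p ^ n) = a ^ (p ^ n) * b ^ (p ^ n) := by
  obtain ⟨c, hc, hab⟩ := hG.2 a b n
  have hc1 : c = 1 := by
    have hle : powerClosure p n ⁅Subgroup.closure ({a, b} : Set G),
        Subgroup.closure ({a, b} : Set G)⁆ ≤ ⊥ := by
      unfold powerClosure
      rw [Subgroup.closure_le]
      rintro y ⟨x, hx, rfl⟩
      rw [SetLike.mem_coe, Subgroup.mem_bot]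
      apply hexp
      rw [commutator_def]
      exact Subgroup.commutator_mono le_top le_top hx
    exact Subgroup.mem_bot.1 (hle hc)
  rw [hab, hc1, mul_one]

/-- generated by `a, b` with `[a,b]^q = 1`: the derived subgroup has exponent dividing `q`,
provided the power property holds on the derived subgroup. -/
theorem exp_commutator {G : Type*} [Group G] (q : ℕ) (a b : G)
    (hgen : Subgroup.closure ({a, b} : Set G) = ⊤)
    (hP' : ∀ z ∈ commutator G, ∀ w ∈ commutator G, z ^ q = w ^ q → (z * w⁻¹) ^ q = 1)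
    (hab : ⁅a, b⁆ ^ q = 1) : ∀ z ∈ commutator G, z ^ q = 1 := by
  let T : Subgroup G :=
    { carrier := {z | z ∈ commutator G ∧ z ^ q = 1}
      one_mem' := ⟨Subgroup.one_mem _, one_pow q⟩
      mul_mem' := by
        rintro u v ⟨hu, hu'⟩ ⟨hv, hv'⟩
        refine ⟨Subgroup.mul_mem _ hu hv, ?_⟩
        have := hP' u hu v⁻¹ (Subgroup.inv_mem _ hv) (by rw [hu', inv_pow, hv', inv_one])
        simpa using this
      inv_mem' := by
        rintro u ⟨hu, hu'⟩
        exact ⟨Subgroup.inv_mem _ hu, by rw [inv_pow, hu', inv_one]⟩ }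
  have hTmem : ∀ z, z ∈ T ↔ (z ∈ commutator G ∧ z ^ q = 1) := fun z => Iff.rfl
  haveI hTn : T.Normal := by
    constructor
    intro z hz g
    rw [hTmem] at hz ⊢
    refine ⟨(inferInstance : (commutator G).Normal).conj_mem z hz.1 g, ?_⟩
    rw [conj_pow, hz.2, mul_one, mul_inv_cancel]
  have habT : ⁅a, b⁆ ∈ T := by
    rw [hTmem]
    refine ⟨?_, hab⟩
    rw [commutator_def]
    exact Subgroup.commutator_mem_commutator (Subgroup.mem_top a) (Subgroup.mem_top b)
  have hab' : ((a : G) : G ⧸ T) * (b : G ⧸ T) = (b : G ⧸ T) * (a : G ⧸ T) := by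
    have h1 : ((⁅a, b⁆ : G) : G ⧸ T) = 1 := (QuotientGroup.eq_one_iff _).2 habT
    rw [commutatorElement_def] at h1
    simp only [QuotientGroup.mk_mul, QuotientGroup.mk_inv] at h1
    have h2 := mul_inv_eq_one.1 h1
    have h3 := mul_inv_eq_iff_eq_mul.1 h2
    exact h3
  have hgen' : Subgroup.closure ({((a : G) : G ⧸ T), ((b : G) : G ⧸ T)} : Set (G ⧸ T)) = ⊤ := by
    have h1 : (Subgroup.closure ({a, b} : Set G)).map (QuotientGroup.mk' T) = ⊤ := by
      rw [hgen]
      exact Subgroup.map_top_of_surjective _ (QuotientGroup.mk'_surjective T)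
    rw [MonoidHom.map_closure, Set.image_pair] at h1
    exact h1
  have hcent : ∀ w : G ⧸ T, w * (a : G ⧸ T) = (a : G ⧸ T) * w ∧ w * (b : G ⧸ T) = (b : G ⧸ T) * w := by
    intro w
    have hw : w ∈ Subgroup.closure ({((a : G) : G ⧸ T), ((b : G) : G ⧸ T)} : Set (G ⧸ T)) := by
      rw [hgen']; exact Subgroup.mem_top w
    have hle : Subgroup.closure ({((a : G) : G ⧸ T), ((b : G) : G ⧸ T)} : Set (G ⧸ T)) ≤
        Subgroup.centralizer ({((a : G) : G ⧸ T), ((b : G) : G ⧸ T)} : Set (G ⧸ T)) := by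
      rw [Subgroup.closure_le]
      intro z hz
      rw [SetLike.mem_coe, Subgroup.mem_centralizer_iff]
      intro s hs
      rcases hz with rfl | rfl <;> rcases hs with rfl | rfl
      · rfl
      · exact hab'.symm
      · exact hab'
      · rfl
    have := hle hw
    rw [Subgroup.mem_centralizer_iff] at this
    exact ⟨(this _ (by simp)).symm, (this _ (by simp)).symm⟩
  have hcomm : IsMulCommutative (G ⧸ T) := by
    refine ⟨⟨fun u v => ?_⟩⟩
    have hv : v ∈ Subgroup.closure ({((a : G) : G ⧸ T), ((b : G) : G ⧸ T)} : Set (G ⧸ T)) := by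
      rw [hgen']; exact Subgroup.mem_top v
    have hle : Subgroup.closure ({((a : G) : G ⧸ T), ((b : G) : G ⧸ T)} : Set (G ⧸ T)) ≤
        Subgroup.centralizer ({u} : Set (G ⧸ T)) := by
      rw [Subgroup.closure_le]
      intro z hz
      rw [SetLike.mem_coe, Subgroup.mem_centralizer_singleton_iff]
      rcases hz with rfl | rfl
      · exact ((hcent u).1).symm
      · exact ((hcent u).2).symm
    have := hle hv
    rw [Subgroup.mem_centralizer_singleton_iff] at this
    exact this.symm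
  have hle := Subgroup.Normal.quotient_commutative_iff_commutator_le.1 hcomm
  intro z hz
  exact ((hTmem z).1 (hle hz)).2

/-- the main induction: `x^q = y^q → (x y⁻¹)^q = 1` in regular `p`-groups -/
theorem pow_eq_imp (p : ℕ) [hp : Fact p.Prime] (n : ℕ) :
    ∀ (N : ℕ) (G : Type u) [Group G] [Finite G], Nat.card G = N → IsRegularPGroup p G →
      ∀ x y : G, x ^ (p ^ n) = y ^ (p ^ n) → (x * y⁻¹) ^ (p ^ n) = 1 := by
  intro N
  induction N using Nat.strong_induction_on with
  | _ N ih =>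
  intro G _ _ hN hG x y hxy
  have ihsub : ∀ H : Subgroup G, H ≠ ⊤ → ∀ u ∈ H, ∀ v ∈ H, u ^ (p ^ n) = v ^ (p ^ n) →
      (u * v⁻¹) ^ (p ^ n) = 1 := by
    intro H hH u hu v hv huv
    have hlt : Nat.card H < N := by
      rw [← hN]
      rcases lt_or_ge (Nat.card H) (Nat.card G) with h | h
      · exact h
      · exfalso
        apply hH
        apply Subgroup.eq_top_of_card_eq
        exact le_antisymm (Subgroup.card_le_card_group H) h
    have h1 := ih _ hlt ↥H rfl (regular_subgroup hG H) ⟨u, hu⟩ ⟨v, hv⟩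
      (Subtype.ext (by simpa using huv))
    have h2 := congrArg Subtype.val h1
    simpa using h2
  by_cases hL : Subgroup.closure ({x, y} : Set G) = ⊤
  swap
  · exact ihsub _ hL x (Subgroup.subset_closure (by simp)) y (Subgroup.subset_closure (by simp)) hxy
  by_cases hc : x * y = y * x
  · have hc' : Commute x y⁻¹ := (Commute.inv_right (show Commute x y from hc))
    rw [hc'.mul_pow, inv_pow, hxy, mul_inv_cancel]
  -- non-commuting case
  have hx_ne : Subgroup.zpowers x ≠ ⊤ := by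
    intro h
    apply hc
    have hy : y ∈ Subgroup.zpowers x := by rw [h]; exact Subgroup.mem_top y
    obtain ⟨i, rfl⟩ := Subgroup.mem_zpowers_iff.1 hy
    exact (Commute.zpow_right (Commute.refl x) i).eq
  obtain ⟨M, hM, hxM⟩ := (eq_top_or_exists_le_coatom (Subgroup.zpowers x)).resolve_left hx_ne
  haveI hMn : M.Normal := Cfsg.Agent.Lib.Helper1.coatom_normal_of_isPGroup hG.1 hM
  have hxM' : x ∈ M := hxM (Subgroup.mem_zpowers x)
  have hyxM : y⁻¹ * x * y ∈ M := by
    have := hMn.conj_mem x hxM' y⁻¹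
    simpa using this
  have hpow : x ^ (p ^ n) = (y⁻¹ * x * y) ^ (p ^ n) := by
    have h1 : y⁻¹ * x * y = y⁻¹ * x * (y⁻¹)⁻¹ := by rw [inv_inv]
    rw [h1, conj_pow, hxy, inv_inv]
    group
  have h1 : (x * (y⁻¹ * x * y)⁻¹) ^ (p ^ n) = 1 := ihsub M hM.1 x hxM' _ hyxM hpow
  have hcomm1 : ⁅x, y⁻¹⁆ ^ (p ^ n) = 1 := by
    have : ⁅x, y⁻¹⁆ = x * (y⁻¹ * x * y)⁻¹ := by rw [commutatorElement_def]; group
    rw [this]; exact h1
  have hgen' : Subgroup.closure ({x, y⁻¹} : Set G) = ⊤ := by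
    rw [eq_top_iff, ← hL, Subgroup.closure_le]
    intro z hz
    rcases hz with rfl | rfl
    · exact Subgroup.subset_closure (by simp)
    · have : z⁻¹ ∈ Subgroup.closure ({x, z⁻¹} : Set G) := Subgroup.subset_closure (by simp)
      have := Subgroup.inv_mem _ this
      simpa using this
  haveI hGnt : Nontrivial G := ⟨⟨x * y, y * x, hc⟩⟩
  haveI : Group.IsNilpotent G := hG.1.isNilpotent
  have hlt : commutator G < ⊤ := Group.IsSolvable.commutator_lt_top_of_nontrivial G
  have hexp := exp_commutator (p ^ n) x y⁻¹ hgen' (ihsub (commutator G) (ne_of_lt hlt)) hcomm1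
  rw [mul_pow_of_exp hG n hexp, inv_pow, hxy, mul_inv_cancel]

theorem pow_eq_imp' {G : Type u} [Group G] [Finite G] (p : ℕ) [Fact p.Prime] (n : ℕ)
    (hG : IsRegularPGroup p G) (x y : G) (h : x ^ (p ^ n) = y ^ (p ^ n)) :
    (x * y⁻¹) ^ (p ^ n) = 1 :=
  pow_eq_imp p n _ G rfl hG x y h

/-- generated case of the converse -/
theorem core_gen {G : Type u} [Group G] [Finite G] (p : ℕ) [Fact p.Prime] (n : ℕ)
    (hG : IsRegularPGroup p G) (u y : G) (hgen : Subgroup.closure ({u, y} : Set G) = ⊤)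
    (hu : u ^ (p ^ n) = 1) : (u * y) ^ (p ^ n) = y ^ (p ^ n) := by
  have hP := pow_eq_imp' p n hG
  have h1 : (u * (y * u * y⁻¹)⁻¹) ^ (p ^ n) = 1 := by
    apply hP
    rw [conj_pow, hu, mul_one, mul_inv_cancel]
  have hcomm1 : ⁅u, y⁆ ^ (p ^ n) = 1 := by
    have : ⁅u, y⁆ = u * (y * u * y⁻¹)⁻¹ := by rw [commutatorElement_def]; group
    rw [this]; exact h1
  have hexp := exp_commutator (p ^ n) u y hgen (fun z _ w _ h => hP z w h) hcomm1
  rw [mul_pow_of_exp hG n hexp, hu, one_mul]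

theorem pow_eq_of_div {G : Type u} [Group G] [Finite G] (p : ℕ) [Fact p.Prime] (n : ℕ)
    (hG : IsRegularPGroup p G) (x y : G) (h : (x * y⁻¹) ^ (p ^ n) = 1) :
    x ^ (p ^ n) = y ^ (p ^ n) := by
  obtain ⟨L, hLdef⟩ : ∃ L : Subgroup G, L = Subgroup.closure ({x * y⁻¹, y} : Set G) := ⟨_, rfl⟩
  have huL : x * y⁻¹ ∈ L := by rw [hLdef]; exact Subgroup.subset_closure (by simp)
  have hyL : y ∈ L := by rw [hLdef]; exact Subgroup.subset_closure (by simp)
  have hgen : Subgroup.closure ({(⟨x * y⁻¹, huL⟩ : ↥L), ⟨y, hyL⟩} : Set ↥L) = ⊤ := by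
    subst hLdef
    have h1 := Subgroup.closure_closure_coe_preimage (k := ({x * y⁻¹, y} : Set G))
    have h2 : ((↑) : ↥(Subgroup.closure ({x * y⁻¹, y} : Set G)) → G) ⁻¹' ({x * y⁻¹, y} : Set G) =
        {(⟨x * y⁻¹, huL⟩ : ↥(Subgroup.closure ({x * y⁻¹, y} : Set G))), ⟨y, hyL⟩} := by
      ext z
      simp only [Set.mem_preimage, Set.mem_insert_iff, Set.mem_singleton_iff, Subtype.ext_iff]
    rw [h2] at h1
    exact h1
  have h1 := core_gen p n (regular_subgroup hG L) ⟨x * y⁻¹, huL⟩ ⟨y, hyL⟩ hgen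
    (Subtype.ext (by simpa using h))
  have h2 := congrArg Subtype.val h1
  simp only [Subgroup.coe_pow, Subgroup.coe_mul] at h2
  rw [inv_mul_cancel_right] at h2
  exact h2

theorem pow_eq_iff {G : Type u} [Group G] [Finite G] (p : ℕ) [Fact p.Prime] (n : ℕ)
    (hG : IsRegularPGroup p G) (x y : G) :
    x ^ (p ^ n) = y ^ (p ^ n) ↔ (x * y⁻¹) ^ (p ^ n) = 1 :=
  ⟨pow_eq_imp' p n hG x y, pow_eq_of_div p n hG x y⟩

end Cfsg.Agent.Lib.Helper7.RegularP
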