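import Mathlib
import Cfsg.Prelude
import Cfsg.Agent.Lib.Helper7.RegularP
import Cfsg.Agent.S0094

set_option autoImplicit false
open Cfsg
open scoped commutatorElement

namespace Cfsg.Agent.Lib.Helper7.RegularP

universe u

/-- If products of `q`-th powers of elements of `K` are `q`-th powers of elements of `K`,
then every element of `℧_n(K)` is a `q`-th power of an element of `K`. -/
theorem powerClosure_eq_pows {G : Type*} [Group G] (p n : ℕ) (K : Subgroup G)
    (hK : ∀ u ∈ K, ∀ v ∈ K, ∃ s ∈ K, u ^ (p ^ n) * v ^ (p ^ n) = s ^ (p ^ n)) :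
    ∀ c ∈ powerClosure p n K, ∃ d ∈ K, c = d ^ (p ^ n) := by
  intro c hc
  unfold powerClosure at hc
  induction hc using Subgroup.closure_induction with
  | mem x hx =>
    obtain ⟨x0, hx0, rfl⟩ := hx
    exact ⟨x0, hx0, rfl⟩
  | one => exact ⟨1, K.one_mem, (one_pow _).symm⟩
  | mul a b _ _ iha ihb =>
    obtain ⟨d1, hd1, rfl⟩ := iha
    obtain ⟨d2, hd2, rfl⟩ := ihb
    obtain ⟨s, hs, hs'⟩ := hK d1 hd1 d2 hd2
    exact ⟨s, hs, hs'⟩
  | inv a _ iha =>
    obtain ⟨d1, hd1, rfl⟩ := iha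
    exact ⟨d1⁻¹, K.inv_mem hd1, (inv_pow _ _).symm⟩

theorem powerClosure_mono {G : Type*} [Group G] (p n : ℕ) {K L : Subgroup G} (h : K ≤ L) :
    powerClosure p n K ≤ powerClosure p n L := by
  unfold powerClosure
  apply Subgroup.closure_mono
  rintro y ⟨x, hx, rfl⟩
  exact ⟨x, h hx, rfl⟩

/-- key claim: a product of two `q`-th powers is a `q`-th power -/
theorem pow_mul_pow (p : ℕ) [hp : Fact p.Prime] (n : ℕ) :
    ∀ (N : ℕ) (G : Type u) [Group G] [Finite G], Nat.card G = N → IsRegularPGroup p G →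
      ∀ a b : G, ∃ s ∈ Subgroup.closure ({a, b} : Set G),
        a ^ (p ^ n) * b ^ (p ^ n) = s ^ (p ^ n) := by
  intro N
  induction N using Nat.strong_induction_on with
  | _ N ih =>
  intro G _ _ hN hG a b
  have ihsub : ∀ H : Subgroup G, H ≠ ⊤ → ∀ u ∈ H, ∀ v ∈ H,
      ∃ s ∈ H, u ^ (p ^ n) * v ^ (p ^ n) = s ^ (p ^ n) := by
    intro H hH u hu v hv
    have hlt : Nat.card H < N := by
      rw [← hN]
      rcases lt_or_ge (Nat.card H) (Nat.card G) with h | h
      · exact h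
      · exfalso
        apply hH
        apply Subgroup.eq_top_of_card_eq
        exact le_antisymm (Subgroup.card_le_card_group H) h
    obtain ⟨s, _, hs⟩ := ih _ hlt ↥H rfl (regular_subgroup hG H) ⟨u, hu⟩ ⟨v, hv⟩
    refine ⟨s.1, s.2, ?_⟩
    have := congrArg Subtype.val hs
    simpa using this
  by_cases hL : Subgroup.closure ({a, b} : Set G) = ⊤
  swap
  · obtain ⟨s, hs, hs'⟩ := ihsub _ hL a (Subgroup.subset_closure (by simp)) b
      (Subgroup.subset_closure (by simp))
    exact ⟨s, hs, hs'⟩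
  rw [hL]
  by_cases hc : ∀ u v : G, u * v = v * u
  · refine ⟨a * b, Subgroup.mem_top _, ?_⟩
    rw [(show Commute a b from hc a b).mul_pow]
  -- non-abelian
  push Not at hc
  obtain ⟨u0, v0, huv0⟩ := hc
  haveI hGnt : Nontrivial G := ⟨⟨u0 * v0, v0 * u0, huv0⟩⟩
  haveI : Group.IsNilpotent G := hG.1.isNilpotent
  have hlt : commutator G < ⊤ := Group.IsSolvable.commutator_lt_top_of_nontrivial G
  obtain ⟨c, hc, hab⟩ := hG.2 a b n
  rw [hL, ← commutator_def] at hc
  have hK := ihsub (commutator G) (ne_of_lt hlt)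
  obtain ⟨d, hd, hdc⟩ := powerClosure_eq_pows p n (commutator G) hK c⁻¹
    (Subgroup.inv_mem _ hc)
  have h1 : a ^ (p ^ n) * b ^ (p ^ n) = (a * b) ^ (p ^ n) * d ^ (p ^ n) := by
    rw [hab, ← hdc]; group
  -- closure {ab, d} is proper
  have hM : Subgroup.closure ({a * b, d} : Set G) ≠ ⊤ := by
    intro hM
    have hdF : d ∈ frattini G := Cfsg.Agent.S0094.commutator_le_frattini hG.1 hd
    have hsup : Subgroup.zpowers (a * b) ⊔ frattini G = ⊤ := by
      rw [eq_top_iff, ← hM, Subgroup.closure_le]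
      intro z hz
      rcases hz with rfl | rfl
      · exact (le_sup_left : Subgroup.zpowers (a * b) ≤ _) (Subgroup.mem_zpowers _)
      · exact (le_sup_right : frattini G ≤ _) hdF
    have hcyc := frattini_nongenerating hsup
    apply huv0
    have hu : u0 ∈ Subgroup.zpowers (a * b) := by rw [hcyc]; exact Subgroup.mem_top _
    have hv : v0 ∈ Subgroup.zpowers (a * b) := by rw [hcyc]; exact Subgroup.mem_top _
    obtain ⟨i, rfl⟩ := Subgroup.mem_zpowers_iff.1 hu
    obtain ⟨j, rfl⟩ := Subgroup.mem_zpowers_iff.1 hv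
    rw [← zpow_add, ← zpow_add, add_comm]
  obtain ⟨s, _, hs⟩ := ihsub _ hM (a * b) (Subgroup.subset_closure (by simp)) d
    (Subgroup.subset_closure (by simp))
  exact ⟨s, Subgroup.mem_top _, by rw [h1, hs]⟩

theorem pows_closed {G : Type u} [Group G] [Finite G] (p : ℕ) [Fact p.Prime] (n : ℕ)
    (hG : IsRegularPGroup p G) (H : Subgroup G) :
    ∀ u ∈ H, ∀ v ∈ H, ∃ s ∈ H, u ^ (p ^ n) * v ^ (p ^ n) = s ^ (p ^ n) := by
  intro u hu v hv
  obtain ⟨s, hs, hs'⟩ := pow_mul_pow p n _ G rfl hG u v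
  refine ⟨s, ?_, hs'⟩
  have hle : Subgroup.closure ({u, v} : Set G) ≤ H := by
    rw [Subgroup.closure_le]
    intro z hz
    rcases hz with rfl | rfl
    · exact hu
    · exact hv
  exact hle hs

end Cfsg.Agent.Lib.Helper7.RegularP
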