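import Mathlib
import Cfsg.Prelude
import Cfsg.Agent.Lib.Helper7.RegularP2

set_option autoImplicit false
open Cfsg
open scoped commutatorElement

namespace Cfsg.Agent.Lib.Helper7.RegularLevel

open Cfsg.Agent.Lib.Helper7.RegularP

universe u

/-- the defining property of regularity at level `n` -/
def RegLevel (p n : ℕ) (G : Type*) [Group G] : Prop :=
  ∀ a b : G, ∃ c ∈ powerClosure p n ⁅Subgroup.closure ({a, b} : Set G),
    Subgroup.closure ({a, b} : Set G)⁆, (a * b) ^ (p ^ n) = a ^ (p ^ n) * b ^ (p ^ n) * c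

theorem reglevel_subgroup {G : Type*} [Group G] {p n : ℕ} (hG : RegLevel p n G)
    (H : Subgroup G) : RegLevel p n ↥H := by
  intro a b
  obtain ⟨c, hc, hab⟩ := hG (a : G) (b : G)
  have h1 : Subgroup.closure ({(a : G), (b : G)} : Set G) =
      (Subgroup.closure ({a, b} : Set ↥H)).map H.subtype := by
    rw [MonoidHom.map_closure]
    congr 1
    rw [Set.image_pair]
    rfl
  have h2 : ⁅Subgroup.closure ({(a : G), (b : G)} : Set G),
      Subgroup.closure ({(a : G), (b : G)} : Set G)⁆ =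
      (⁅Subgroup.closure ({a, b} : Set ↥H), Subgroup.closure ({a, b} : Set ↥H)⁆).map H.subtype := by
    rw [h1, Subgroup.map_commutator]
  rw [h2, powerClosure_map] at hc
  obtain ⟨c', hc', rfl⟩ := hc
  refine ⟨c', hc', ?_⟩
  apply Subtype.ext
  simpa using hab

theorem mul_pow_of_exp {G : Type*} [Group G] {p : ℕ} (n : ℕ) (hG : RegLevel p n G)
    (hexp : ∀ z ∈ commutator G, z ^ (p ^ n) = 1) (a b : G) :
    (a * b) ^ (p ^ n) = a ^ (p ^ n) * b ^ (p ^ n) := by
  obtain ⟨c, hc, hab⟩ := hG a b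
  have hc1 : c = 1 := by
    have hle : powerClosure p n ⁅Subgroup.closure ({a, b} : Set G),
        Subgroup.closure ({a, b} : Set G)⁆ ≤ ⊥ := by
      unfold powerClosure
      rw [Subgroup.closure_le]
      rintro y ⟨x, hx, rfl⟩
      rw [SetLike.mem_coe, Subgroup.mem_bot]
      apply hexp
      rw [commutator_def]
      exact Subgroup.commutator_mono le_top le_top hx
    exact Subgroup.mem_bot.1 (hle hc)
  rw [hab, hc1, mul_one]

theorem pow_eq_imp (p : ℕ) [hp : Fact p.Prime] (n : ℕ) :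
    ∀ (N : ℕ) (G : Type u) [Group G] [Finite G], Nat.card G = N → IsPGroup p G →
      RegLevel p n G →
      ∀ x y : G, x ^ (p ^ n) = y ^ (p ^ n) → (x * y⁻¹) ^ (p ^ n) = 1 := by
  intro N
  induction N using Nat.strong_induction_on with
  | _ N ih =>
  intro G _ _ hN hGp hG x y hxy
  have ihsub : ∀ H : Subgroup G, H ≠ ⊤ → ∀ u ∈ H, ∀ v ∈ H, u ^ (p ^ n) = v ^ (p ^ n) →
      (u * v⁻¹) ^ (p ^ n) = 1 := by
    intro H hH u hu v hv huv
    have hlt : Nat.card H < N := by
      rw [← hN]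
      rcases lt_or_ge (Nat.card H) (Nat.card G) with h | h
      · exact h
      · exfalso
        apply hH
        apply Subgroup.eq_top_of_card_eq
        exact le_antisymm (Subgroup.card_le_card_group H) h
    have h1 := ih _ hlt ↥H rfl (hGp.to_subgroup H) (reglevel_subgroup hG H) ⟨u, hu⟩ ⟨v, hv⟩
      (Subtype.ext (by simpa using huv))
    have h2 := congrArg Subtype.val h1
    simpa using h2
  by_cases hL : Subgroup.closure ({x, y} : Set G) = ⊤
  swap
  · exact ihsub _ hL x (Subgroup.subset_closure (by simp)) y (Subgroup.subset_closure (by simp)) hxy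
  by_cases hc : x * y = y * x
  · have hc' : Commute x y⁻¹ := (Commute.inv_right (show Commute x y from hc))
    rw [hc'.mul_pow, inv_pow, hxy, mul_inv_cancel]
  have hx_ne : Subgroup.zpowers x ≠ ⊤ := by
    intro h
    apply hc
    have hy : y ∈ Subgroup.zpowers x := by rw [h]; exact Subgroup.mem_top y
    obtain ⟨i, rfl⟩ := Subgroup.mem_zpowers_iff.1 hy
    exact (Commute.zpow_right (Commute.refl x) i).eq
  obtain ⟨M, hM, hxM⟩ := (eq_top_or_exists_le_coatom (Subgroup.zpowers x)).resolve_left hx_ne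
  haveI hMn : M.Normal := Cfsg.Agent.Lib.Helper1.coatom_normal_of_isPGroup hGp hM
  have hxM' : x ∈ M := hxM (Subgroup.mem_zpowers x)
  have hyxM : y⁻¹ * x * y ∈ M := by
    have := hMn.conj_mem x hxM' y⁻¹
    simpa using this
  have hpow : x ^ (p ^ n) = (y⁻¹ * x * y) ^ (p ^ n) := by
    have h1 : y⁻¹ * x * y = y⁻¹ * x * (y⁻¹)⁻¹ := by rw [inv_inv]
    rw [h1, conj_pow, hxy, inv_inv]
    group
  have h1 : (x * (y⁻¹ * x * y)⁻¹) ^ (p ^ n) = 1 := ihsub M hM.1 x hxM' _ hyxM hpow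
  have hcomm1 : ⁅x, y⁻¹⁆ ^ (p ^ n) = 1 := by
    have : ⁅x, y⁻¹⁆ = x * (y⁻¹ * x * y)⁻¹ := by rw [commutatorElement_def]; group
    rw [this]; exact h1
  have hgen' : Subgroup.closure ({x, y⁻¹} : Set G) = ⊤ := by
    rw [eq_top_iff, ← hL, Subgroup.closure_le]
    intro z hz
    rcases hz with rfl | rfl
    · exact Subgroup.subset_closure (by simp)
    · have : z⁻¹ ∈ Subgroup.closure ({x, z⁻¹} : Set G) := Subgroup.subset_closure (by simp)
      have := Subgroup.inv_mem _ this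
      simpa using this
  haveI hGnt : Nontrivial G := ⟨⟨x * y, y * x, hc⟩⟩
  haveI : Group.IsNilpotent G := hGp.isNilpotent
  have hlt : commutator G < ⊤ := Group.IsSolvable.commutator_lt_top_of_nontrivial G
  have hexp := exp_commutator (p ^ n) x y⁻¹ hgen' (ihsub (commutator G) (ne_of_lt hlt)) hcomm1
  rw [mul_pow_of_exp n hG hexp, inv_pow, hxy, mul_inv_cancel]

theorem pow_mul_pow (p : ℕ) [hp : Fact p.Prime] (n : ℕ) :
    ∀ (N : ℕ) (G : Type u) [Group G] [Finite G], Nat.card G = N → IsPGroup p G →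
      RegLevel p n G →
      ∀ a b : G, ∃ s ∈ Subgroup.closure ({a, b} : Set G),
        a ^ (p ^ n) * b ^ (p ^ n) = s ^ (p ^ n) := by
  intro N
  induction N using Nat.strong_induction_on with
  | _ N ih =>
  intro G _ _ hN hGp hG a b
  have ihsub : ∀ H : Subgroup G, H ≠ ⊤ → ∀ u ∈ H, ∀ v ∈ H,
      ∃ s ∈ H, u ^ (p ^ n) * v ^ (p ^ n) = s ^ (p ^ n) := by
    intro H hH u hu v hv
    have hlt : Nat.card H < N := by
      rw [← hN]
      rcases lt_or_ge (Nat.card H) (Nat.card G) with h | h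
      · exact h
      · exfalso
        apply hH
        apply Subgroup.eq_top_of_card_eq
        exact le_antisymm (Subgroup.card_le_card_group H) h
    obtain ⟨s, _, hs⟩ := ih _ hlt ↥H rfl (hGp.to_subgroup H) (reglevel_subgroup hG H)
      ⟨u, hu⟩ ⟨v, hv⟩
    refine ⟨s.1, s.2, ?_⟩
    have := congrArg Subtype.val hs
    simpa using this
  by_cases hL : Subgroup.closure ({a, b} : Set G) = ⊤
  swap
  · obtain ⟨s, hs, hs'⟩ := ihsub _ hL a (Subgroup.subset_closure (by simp)) b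
      (Subgroup.subset_closure (by simp))
    exact ⟨s, hs, hs'⟩
  rw [hL]
  by_cases hc : ∀ u v : G, u * v = v * u
  · refine ⟨a * b, Subgroup.mem_top _, ?_⟩
    rw [(show Commute a b from hc a b).mul_pow]
  push Not at hc
  obtain ⟨u0, v0, huv0⟩ := hc
  haveI hGnt : Nontrivial G := ⟨⟨u0 * v0, v0 * u0, huv0⟩⟩
  haveI : Group.IsNilpotent G := hGp.isNilpotent
  have hlt : commutator G < ⊤ := Group.IsSolvable.commutator_lt_top_of_nontrivial G
  obtain ⟨c, hc, hab⟩ := hG a b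
  rw [hL, ← commutator_def] at hc
  have hK := ihsub (commutator G) (ne_of_lt hlt)
  obtain ⟨d, hd, hdc⟩ := powerClosure_eq_pows p n (commutator G) hK c⁻¹
    (Subgroup.inv_mem _ hc)
  have h1 : a ^ (p ^ n) * b ^ (p ^ n) = (a * b) ^ (p ^ n) * d ^ (p ^ n) := by
    rw [hab, ← hdc]; group
  have hM : Subgroup.closure ({a * b, d} : Set G) ≠ ⊤ := by
    intro hM
    have hdF : d ∈ frattini G := Cfsg.Agent.S0094.commutator_le_frattini hGp hd
    have hsup : Subgroup.zpowers (a * b) ⊔ frattini G = ⊤ := by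
      rw [eq_top_iff, ← hM, Subgroup.closure_le]
      intro z hz
      rcases hz with rfl | rfl
      · exact (le_sup_left : Subgroup.zpowers (a * b) ≤ _) (Subgroup.mem_zpowers _)
      · exact (le_sup_right : frattini G ≤ _) hdF
    have hcyc := frattini_nongenerating hsup
    apply huv0
    have hu : u0 ∈ Subgroup.zpowers (a * b) := by rw [hcyc]; exact Subgroup.mem_top _
    have hv : v0 ∈ Subgroup.zpowers (a * b) := by rw [hcyc]; exact Subgroup.mem_top _
    obtain ⟨i, rfl⟩ := Subgroup.mem_zpowers_iff.1 hu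
    obtain ⟨j, rfl⟩ := Subgroup.mem_zpowers_iff.1 hv
    rw [← zpow_add, ← zpow_add, add_comm]
  obtain ⟨s, _, hs⟩ := ihsub _ hM (a * b) (Subgroup.subset_closure (by simp)) d
    (Subgroup.subset_closure (by simp))
  exact ⟨s, Subgroup.mem_top _, by rw [h1, hs]⟩

theorem pows_closed {G : Type u} [Group G] [Finite G] (p : ℕ) [Fact p.Prime] (n : ℕ)
    (hGp : IsPGroup p G) (hG : RegLevel p n G) (H : Subgroup G) :
    ∀ u ∈ H, ∀ v ∈ H, ∃ s ∈ H, u ^ (p ^ n) * v ^ (p ^ n) = s ^ (p ^ n) := by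
  intro u hu v hv
  obtain ⟨s, hs, hs'⟩ := pow_mul_pow p n _ G rfl hGp hG u v
  refine ⟨s, ?_, hs'⟩
  have hle : Subgroup.closure ({u, v} : Set G) ≤ H := by
    rw [Subgroup.closure_le]
    intro z hz
    rcases hz with rfl | rfl
    · exact hu
    · exact hv
  exact hle hs

/-- every element of `℧_n(H)` is a `p^n`-th power of an element of `H` -/
theorem agemo_eq_pows {G : Type u} [Group G] [Finite G] (p : ℕ) [Fact p.Prime] (n : ℕ)
    (hGp : IsPGroup p G) (hG : RegLevel p n G) (H : Subgroup G) :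
    ∀ c ∈ powerClosure p n H, ∃ d ∈ H, c = d ^ (p ^ n) :=
  powerClosure_eq_pows p n H (pows_closed p n hGp hG H)

/-- `[℧_n(H), ℧_n(H)] ≤ ℧_n(H')` -/
theorem commutator_agemo_le {G : Type u} [Group G] [Finite G] (p : ℕ) [Fact p.Prime] (n : ℕ)
    (hGp : IsPGroup p G) (hG : RegLevel p n G) (H : Subgroup G) :
    ⁅powerClosure p n H, powerClosure p n H⁆ ≤ powerClosure p n ⁅H, H⁆ := by
  have hpows := agemo_eq_pows p n hGp hG H
  have hgen : ∀ K : Subgroup G, ∀ x ∈ K, x ^ (p ^ n) ∈ powerClosure p n K := by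
    intro K x hx
    unfold powerClosure
    exact Subgroup.subset_closure ⟨x, hx, rfl⟩
  rw [Subgroup.commutator_le]
  intro g₁ hg₁ g₂ hg₂
  obtain ⟨a, ha, rfl⟩ := hpows g₁ hg₁
  obtain ⟨b₀, hb₀, rfl⟩ := hpows g₂ hg₂
  obtain ⟨b, hbdef⟩ : ∃ b, b = b₀ ^ (p ^ n) := ⟨_, rfl⟩
  rw [← hbdef]
  have hb : b ∈ H := by rw [hbdef]; exact H.pow_mem hb₀ _
  have ha' : b * a⁻¹ * b⁻¹ ∈ H := H.mul_mem (H.mul_mem hb (H.inv_mem ha)) (H.inv_mem hb)
  obtain ⟨c, hc, hac⟩ := hG a (b * a⁻¹ * b⁻¹)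
  have hle : Subgroup.closure ({a, b * a⁻¹ * b⁻¹} : Set G) ≤ H := by
    rw [Subgroup.closure_le]
    intro z hz
    rcases hz with rfl | rfl
    · exact ha
    · exact ha'
  have hc' : c ∈ powerClosure p n ⁅H, H⁆ :=
    powerClosure_mono p n (Subgroup.commutator_mono hle hle) hc
  have h1 : ⁅a ^ (p ^ n), b⁆ = a ^ (p ^ n) * (b * a⁻¹ * b⁻¹) ^ (p ^ n) := by
    rw [commutatorElement_def, conj_pow, inv_pow]
    group
  have h2 : a ^ (p ^ n) * (b * a⁻¹ * b⁻¹) ^ (p ^ n) = (a * (b * a⁻¹ * b⁻¹)) ^ (p ^ n) * c⁻¹ := by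
    rw [hac]; group
  rw [h1, h2]
  apply Subgroup.mul_mem _ _ (Subgroup.inv_mem _ hc')
  apply hgen
  have : a * (b * a⁻¹ * b⁻¹) = ⁅a, b⁆ := by rw [commutatorElement_def]; group
  rw [this]
  exact Subgroup.commutator_mem_commutator ha hb

end Cfsg.Agent.Lib.Helper7.RegularLevel
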