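import Mathlib

set_option autoImplicit false

namespace Cfsg.Agent.Lib.Helper7

theorem mem_centralizer_singleton_iff {G : Type*} [Group G] (x c : G) :
    c ∈ Subgroup.centralizer ({x} : Set G) ↔ c * x = x * c := by
  rw [Subgroup.mem_centralizer_iff]
  constructor
  · intro h; exact (h x rfl).symm
  · intro h y hy
    rw [Set.mem_singleton_iff] at hy
    subst hy
    exact h.symm

theorem conj_eq_conj_iff {G : Type*} [Group G] (x a b : G) :
    a * x * a⁻¹ = b * x * b⁻¹ ↔ a⁻¹ * b ∈ Subgroup.centralizer ({x} : Set G) := by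
  rw [mem_centralizer_singleton_iff]
  constructor
  · intro h
    have h1 : x = a⁻¹ * (b * x * b⁻¹) * a := by rw [← h]; group
    calc a⁻¹ * b * x = (a⁻¹ * (b * x * b⁻¹) * a) * (a⁻¹ * b) := by group
      _ = x * (a⁻¹ * b) := by rw [← h1]
  · intro h
    calc a * x * a⁻¹ = a * (x * (a⁻¹ * b)) * b⁻¹ := by group
      _ = a * (a⁻¹ * b * x) * b⁻¹ := by rw [h]
      _ = b * x * b⁻¹ := by group

/-- The `B`-conjugacy class of `x` has `[B : C_B(x)]` elements. -/
theorem ncard_conj_class_rel {G : Type*} [Group G] (B : Subgroup G) (x : G) :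
    (Set.range (fun b : B => (b : G) * x * (b : G)⁻¹)).ncard
      = (Subgroup.centralizer ({x} : Set G)).relIndex B := by
  let f : B ⧸ (Subgroup.centralizer ({x} : Set G)).subgroupOf B → G :=
    fun q => Quotient.liftOn' q (fun b : B => (b : G) * x * (b : G)⁻¹) (by
      intro a b hab
      rw [QuotientGroup.leftRel_apply, Subgroup.mem_subgroupOf] at hab
      exact (conj_eq_conj_iff x a b).2 (by simpa using hab))
  have hf_inj : Function.Injective f := by
    intro q1 q2
    induction q1 using QuotientGroup.induction_on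
    induction q2 using QuotientGroup.induction_on
    intro h
    rw [QuotientGroup.eq, Subgroup.mem_subgroupOf]
    have := (conj_eq_conj_iff x _ _).1 h
    simpa using this
  have hrange : Set.range f = Set.range (fun b : B => (b : G) * x * (b : G)⁻¹) := by
    ext y
    constructor
    · rintro ⟨q, rfl⟩
      induction q using QuotientGroup.induction_on
      exact ⟨_, rfl⟩
    · rintro ⟨g, rfl⟩
      exact ⟨(g : B ⧸ (Subgroup.centralizer ({x} : Set G)).subgroupOf B), rfl⟩
  rw [← hrange, Set.ncard_range_of_injective hf_inj]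
  rfl

end Cfsg.Agent.Lib.Helper7
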