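import Mathlib
import Cfsg.Agent.Lib.Helper7.Syl15Act

set_option autoImplicit false
set_option maxHeartbeats 800000
set_option linter.unusedSectionVars false

namespace Cfsg.Agent.Lib.Helper7.Syl15

open Subgroup MulAction

universe u

section C49

variable {G : Type u} [Group G] [Finite G] [hp : Fact (Nat.Prime 7)]

theorem card_sylow_eq (P R : Sylow 7 G) :
    Nat.card (R : Subgroup G) = Nat.card (P : Subgroup G) := by
  rw [Sylow.card_eq_multiplicity, Sylow.card_eq_multiplicity]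

theorem exists_sylow_ne (h15 : Nat.card (Sylow 7 G) = 15) (P : Sylow 7 G) :
    ∃ Q : Sylow 7 G, Q ≠ P := by
  by_contra hcon
  push Not at hcon
  have h1 : Subsingleton (Sylow 7 G) := ⟨fun a b => (hcon a).trans (hcon b).symm⟩
  have h2 := Finite.card_le_one_iff_subsingleton.mpr h1
  omega

/-- any two Sylow 7-subgroups of order 49 intersect non-trivially when there are only 15 of
them -/
theorem inter_ne_bot (h15 : Nat.card (Sylow 7 G) = 15) (R D : Sylow 7 G)
    (hR : Nat.card (R : Subgroup G) = 49) :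
    ∃ w : G, w ∈ R ∧ w ∈ D ∧ w ≠ 1 := by
  by_contra hcon
  push Not at hcon
  have hinj : Function.Injective (fun r : (R : Subgroup G) => (r : G) • D) := by
    intro r r' h
    simp only at h
    have h1 : ((r : G)⁻¹ * (r' : G)) • D = D := by
      rw [mul_smul, ← h, ← mul_smul, inv_mul_cancel, one_smul]
    have h2 : (r : G)⁻¹ * (r' : G) ∈ R :=
      Subgroup.mul_mem _ (Subgroup.inv_mem _ r.2) r'.2
    have h3 : (r : G)⁻¹ * (r' : G) ∈ D := mem_of_mem_fx (pelt_of_mem_sylow h2) h1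
    have h4 := hcon _ h2 h3
    apply Subtype.ext
    exact inv_mul_eq_one.mp h4
  have := Nat.card_le_card_of_injective _ hinj
  rw [hR, h15] at this
  omega

theorem case49 (h15 : Nat.card (Sylow 7 G) = 15)
    (hfaith : ∀ g : G, (∀ Q : Sylow 7 G, g • Q = Q) → g = 1)
    (P : Sylow 7 G) (hP : Nat.card (P : Subgroup G) = 49) : False := by
  have hcard : ∀ R : Sylow 7 G, Nat.card (R : Subgroup G) = 49 :=
    fun R => (card_sylow_eq P R).trans hP
  have hab : ∀ R : Sylow 7 G, ∀ a b : G, a ∈ R → b ∈ R → Commute a b := by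
    intro R a b ha hb
    have := IsPGroup.commutative_of_card_eq_prime_sq (p := 7) (G := (R : Subgroup G))
      (by rw [hcard R]; norm_num) ⟨a, ha⟩ ⟨b, hb⟩
    exact congrArg Subtype.val this
  obtain ⟨Q, hQP⟩ := exists_sylow_ne h15 P
  obtain ⟨g, hgP, hgQ, hg7, hg1⟩ : ∃ g : G, g ∈ P ∧ g ∈ Q ∧ g ^ 7 = 1 ∧ g ≠ 1 := by
    obtain ⟨w, hwP, hwQ, hw1⟩ := inter_ne_bot h15 P Q hP
    have hw49 : w ^ 49 = 1 := by
      have := pow_card_eq_one' (G := (P : Subgroup G)) (x := ⟨w, hwP⟩)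
      rw [hP] at this
      exact congrArg Subtype.val this
    by_cases h7 : w ^ 7 = 1
    · exact ⟨w, hwP, hwQ, h7, hw1⟩
    · refine ⟨w ^ 7, Subgroup.pow_mem _ hwP 7, Subgroup.pow_mem _ hwQ 7, ?_, h7⟩
      rw [← pow_mul]
      exact hw49
  have hgord : orderOf g = 7 := orderOf_eq_prime hg7 hg1
  have hgp : ∃ k : ℕ, g ^ 7 ^ k = 1 := ⟨1, by simpa using hg7⟩
  have hfx8 : (fx g).ncard = 8 := by
    rcases fx_ncard h15 hfaith hgp hg1 with h | h
    · exfalso
      obtain ⟨a, ha⟩ := Set.ncard_eq_one.mp h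
      have h1 : P ∈ fx g := mem_fx_of_mem hgP
      have h2 : Q ∈ fx g := mem_fx_of_mem hgQ
      rw [ha, Set.mem_singleton_iff] at h1 h2
      exact hQP (h2.trans h1.symm)
    · exact h
  have hΔ : ((fx g)ᶜ).ncard = 7 := by
    rw [Set.ncard_compl, h15, hfx8]
  obtain ⟨D₀, hD₀⟩ : ∃ D₀, D₀ ∈ (fx g)ᶜ := by
    apply Set.nonempty_of_ncard_ne_zero
    rw [hΔ]
    norm_num
  have hD₀' : g • D₀ ≠ D₀ := hD₀
  have horb : MulAction.orbit (Subgroup.zpowers g) D₀ = (fx g)ᶜ := by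
    refine Set.eq_of_subset_of_ncard_le ?_ ?_ (Set.toFinite _)
    · intro R hR
      obtain ⟨k, rfl⟩ := (mem_orbit_zpowers_iff g D₀ R).mp hR
      intro hmem
      apply hD₀'
      have h1 : g • g ^ k • D₀ = g ^ k • D₀ := hmem
      rw [← mul_smul, ((Commute.refl g).zpow_right k).eq, mul_smul] at h1
      exact smul_left_cancel _ h1
    · rw [hΔ, ncard_orbit_zpowers (by norm_num) g hgord D₀ hD₀']
  have key : ∀ R : Sylow 7 G, g ∈ R →
      ∃ w : G, w ∈ R ∧ w ∈ D₀ ∧ w ≠ 1 ∧ fx w = (fx g)ᶜ ∪ {R} := by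
    intro R hgR
    obtain ⟨w, hwR, hwD, hw1⟩ := inter_ne_bot h15 R D₀ (hcard R)
    refine ⟨w, hwR, hwD, hw1, ?_⟩
    have hcomm : Commute w g := hab R w g hwR hgR
    have hsub : (fx g)ᶜ ∪ {R} ⊆ fx w := by
      rintro T (hT | hT)
      · rw [← horb] at hT
        obtain ⟨k, rfl⟩ := (mem_orbit_zpowers_iff g D₀ T).mp hT
        show w • g ^ k • D₀ = g ^ k • D₀
        rw [← mul_smul, (hcomm.zpow_right k).eq, mul_smul]
        congr 1
        exact mem_fx_of_mem hwD
      · rw [Set.mem_singleton_iff] at hT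
        rw [hT]
        exact mem_fx_of_mem hwR
    symm
    refine Set.eq_of_subset_of_ncard_le hsub ?_ (Set.toFinite _)
    have h1 : ((fx g)ᶜ ∪ {R}).ncard = 8 := by
      rw [Set.ncard_union_eq, hΔ, Set.ncard_singleton]
      rw [Set.disjoint_singleton_right]
      intro h
      exact h (mem_fx_of_mem hgR)
    rw [h1]
    rcases fx_ncard h15 hfaith (pelt_of_mem_sylow hwR) hw1 with h | h <;> omega
  obtain ⟨wP, hwPP, hwPD, hwP1, hfxP⟩ := key P hgP
  obtain ⟨wQ, hwQQ, hwQD, hwQ1, hfxQ⟩ := key Q hgQ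
  have hcomm : Commute wQ wP := hab D₀ wQ wP hwQD hwPD
  have hT1 : wP • Q ≠ Q := by
    intro h
    have h1 : Q ∈ fx wP := h
    rw [hfxP] at h1
    rcases h1 with h | h
    · exact h (mem_fx_of_mem hgQ)
    · exact hQP h
  have hT2 : wP • Q ∈ fx g := fx_comm (hab P g wP hgP hwPP) (mem_fx_of_mem hgQ)
  have hT3 : wP • Q ∈ fx wQ := by
    show wQ • wP • Q = wP • Q
    rw [← mul_smul, hcomm.eq, mul_smul]
    congr 1
    exact mem_fx_of_mem hwQQ
  rw [hfxQ] at hT3
  rcases hT3 with h | h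
  · exact h hT2
  · exact hT1 h

end C49

end Cfsg.Agent.Lib.Helper7.Syl15
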