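import Mathlib
import Cfsg.Agent.Lib.Helper7.Syl21Gen

set_option autoImplicit false
set_option maxHeartbeats 800000
set_option linter.unusedSectionVars false

/-! `n_5 = 21` is impossible when the Sylow `5`-subgroups have order at least `25`. -/

namespace Cfsg.Agent.Lib.Helper7.Syl21

open Subgroup MulAction Cfsg.Agent.Lib.Helper7.SylTwoP

universe u

section Big

variable {G : Type u} [Group G] [Finite G] [hp : Fact (Nat.Prime 5)]

/-- the `R`-orbit of another Sylow subgroup has exactly five elements -/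
theorem orbit_ncard_eq_five (hn : Nat.card (Sylow 5 G) = 21) (R R' : Sylow 5 G) (hne : R' ≠ R) :
    (MulAction.orbit (R : Subgroup G) R').ncard = 5 := by
  have h1 : (MulAction.orbit (R : Subgroup G) R').ncard ∣ Nat.card (R : Subgroup G) := by
    rw [← MulAction.index_stabilizer]
    exact Subgroup.index_dvd_card _
  obtain ⟨a, ha⟩ := IsPGroup.iff_card.mp R.isPGroup'
  rw [ha] at h1
  obtain ⟨j, -, hj⟩ := (Nat.dvd_prime_pow hp.out).mp h1
  have hRnot : R ∉ MulAction.orbit (R : Subgroup G) R' := by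
    rintro ⟨⟨r, hrR⟩, hr⟩
    apply hne
    have h2 : r⁻¹ • R = R := mem_fx_of_mem (Subgroup.inv_mem _ hrR)
    have h3 : r • R' = R := hr
    calc R' = r⁻¹ • (r • R') := by rw [inv_smul_smul]
      _ = r⁻¹ • R := by rw [h3]
      _ = R := h2
  have hle : (MulAction.orbit (R : Subgroup G) R').ncard ≤ 20 := by
    have h2 : MulAction.orbit (R : Subgroup G) R' ⊆ {R}ᶜ := by
      intro T hT hTR
      rw [Set.mem_singleton_iff] at hTR
      exact hRnot (hTR ▸ hT)
    have h3 := Set.ncard_le_ncard h2 (Set.toFinite _)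
    rw [Set.ncard_compl, hn, Set.ncard_singleton] at h3
    exact h3
  have hne1 : (MulAction.orbit (R : Subgroup G) R').ncard ≠ 1 := by
    intro h
    obtain ⟨T, hT⟩ := Set.ncard_eq_one.mp h
    -- every element of `R` fixes `R'`
    have hfix : ∀ r : G, r ∈ R → r • R' = R' := by
      intro r hr
      have h2 : R' ∈ MulAction.orbit (R : Subgroup G) R' := MulAction.mem_orbit_self R'
      have h3 : (⟨r, hr⟩ : (R : Subgroup G)) • R' ∈ MulAction.orbit (R : Subgroup G) R' :=
        MulAction.mem_orbit _ _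
      rw [hT, Set.mem_singleton_iff] at h2 h3
      exact h3.trans h2.symm
    have hle' : (R : Subgroup G) ≤ R' := fun r hr =>
      mem_of_mem_fx (pelt_of_mem_sylow hr) (hfix r hr)
    exact hne (Sylow.ext (Subgroup.eq_of_le_of_card_ge hle'
      (by rw [card_sylow_eq R R'])).symm)
  rw [hj] at hle hne1 ⊢
  rcases j with _ | _ | j
  · simp at hne1
  · simp
  · exfalso
    have : 5 ^ 2 ≤ 5 ^ (j + 1 + 1) := Nat.pow_le_pow_right (by norm_num) (by omega)
    omega

/-- the stabilizer in `R` of `R'` is `R ⊓ R'`, of index five -/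
theorem relIndex_eq_five (hn : Nat.card (Sylow 5 G) = 21) (R R' : Sylow 5 G) (hne : R' ≠ R) :
    ((R' : Subgroup G).subgroupOf (R : Subgroup G)).index = 5 := by
  have h1 := MulAction.index_stabilizer (R : Subgroup G) R'
  rw [orbit_ncard_eq_five hn R R' hne] at h1
  have h2 : MulAction.stabilizer (R : Subgroup G) R'
      = (R' : Subgroup G).subgroupOf (R : Subgroup G) := by
    ext r
    rw [MulAction.mem_stabilizer_iff, Subgroup.mem_subgroupOf]
    constructor
    · intro h
      exact mem_of_mem_fx (pelt_of_mem_sylow r.2) h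
    · intro h
      exact mem_fx_of_mem h
  rw [h2] at h1
  exact h1

theorem normal_subgroupOf (hn : Nat.card (Sylow 5 G) = 21) (R R' : Sylow 5 G) (hne : R' ≠ R) :
    ((R' : Subgroup G).subgroupOf (R : Subgroup G)).Normal := by
  apply Subgroup.normal_of_index_eq_minFac_card
  rw [relIndex_eq_five hn R R' hne]
  obtain ⟨a, ha⟩ := IsPGroup.iff_card.mp R.isPGroup'
  rw [ha]
  have ha0 : a ≠ 0 := by
    rintro rfl
    have h1 := relIndex_eq_five hn R R' hne
    have h2 := Subgroup.index_dvd_card ((R' : Subgroup G).subgroupOf (R : Subgroup G))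
    rw [h1, ha] at h2
    norm_num at h2
  rw [Nat.pow_minFac ha0, Nat.Prime.minFac_eq hp.out]

/-- conjugating an element of `R ⊓ R'` by an element of `R` stays in `R'` -/
theorem conj_mem_of_mem_inf (hn : Nat.card (Sylow 5 G) = 21) (R R' : Sylow 5 G) (hne : R' ≠ R)
    {g h : G} (hg : g ∈ R) (hhR : h ∈ R) (hhR' : h ∈ R') : g * h * g⁻¹ ∈ R' := by
  have hN := normal_subgroupOf hn R R' hne
  have h1 := hN.conj_mem ⟨h, hhR⟩ (Subgroup.mem_subgroupOf.mpr hhR') ⟨g, hg⟩
  rw [Subgroup.mem_subgroupOf] at h1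
  exact h1

theorem card_inf_mul_five (hn : Nat.card (Sylow 5 G) = 21) (R R' : Sylow 5 G) (hne : R' ≠ R) :
    Nat.card ((R : Subgroup G) ⊓ R' : Subgroup G) * 5 = Nat.card (R : Subgroup G) := by
  have h1 := Subgroup.card_mul_index ((R' : Subgroup G).subgroupOf (R : Subgroup G))
  rw [relIndex_eq_five hn R R' hne] at h1
  rw [← h1]
  congr 1
  rw [← Subgroup.inf_subgroupOf_right]
  have e : ((R : Subgroup G) ⊓ R') = ((R' : Subgroup G) ⊓ R) := inf_comm _ _
  rw [e]
  exact (Nat.card_congr (Subgroup.subgroupOfEquivOfLe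
    (inf_le_right : (R' : Subgroup G) ⊓ R ≤ R)).toEquiv).symm

theorem mem_smul_sylow_iff (g h : G) (R : Sylow 5 G) :
    h ∈ g • R ↔ g⁻¹ * h * g ∈ R := by
  have h1 : h ∈ g • R ↔ h ∈ ((g • R : Sylow 5 G) : Subgroup G) := Iff.rfl
  rw [h1, Sylow.coe_subgroup_smul, Cfsg.Agent.Lib.Helper7.mem_conj_smul]
  rfl

theorem exists_ne_of_card21 (hn : Nat.card (Sylow 5 G) = 21) (P : Sylow 5 G) :
    ∃ Q : Sylow 5 G, Q ≠ P := by
  by_contra hcon
  push Not at hcon
  have h1 : Subsingleton (Sylow 5 G) := ⟨fun a b => (hcon a).trans (hcon b).symm⟩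
  have h2 := Finite.card_le_one_iff_subsingleton.mpr h1
  omega

theorem case_big (hn : Nat.card (Sylow 5 G) = 21)
    (hfaith : ∀ g : G, (∀ Q : Sylow 5 G, g • Q = Q) → g = 1)
    (P : Sylow 5 G) (hP : 25 ≤ Nat.card (P : Subgroup G)) : False := by
  classical
  obtain ⟨Q', hQ'⟩ := exists_ne_of_card21 hn P
  have hHcard := card_inf_mul_five hn P Q' hQ'
  have hH5 : 5 ≤ Nat.card ((P : Subgroup G) ⊓ Q' : Subgroup G) := by omega
  have hinf : ∀ R R' : Sylow 5 G, (P : Subgroup G) ⊓ Q' ≤ R → (P : Subgroup G) ⊓ Q' ≤ R' →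
      R ≠ R' → (R : Subgroup G) ⊓ R' = (P : Subgroup G) ⊓ Q' := by
    intro R R' hR hR' hne
    symm
    apply Subgroup.eq_of_le_of_card_ge (le_inf hR hR')
    have h1 := card_inf_mul_five hn R R' hne.symm
    rw [card_sylow_eq P R] at h1
    omega
  obtain ⟨P₀, hP₀⟩ : ∃ P₀ : Sylow 5 G, ¬ ((P : Subgroup G) ⊓ Q' ≤ P₀) := by
    by_contra hcon
    push Not at hcon
    have h1 : (P : Subgroup G) ⊓ Q' = ⊥ := by
      rw [Subgroup.eq_bot_iff_forall]
      intro h hh
      apply hfaith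
      intro R
      exact mem_fx_of_mem (hcon R hh)
    rw [h1, Subgroup.card_bot] at hH5
    omega
  have hneP₀ : ∀ R : Sylow 5 G, (P : Subgroup G) ⊓ Q' ≤ R → R ≠ P₀ := fun R hR h => hP₀ (h ▸ hR)
  -- distinct elements of `B` lie in distinct `P₀`-orbits
  have hdisj : ∀ R R' : Sylow 5 G, (P : Subgroup G) ⊓ Q' ≤ R → (P : Subgroup G) ⊓ Q' ≤ R' →
      R ≠ R' → Disjoint (MulAction.orbit (P₀ : Subgroup G) R)
        (MulAction.orbit (P₀ : Subgroup G) R') := by
    intro R R' hR hR' hne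
    rw [Set.disjoint_left]
    intro T hT hT'
    have e1 : MulAction.orbit (P₀ : Subgroup G) T = MulAction.orbit (P₀ : Subgroup G) R :=
      MulAction.orbit_eq_iff.mpr hT
    have e2 : MulAction.orbit (P₀ : Subgroup G) T = MulAction.orbit (P₀ : Subgroup G) R' :=
      MulAction.orbit_eq_iff.mpr hT'
    have h1 : R' ∈ MulAction.orbit (P₀ : Subgroup G) R := by
      rw [← e1, e2]
      exact MulAction.mem_orbit_self R'
    obtain ⟨⟨g, hg⟩, hgR⟩ := h1
    have hgR' : g • R = R' := hgR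
    have hle : (P₀ : Subgroup G) ⊓ R ≤ (R : Subgroup G) ⊓ R' := by
      rintro h ⟨hh0, hhR⟩
      refine ⟨hhR, ?_⟩
      have h2 : g⁻¹ * h * g ∈ R := by
        have := conj_mem_of_mem_inf hn P₀ R (hneP₀ R hR) (g := g⁻¹) (Subgroup.inv_mem _ hg)
          hh0 hhR
        simpa using this
      show h ∈ R'
      rw [← hgR']
      exact (mem_smul_sylow_iff g h R).mpr h2
    rw [hinf R R' hR hR' hne] at hle
    have hEq : (P₀ : Subgroup G) ⊓ R = (P : Subgroup G) ⊓ Q' := by
      apply Subgroup.eq_of_le_of_card_ge hle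
      have h3 := card_inf_mul_five hn P₀ R (hneP₀ R hR)
      rw [card_sylow_eq P P₀] at h3
      omega
    have h4 : (P : Subgroup G) ⊓ Q' ≤ P₀ := by
      rw [← hEq]
      exact inf_le_left
    exact hP₀ h4
  -- `B` has at least six elements
  have hBsub : ({P} ∪ MulAction.orbit (P : Subgroup G) Q' : Set (Sylow 5 G))
      ⊆ {R : Sylow 5 G | (P : Subgroup G) ⊓ Q' ≤ R} := by
    rintro R (hR | hR)
    · rw [Set.mem_singleton_iff] at hR
      rw [hR]
      show (P : Subgroup G) ⊓ Q' ≤ P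
      exact inf_le_left
    · obtain ⟨⟨g, hg⟩, hgR⟩ := hR
      have hgR' : g • Q' = R := hgR
      rintro h ⟨hhP, hhQ'⟩
      show h ∈ R
      rw [← hgR']
      apply (mem_smul_sylow_iff g h Q').mpr
      have := conj_mem_of_mem_inf hn P Q' hQ' (g := g⁻¹) (Subgroup.inv_mem _ hg) hhP hhQ'
      simpa using this
  have hB6 : 6 ≤ {R : Sylow 5 G | (P : Subgroup G) ⊓ Q' ≤ R}.ncard := by
    refine le_trans ?_ (Set.ncard_le_ncard hBsub (Set.toFinite _))
    rw [Set.ncard_union_eq, Set.ncard_singleton, orbit_ncard_eq_five hn P Q' hQ']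
    rw [Set.disjoint_singleton_left]
    rintro ⟨⟨r, hrP⟩, hr⟩
    apply hQ'
    have h2 : r⁻¹ • P = P := mem_fx_of_mem (Subgroup.inv_mem _ hrP)
    have h3 : r • Q' = P := hr
    calc Q' = r⁻¹ • (r • Q') := by rw [inv_smul_smul]
      _ = r⁻¹ • P := by rw [h3]
      _ = P := h2
  -- count
  have := Fintype.ofFinite (Sylow 5 G)
  let Bf : Finset (Sylow 5 G) := Finset.univ.filter (fun R => (P : Subgroup G) ⊓ Q' ≤ R)
  let O : Sylow 5 G → Finset (Sylow 5 G) := fun R =>
    Finset.univ.filter (fun T => T ∈ MulAction.orbit (P₀ : Subgroup G) R)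
  have hBf : Bf.card = {R : Sylow 5 G | (P : Subgroup G) ⊓ Q' ≤ R}.ncard := by
    rw [← Set.ncard_coe_finset]
    congr 1
    ext R
    simp [Bf]
  have hO : ∀ R ∈ Bf, (O R).card = 5 := by
    intro R hR
    simp only [Bf, Finset.mem_filter, Finset.mem_univ, true_and] at hR
    have h5 := orbit_ncard_eq_five hn P₀ R (hneP₀ R hR)
    have h6 : ((O R : Finset (Sylow 5 G)) : Set (Sylow 5 G))
        = MulAction.orbit (P₀ : Subgroup G) R := by
      ext T
      simp [O]
    rw [← Set.ncard_coe_finset, h6, h5]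
  have hdisj' : ∀ R ∈ Bf, ∀ R' ∈ Bf, R ≠ R' → Disjoint (O R) (O R') := by
    intro R hR R' hR' hne
    simp only [Bf, Finset.mem_filter, Finset.mem_univ, true_and] at hR hR'
    rw [Finset.disjoint_left]
    intro T hT hT'
    simp only [O, Finset.mem_filter, Finset.mem_univ, true_and] at hT hT'
    exact Set.disjoint_left.mp (hdisj R R' hR hR' hne) hT hT'
  have hcard := Finset.card_biUnion hdisj'
  rw [Finset.sum_congr rfl hO, Finset.sum_const, smul_eq_mul] at hcard
  have hle := Finset.card_le_univ (Bf.biUnion O)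
  rw [← Nat.card_eq_fintype_card, hn, hcard, hBf] at hle
  omega

end Big

end Cfsg.Agent.Lib.Helper7.Syl21
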