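import Mathlib
import Cfsg.Agent.Lib.Helper7.Syl21Big

set_option autoImplicit false
set_option maxHeartbeats 800000
set_option linter.unusedSectionVars false

/-! `n_5 = 21` with Sylow `5`-subgroups of order `5`: the centralizer of a Sylow subgroup. -/

namespace Cfsg.Agent.Lib.Helper7.Syl21

open Subgroup MulAction Cfsg.Agent.Lib.Helper7.SylTwoP

universe u

section One

variable {G : Type u} [Group G] [Finite G] [hp : Fact (Nat.Prime 5)]

/-- the standing hypotheses of the minimal counterexample with Sylow subgroups of order five -/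
structure Hyp (G : Type u) [Group G] [Finite G] : Prop where
  hn : Nat.card (Sylow 5 G) = 21
  hfaith : ∀ g : G, (∀ Q : Sylow 5 G, g • Q = Q) → g = 1
  hnn : ∀ (P : Sylow 5 G) (N : Subgroup G), N.Normal → (P : Subgroup G) ≤ N → N = ⊤
  hcard : ∀ R : Sylow 5 G, Nat.card (R : Subgroup G) = 5

theorem pow_five_of_mem (h : Hyp G) {R : Sylow 5 G} {y : G} (hy : y ∈ R) : y ^ 5 = 1 := by
  have := pow_card_eq_one' (G := (R : Subgroup G)) (x := ⟨y, hy⟩)
  rw [h.hcard R] at this
  exact congrArg Subtype.val this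

/-- a non-identity element of a Sylow subgroup fixes only that subgroup -/
theorem eq_of_fixed_by_gen (h : Hyp G) {R T : Sylow 5 G} {x : G} (hx : x ∈ R) (hx1 : x ≠ 1)
    (hT : x • T = T) : T = R := by
  have h1 : x ∈ T := mem_of_mem_fx (pelt_of_mem_sylow hx) hT
  exact sylow_eq_of_mem_of_card_prime h.hcard hx1 h1 hx

theorem cent_fix {R : Sylow 5 G} {c : G}
    (hc : c ∈ Subgroup.centralizer ((R : Subgroup G) : Set G)) : c • R = R :=
  Sylow.smul_eq_iff_mem_normalizer.mpr (Subgroup.centralizer_le_normalizer _ hc)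

theorem cent_commute {R : Sylow 5 G} {c y : G}
    (hc : c ∈ Subgroup.centralizer ((R : Subgroup G) : Set G)) (hy : y ∈ R) : Commute c y :=
  (hc y hy).symm

theorem exists_gen (h : Hyp G) (R : Sylow 5 G) : ∃ x : G, x ∈ R ∧ x ≠ 1 :=
  Cfsg.Agent.Lib.Helper7.SylCyc.exists_mem_ne_one_of_card_prime R (h.hcard R)

/-- the number of fixed points of an element modulo a prime power order -/
theorem fixed_modEq {q : ℕ} [Fact q.Prime] {c : G} (hc : ∃ k : ℕ, c ^ q ^ k = 1) :
    21 ≡ (fx 5 c).ncard [MOD q] ∨ Nat.card (Sylow 5 G) ≠ 21 := by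
  by_cases hn : Nat.card (Sylow 5 G) = 21
  · left
    have h1 := ncard_modEq_of_invariant (α := Sylow 5 G) c hc Set.univ (fun a _ => Set.mem_univ _)
    rw [Set.ncard_univ, hn, Set.univ_inter] at h1
    exact h1
  · right; exact hn

theorem fixed_modEq' (h : Hyp G) {q : ℕ} [Fact q.Prime] {c : G} (hc : ∃ k : ℕ, c ^ q ^ k = 1) :
    21 ≡ (fx 5 c).ncard [MOD q] := by
  rcases fixed_modEq (q := q) hc with h1 | h1
  · exact h1
  · exact absurd h.hn h1

/-- an element of the centralizer of `R` has `≡ 1 (mod 5)` fixed points -/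
theorem cent_fixed_mod_five (h : Hyp G) {R : Sylow 5 G} {c : G}
    (hc : c ∈ Subgroup.centralizer ((R : Subgroup G) : Set G)) :
    (fx 5 c).ncard ≡ 1 [MOD 5] := by
  obtain ⟨x, hxR, hx1⟩ := exists_gen h R
  have h1 := ncard_modEq_of_invariant (α := Sylow 5 G) (p := 5) x (pelt_of_mem_sylow hxR) (fx 5 c)
    (fun T hT => fx_comm (cent_commute hc hxR) hT)
  have h2 : (fx 5 c ∩ {T | x • T = T}) = {R} := by
    ext T
    constructor
    · rintro ⟨_, hT⟩
      exact eq_of_fixed_by_gen h hxR hx1 hT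
    · intro hT
      rw [Set.mem_singleton_iff] at hT
      rw [hT]
      exact ⟨cent_fix hc, mem_fx_of_mem hxR⟩
  rw [h2, Set.ncard_singleton] at h1
  exact h1

theorem fixed_lt (h : Hyp G) {c : G} (hc1 : c ≠ 1) : (fx 5 c).ncard < 21 := by
  have h2 : (fx 5 c).ncard ≤ 21 := h.hn ▸ Set.ncard_le_card (fx 5 c)
  have h3 : (fx 5 c).ncard ≠ 21 := by
    intro h'
    apply hc1
    apply h.hfaith
    have h4 : fx 5 c = Set.univ :=
      Set.eq_of_subset_of_ncard_le (Set.subset_univ _) (by rw [Set.ncard_univ, h.hn, h'])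
    intro Q
    have : Q ∈ fx 5 c := h4 ▸ Set.mem_univ Q
    exact this
  omega

/-- the possible numbers of fixed points of a non-identity element of `C(R)` -/
theorem cent_fixed_cases (h : Hyp G) {R : Sylow 5 G} {c : G}
    (hc : c ∈ Subgroup.centralizer ((R : Subgroup G) : Set G)) (hc1 : c ≠ 1) :
    (fx 5 c).ncard = 1 ∨ (fx 5 c).ncard = 6 ∨ (fx 5 c).ncard = 11 ∨ (fx 5 c).ncard = 16 := by
  have h1 := cent_fixed_mod_five h hc
  have h2 := fixed_lt h hc1
  unfold Nat.ModEq at h1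
  omega

/-- involutions centralizing `R` fix only `R` -/
theorem cent_involution_fixed (h : Hyp G) {R : Sylow 5 G} {c : G}
    (hc : c ∈ Subgroup.centralizer ((R : Subgroup G) : Set G)) (hc1 : c ≠ 1) (hc2 : c * c = 1) :
    fx 5 c = {R} := by
  have : Fact (Nat.Prime 2) := ⟨Nat.prime_two⟩
  have h1 := cent_fixed_cases h hc hc1
  have h2 := fixed_modEq' (q := 2) h (c := c) ⟨1, by simpa [pow_two] using hc2⟩
  unfold Nat.ModEq at h2
  have h3 : (fx 5 c).ncard = 1 ∨ (fx 5 c).ncard = 11 := by omega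
  rcases h3 with h3 | h3
  · obtain ⟨T, hT⟩ := Set.ncard_eq_one.mp h3
    have h4 : R ∈ fx 5 c := cent_fix hc
    rw [hT, Set.mem_singleton_iff] at h4
    rw [hT, h4]
  · exfalso
    obtain ⟨N, hN, hcN, hodd⟩ := Cfsg.Agent.Lib.Helper7.Syl15.exists_normal_of_involution
      (α := Sylow 5 G) c hc2 5 (by decide) (by
        have : {a : Sylow 5 G | c • a = a} = fx 5 c := rfl
        rw [this, h3, h.hn])
    have hNtop : N = ⊤ := h.hnn R N hN
      (fun y hy => hodd y 5 (by decide) (pow_five_of_mem h hy))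
    exact hcN (hNtop ▸ Subgroup.mem_top _)

/-- elements of order three centralizing `R` fix exactly six points -/
theorem cent_three_fixed (h : Hyp G) {R : Sylow 5 G} {c : G}
    (hc : c ∈ Subgroup.centralizer ((R : Subgroup G) : Set G)) (hc1 : c ≠ 1)
    (hc3 : ∃ k : ℕ, c ^ 3 ^ k = 1) : (fx 5 c).ncard = 6 := by
  have : Fact (Nat.Prime 3) := ⟨Nat.prime_three⟩
  have h1 := cent_fixed_cases h hc hc1
  have h2 := fixed_modEq' (q := 3) h (c := c) hc3
  unfold Nat.ModEq at h2
  omega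

/-- prime orders of elements of `C(R)` -/
theorem cent_prime_order (h : Hyp G) {R : Sylow 5 G} {c : G}
    (hc : c ∈ Subgroup.centralizer ((R : Subgroup G) : Set G)) {q : ℕ} (hq : q.Prime)
    (hcq : orderOf c = q) : q = 2 ∨ q = 3 ∨ q = 5 := by
  have : Fact q.Prime := ⟨hq⟩
  have hc1 : c ≠ 1 := by
    intro h'
    rw [h', orderOf_one] at hcq
    exact hq.one_lt.ne hcq
  have h1 := cent_fixed_cases h hc hc1
  have h2 := fixed_modEq' (q := q) h (c := c) ⟨1, by rw [pow_one, ← hcq]; exact pow_orderOf_eq_one c⟩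
  have h3 : q ∣ 21 - (fx 5 c).ncard :=
    (Nat.modEq_iff_dvd' (by have := fixed_lt h hc1; omega)).mp h2.symm
  have h4 : q ∣ 20 ∨ q ∣ 15 ∨ q ∣ 10 ∨ q ∣ 5 := by
    rcases h1 with h1 | h1 | h1 | h1 <;> rw [h1] at h3 <;> simp at h3 <;> tauto
  have hq20 : q ∣ 20 → q = 2 ∨ q = 3 ∨ q = 5 := by
    intro hd
    have : q ∣ 2 ^ 2 * 5 := by simpa using hd
    rcases (Nat.Prime.dvd_mul hq).mp this with h5 | h5
    · left; exact (Nat.prime_dvd_prime_iff_eq hq Nat.prime_two).mp (hq.dvd_of_dvd_pow h5)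
    · right; right; exact (Nat.prime_dvd_prime_iff_eq hq (by norm_num)).mp h5
  have hq15 : q ∣ 15 → q = 2 ∨ q = 3 ∨ q = 5 := by
    intro hd
    have : q ∣ 3 * 5 := by simpa using hd
    rcases (Nat.Prime.dvd_mul hq).mp this with h5 | h5
    · right; left; exact (Nat.prime_dvd_prime_iff_eq hq Nat.prime_three).mp h5
    · right; right; exact (Nat.prime_dvd_prime_iff_eq hq (by norm_num)).mp h5
  have hq10 : q ∣ 10 → q = 2 ∨ q = 3 ∨ q = 5 := by
    intro hd
    exact hq20 (hd.trans (by norm_num))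
  have hq5 : q ∣ 5 → q = 2 ∨ q = 3 ∨ q = 5 := by
    intro hd
    exact hq20 (hd.trans (by norm_num))
  rcases h4 with h4 | h4 | h4 | h4
  · exact hq20 h4
  · exact hq15 h4
  · exact hq10 h4
  · exact hq5 h4

/-- `5`-elements of `C(R)` lie in `R` -/
theorem cent_five_mem {R : Sylow 5 G} {c : G}
    (hc : c ∈ Subgroup.centralizer ((R : Subgroup G) : Set G)) (hc5 : ∃ k : ℕ, c ^ 5 ^ k = 1) :
    c ∈ R :=
  mem_of_mem_fx hc5 (cent_fix hc)

end One

end Cfsg.Agent.Lib.Helper7.Syl21
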