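import Mathlib
import Cfsg.Agent.Lib.Helper7.Syl21One

set_option autoImplicit false
set_option maxHeartbeats 800000
set_option linter.unusedSectionVars false

/-! `n_5 = 21` with Sylow `5`-subgroups of order `5`: elements of order three in `C(R)`
are determined by two fixed points. -/

namespace Cfsg.Agent.Lib.Helper7.Syl21

open Subgroup MulAction Cfsg.Agent.Lib.Helper7.SylTwoP

universe u

section U

variable {G : Type u} [Group G] [Finite G] [hp : Fact (Nat.Prime 5)]

/-- an element of order dividing three fixing a Sylow subgroup centralizes it -/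
theorem cent_of_fix_three (h : Hyp G) {T : Sylow 5 G} {k : G} (hk3 : k ^ 3 = 1)
    (hT : k • T = T) : k ∈ Subgroup.centralizer ((T : Subgroup G) : Set G) :=
  mem_centralizer_of_coprime T (h.hcard T) (Sylow.smul_eq_iff_mem_normalizer.mp hT) hk3
    (by decide)

theorem fx_subset_fx_pow (c : G) (n : ℕ) : fx 5 c ⊆ fx 5 (c ^ n) := fun _ hQ => fx_pow hQ n

/-- a non-identity element of `C(R)` has one or six fixed points -/
theorem cent_fixed_one_or_six (h : Hyp G) {R : Sylow 5 G} {c : G}
    (hc : c ∈ Subgroup.centralizer ((R : Subgroup G) : Set G)) (hc1 : c ≠ 1) :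
    (fx 5 c).ncard = 1 ∨ (fx 5 c).ncard = 6 := by
  have hn0 : orderOf c ≠ 0 := (orderOf_pos c).ne'
  have hn1 : orderOf c ≠ 1 := by
    intro h'
    exact hc1 (orderOf_eq_one_iff.mp h')
  have hq : (orderOf c).minFac.Prime := Nat.minFac_prime hn1
  have hqd : (orderOf c).minFac ∣ orderOf c := Nat.minFac_dvd _
  set q := (orderOf c).minFac with hqdef
  set c' := c ^ (orderOf c / q) with hc'def
  have hc'o : orderOf c' = q := orderOf_pow_orderOf_div hn0 hqd
  have hc'C : c' ∈ Subgroup.centralizer ((R : Subgroup G) : Set G) := Subgroup.pow_mem _ hc _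
  have hsub : fx 5 c ⊆ fx 5 c' := fx_subset_fx_pow c _
  have hc'1 : c' ≠ 1 := by
    intro h'
    rw [h', orderOf_one] at hc'o
    exact hq.one_lt.ne hc'o
  have hcases := cent_fixed_cases h hc hc1
  have hRmem : R ∈ fx 5 c := cent_fix hc
  have hone : fx 5 c' = {R} → (fx 5 c).ncard = 1 := by
    intro h1
    rw [h1] at hsub
    have h2 : fx 5 c = {R} := by
      apply Set.Subset.antisymm hsub
      intro T hT
      rw [Set.mem_singleton_iff] at hT
      rw [hT]; exact hRmem
    rw [h2, Set.ncard_singleton]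
  rcases cent_prime_order h hc'C hq hc'o with h2 | h3 | h5
  · left
    apply hone
    apply cent_involution_fixed h hc'C hc'1
    rw [← pow_two, ← h2, ← hc'o]
    exact pow_orderOf_eq_one c'
  · have h6 : (fx 5 c').ncard = 6 := by
      apply cent_three_fixed h hc'C hc'1
      exact ⟨1, by rw [pow_one, ← h3, ← hc'o]; exact pow_orderOf_eq_one c'⟩
    have h7 : (fx 5 c).ncard ≤ 6 := h6 ▸ Set.ncard_le_ncard hsub (Set.toFinite _)
    omega
  · left
    apply hone
    have h6 : c' ∈ R := by
      apply cent_five_mem hc'C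
      exact ⟨1, by rw [pow_one, ← h5, ← hc'o]; exact pow_orderOf_eq_one c'⟩
    ext T
    constructor
    · intro hT
      exact eq_of_fixed_by_gen h h6 hc'1 hT
    · intro hT
      rw [Set.mem_singleton_iff] at hT
      rw [hT]
      exact mem_fx_of_mem h6

/-- the subgroup of `C(R)` fixing a second point has order dividing three -/
theorem card_cent_inf_stab (h : Hyp G) {R R' : Sylow 5 G} (hne : R ≠ R') :
    Nat.card ↥(Subgroup.centralizer ((R : Subgroup G) : Set G) ⊓ MulAction.stabilizer G R') ∣ 3 := by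
  classical
  set L := Subgroup.centralizer ((R : Subgroup G) : Set G) ⊓ MulAction.stabilizer G R' with hL
  have := Fintype.ofFinite ↥L
  have hL6 : ∀ c : ↥L, c ≠ 1 → (MulAction.fixedBy (Sylow 5 G) c).ncard = 6 := by
    intro c hc1
    have h0 : MulAction.fixedBy (Sylow 5 G) c = fx 5 (c : G) := rfl
    rw [h0]
    have hcC : (c : G) ∈ Subgroup.centralizer ((R : Subgroup G) : Set G) := c.2.1
    have hcR' : (c : G) • R' = R' := MulAction.mem_stabilizer_iff.mp c.2.2
    have hc1' : (c : G) ≠ 1 := fun h' => hc1 (Subtype.ext h')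
    rcases cent_fixed_one_or_six h hcC hc1' with h1 | h1
    · exfalso
      obtain ⟨T, hT⟩ := Set.ncard_eq_one.mp h1
      have h2 : R ∈ fx 5 (c : G) := cent_fix hcC
      have h3 : R' ∈ fx 5 (c : G) := hcR'
      rw [hT, Set.mem_singleton_iff] at h2 h3
      exact hne (h2.trans h3.symm)
    · exact h1
  have hB := card_dvd_sum_ncard_fixedBy ↥L (Sylow 5 G)
  have hsum : ∑ c : ↥L, (MulAction.fixedBy (Sylow 5 G) c).ncard = 6 * Fintype.card ↥L + 15 := by
    have h1 : ∀ c ∈ (Finset.univ : Finset ↥L), (MulAction.fixedBy (Sylow 5 G) c).ncard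
        = 6 + if c = 1 then 15 else 0 := by
      intro c _
      by_cases hc : c = 1
      · rw [if_pos hc, hc]
        have h0 : MulAction.fixedBy (Sylow 5 G) (1 : ↥L) = Set.univ := by
          ext Q; simp
        rw [h0, Set.ncard_univ, h.hn]
      · rw [if_neg hc, hL6 c hc]
    rw [Finset.sum_congr rfl h1, Finset.sum_add_distrib, Finset.sum_const, Finset.sum_ite_eq']
    simp [mul_comm]
  rw [hsum] at hB
  have h15 : Fintype.card ↥L ∣ 15 := (Nat.dvd_add_right (Dvd.intro_left 6 rfl)).mp hB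
  rw [← Nat.card_eq_fintype_card] at h15
  have h5 : ¬ 5 ∣ Nat.card ↥L := by
    intro hd
    obtain ⟨c, hc⟩ := exists_prime_orderOf_dvd_card' (G := ↥L) 5 hd
    have hcC : (c : G) ∈ Subgroup.centralizer ((R : Subgroup G) : Set G) := c.2.1
    have hcR' : (c : G) • R' = R' := MulAction.mem_stabilizer_iff.mp c.2.2
    have hc5 : (c : G) ^ 5 = 1 := by
      have : c ^ 5 = 1 := by rw [← hc]; exact pow_orderOf_eq_one c
      simpa using congrArg Subtype.val this
    have hc1 : (c : G) ≠ 1 := by
      intro h'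
      have : c = 1 := Subtype.ext h'
      rw [this, orderOf_one] at hc
      norm_num at hc
    have hcR : (c : G) ∈ R := cent_five_mem hcC ⟨1, by rw [pow_one]; exact hc5⟩
    exact hne (eq_of_fixed_by_gen h hcR hc1 hcR').symm
  have hco : Nat.Coprime (Nat.card ↥L) 5 :=
    ((Nat.Prime.coprime_iff_not_dvd (by norm_num)).mpr h5).symm
  exact hco.dvd_of_dvd_mul_right (by simpa using h15)

/-- Claim U: two elements of order three fixing the same two points generate the same group -/
theorem mem_zpowers_of_fix_two (h : Hyp G) {R R' : Sylow 5 G} (hne : R ≠ R') {k k' : G}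
    (hk1 : k ≠ 1) (hk3 : k ^ 3 = 1) (hkR : k • R = R) (hkR' : k • R' = R')
    (hk'3 : k' ^ 3 = 1) (hk'R : k' • R = R) (hk'R' : k' • R' = R') :
    k' ∈ Subgroup.zpowers k := by
  set L := Subgroup.centralizer ((R : Subgroup G) : Set G) ⊓ MulAction.stabilizer G R' with hL
  have hkL : k ∈ L := ⟨cent_of_fix_three h hk3 hkR, MulAction.mem_stabilizer_iff.mpr hkR'⟩
  have hk'L : k' ∈ L := ⟨cent_of_fix_three h hk'3 hk'R, MulAction.mem_stabilizer_iff.mpr hk'R'⟩
  have hd := card_cent_inf_stab h hne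
  rw [← hL] at hd
  have hcard : Nat.card ↥L = 3 := by
    rcases (Nat.dvd_prime Nat.prime_three).mp hd with h1 | h3
    · exfalso
      have hsub : Subsingleton ↥L := (Nat.card_eq_one_iff_unique.mp h1).1
      have : (⟨k, hkL⟩ : ↥L) = 1 := Subsingleton.elim _ _
      exact hk1 (congrArg Subtype.val this)
    · exact h3
  have : Fact (Nat.Prime 3) := ⟨Nat.prime_three⟩
  have h1 := mem_zpowers_of_prime_card (G := ↥L) (p := 3) hcard (g := ⟨k, hkL⟩) (g' := ⟨k', hk'L⟩)
    (by intro h'; exact hk1 (congrArg Subtype.val h'))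
  obtain ⟨j, hj⟩ := h1
  exact ⟨j, by simpa using congrArg Subtype.val hj⟩

/-- two elements of order three with two common fixed points have the same fixed points -/
theorem fx_eq_of_fix_two (h : Hyp G) {R R' : Sylow 5 G} (hne : R ≠ R') {k k' : G}
    (hk1 : k ≠ 1) (hk3 : k ^ 3 = 1) (hkR : k • R = R) (hkR' : k • R' = R')
    (hk'1 : k' ≠ 1) (hk'3 : k' ^ 3 = 1) (hk'R : k' • R = R) (hk'R' : k' • R' = R') :
    fx 5 k = fx 5 k' := by
  apply Set.Subset.antisymm
  · obtain ⟨j, hj⟩ := mem_zpowers_of_fix_two h hne hk1 hk3 hkR hkR' hk'3 hk'R hk'R'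
    intro T hT
    rw [← hj]
    exact fx_zpow hT j
  · obtain ⟨j, hj⟩ := mem_zpowers_of_fix_two h hne hk'1 hk'3 hk'R hk'R' hk3 hkR hkR'
    intro T hT
    rw [← hj]
    exact fx_zpow hT j

/-- the fixed set of an element of order three is empty or has six points -/
theorem ncard_fx_three (h : Hyp G) {k : G} (hk1 : k ≠ 1) (hk3 : k ^ 3 = 1) {T : Sylow 5 G}
    (hT : k • T = T) : (fx 5 k).ncard = 6 :=
  cent_three_fixed h (cent_of_fix_three h hk3 hT) hk1 ⟨1, by rw [pow_one]; exact hk3⟩

theorem mem_fx_conj (g k : G) (T : Sylow 5 G) :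
    T ∈ fx 5 (g * k * g⁻¹) ↔ g⁻¹ • T ∈ fx 5 k := by
  show (g * k * g⁻¹) • T = T ↔ k • g⁻¹ • T = g⁻¹ • T
  rw [mul_smul, mul_smul]
  constructor
  · intro h1
    have := congrArg (fun Q => g⁻¹ • Q) h1
    simpa using this
  · intro h1
    rw [h1, smul_inv_smul]

end U

end Cfsg.Agent.Lib.Helper7.Syl21
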