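import Mathlib
import Cfsg.Agent.Lib.Helper7.Syl21U

set_option autoImplicit false
set_option maxHeartbeats 800000
set_option linter.unusedSectionVars false

/-! `n_5 = 21` with Sylow `5`-subgroups of order `5`: the centralizer of a Sylow subgroup has
no element of order three. -/

namespace Cfsg.Agent.Lib.Helper7.Syl21

open Subgroup MulAction Cfsg.Agent.Lib.Helper7.SylTwoP

universe u

section Blk

variable {G : Type u} [Group G] [Finite G] [hp : Fact (Nat.Prime 5)]

/-- the normalizer of a Sylow subgroup is a maximal subgroup -/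
theorem normalizer_maximal (h : Hyp G) (R : Sylow 5 G) (M : Subgroup G)
    (hM : Subgroup.normalizer ((R : Subgroup G) : Set G) ≤ M) :
    M = Subgroup.normalizer ((R : Subgroup G) : Set G) ∨ M = ⊤ := by
  obtain ⟨x, hxR, hx1⟩ := exists_gen h R
  have hxM : x ∈ M := hM (Subgroup.le_normalizer hxR)
  set S : Set (Sylow 5 G) := MulAction.orbit ↥M R with hS
  have hinv : ∀ a ∈ S, x • a ∈ S := by
    rintro a ⟨m, rfl⟩
    refine ⟨⟨x, hxM⟩ * m, ?_⟩
    show (⟨x, hxM⟩ * m : ↥M) • R = x • (m • R)
    rw [mul_smul]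
    rfl
  have h1 := ncard_modEq_of_invariant (α := Sylow 5 G) (p := 5) x (pelt_of_mem_sylow hxR) S hinv
  have h2 : S ∩ {T | x • T = T} = {R} := by
    ext T
    constructor
    · rintro ⟨_, hT⟩
      exact eq_of_fixed_by_gen h hxR hx1 hT
    · intro hT
      rw [Set.mem_singleton_iff] at hT
      rw [hT]
      exact ⟨MulAction.mem_orbit_self R, mem_fx_of_mem hxR⟩
  rw [h2, Set.ncard_singleton] at h1
  have h3 := MulAction.index_stabilizer ↥M R
  have h4 : MulAction.stabilizer ↥M R
      = (Subgroup.normalizer ((R : Subgroup G) : Set G)).subgroupOf M := by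
    ext m
    rw [MulAction.mem_stabilizer_iff, Subgroup.mem_subgroupOf]
    exact Sylow.smul_eq_iff_mem_normalizer
  rw [h4] at h3
  have h5 := Subgroup.relIndex_mul_index hM
  have h6 : (Subgroup.normalizer ((R : Subgroup G) : Set G)).index = 21 := by
    rw [← h.hn]
    exact (Sylow.card_eq_index_normalizer R).symm
  rw [h6] at h5
  have h7 : (Subgroup.normalizer ((R : Subgroup G) : Set G)).relIndex M = S.ncard := h3
  rw [h7] at h5
  have h8 : S.ncard ≤ 21 := Nat.le_of_dvd (by norm_num) (Dvd.intro _ h5)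
  unfold Nat.ModEq at h1
  have h9 : S.ncard = 1 ∨ S.ncard = 21 := by
    generalize S.ncard = n at *
    generalize M.index = i at *
    interval_cases n <;> omega
  rcases h9 with h9 | h9
  · left
    rw [h9] at h7
    exact le_antisymm (Subgroup.relIndex_eq_one.mp h7) hM
  · right
    rw [h9] at h5
    have : M.index = 1 := by omega
    exact Subgroup.index_eq_one.mp this

/-- the setwise stabilizer of a set of Sylow subgroups -/
def setStab (B : Set (Sylow 5 G)) : Subgroup G where
  carrier := {g | ∀ T, g • T ∈ B ↔ T ∈ B}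
  one_mem' := by intro T; simp
  mul_mem' := by
    intro a b ha hb T
    rw [mul_smul, ha, hb]
  inv_mem' := by
    intro a ha T
    rw [← ha (a⁻¹ • T), smul_inv_smul]

theorem mem_setStab {B : Set (Sylow 5 G)} {g : G} :
    g ∈ setStab B ↔ ∀ T, g • T ∈ B ↔ T ∈ B := Iff.rfl

/-- a non-identity element of order three fixing `R` -/
structure IsK (R : Sylow 5 G) (k : G) : Prop where
  ne : k ≠ 1
  cube : k ^ 3 = 1
  fix : k • R = R

theorem IsK.inv {R : Sylow 5 G} {k : G} (hk : IsK R k) : IsK R k⁻¹ where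
  ne := by
    intro h'
    exact hk.ne (inv_eq_one.mp h')
  cube := by rw [inv_pow, hk.cube, inv_one]
  fix := by
    have := congrArg (fun Q => k⁻¹ • Q) hk.fix
    simpa using this.symm

theorem IsK.conj {R : Sylow 5 G} {k : G} (hk : IsK R k) {n : G} (hn : n • R = R) :
    IsK R (n * k * n⁻¹) where
  ne := by
    intro h'
    apply hk.ne
    have : k = n⁻¹ * (n * k * n⁻¹) * n := by group
    rw [this, h']
    group
  cube := by
    have : (n * k * n⁻¹) ^ 3 = n * k ^ 3 * n⁻¹ := by
      simp [pow_succ, mul_assoc]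
    rw [this, hk.cube]
    group
  fix := by
    have hn' : n⁻¹ • R = R := by
      have := congrArg (fun Q => n⁻¹ • Q) hn
      simpa using this.symm
    rw [mul_smul, mul_smul, hn', hk.fix, hn]

theorem fx_inv (k : G) : fx 5 k⁻¹ = fx 5 k := by
  ext T
  show k⁻¹ • T = T ↔ k • T = T
  constructor
  · intro h1
    have := congrArg (fun Q => k • Q) h1
    simpa using this.symm
  · intro h1
    have := congrArg (fun Q => k⁻¹ • Q) h1
    simpa using this.symm

theorem mem_fx_conj' (g k : G) (T : Sylow 5 G) :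
    T ∈ fx 5 (g⁻¹ * k * g) ↔ g • T ∈ fx 5 k := by
  have := mem_fx_conj g⁻¹ k T
  rwa [inv_inv] at this

theorem smul_mem_fx_self (k : G) (T : Sylow 5 G) : k • T ∈ fx 5 k ↔ T ∈ fx 5 k := by
  show k • k • T = k • T ↔ k • T = T
  constructor
  · intro h1
    exact smul_left_cancel k h1
  · intro h1
    rw [h1]
    exact h1

theorem IsK.ncard {R : Sylow 5 G} {k : G} (h : Hyp G) (hk : IsK R k) : (fx 5 k).ncard = 6 :=
  ncard_fx_three h hk.ne hk.cube hk.fix

/-- two distinct blocks through `R` meet only in `R` -/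
theorem IsK.inter {R : Sylow 5 G} {k k' : G} (h : Hyp G) (hk : IsK R k) (hk' : IsK R k')
    (hne : fx 5 k ≠ fx 5 k') {T : Sylow 5 G} (hT : T ∈ fx 5 k) (hT' : T ∈ fx 5 k') : T = R := by
  by_contra hTR
  exact hne (fx_eq_of_fix_two h (R := R) (R' := T) (fun h' => hTR h'.symm) hk.ne hk.cube hk.fix hT
    hk'.ne hk'.cube hk'.fix hT')

/-- a block through `R` is not invariant under an element of order three of `C(R)` with a
different block -/
theorem IsK.not_invariant {R : Sylow 5 G} {k k' : G} (h : Hyp G) (hk : IsK R k) (hk' : IsK R k')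
    (hne : fx 5 k ≠ fx 5 k') : ¬ (∀ T ∈ fx 5 k', k • T ∈ fx 5 k') := by
  intro hinv
  have : Fact (Nat.Prime 3) := ⟨Nat.prime_three⟩
  have h1 := ncard_modEq_of_invariant (α := Sylow 5 G) (p := 3) k
    ⟨1, by rw [pow_one]; exact hk.cube⟩ (fx 5 k') hinv
  have h2 : fx 5 k' ∩ {T | k • T = T} = {R} := by
    ext T
    constructor
    · rintro ⟨hT', hT⟩
      exact hk.inter h hk' hne hT hT'
    · intro hT
      rw [Set.mem_singleton_iff] at hT
      rw [hT]
      exact ⟨hk'.fix, hk.fix⟩
  rw [h2, Set.ncard_singleton, hk'.ncard h] at h1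
  unfold Nat.ModEq at h1
  omega

end Blk

end Cfsg.Agent.Lib.Helper7.Syl21
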