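import Mathlib
import Cfsg.Agent.Lib.Helper7.Syl21Blk

set_option autoImplicit false
set_option maxHeartbeats 800000
set_option linter.unusedSectionVars false

/-! `n_5 = 21` with Sylow `5`-subgroups of order `5`: the centralizer of a Sylow subgroup has
no element of order three (the two cases). -/

namespace Cfsg.Agent.Lib.Helper7.Syl21

open Subgroup MulAction Cfsg.Agent.Lib.Helper7.SylTwoP

universe u

section Blk2

variable {G : Type u} [Group G] [Finite G] [hp : Fact (Nat.Prime 5)]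

theorem exists_mem_ne_of_isK (h : Hyp G) {R : Sylow 5 G} {k : G} (hk : IsK R k) :
    ∃ R' ∈ fx 5 k, R' ≠ R := by
  have h6 := hk.ncard h
  by_contra hcon
  push Not at hcon
  have h1 : fx 5 k ⊆ {R} := fun T hT => hcon T hT
  have h2 := Set.ncard_le_ncard h1 (Set.toFinite _)
  rw [Set.ncard_singleton] at h2
  omega

/-- Case A: only one block through `R`. -/
theorem caseA (h : Hyp G) {R : Sylow 5 G} {k : G} (hk : IsK R k)
    (hA : ∀ k', IsK R k' → fx 5 k' = fx 5 k) : False := by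
  obtain ⟨R', hR', hne⟩ := exists_mem_ne_of_isK h hk
  obtain ⟨x', hx'R', hx'1⟩ := exists_gen h R'
  have hkC' : k ∈ Subgroup.centralizer ((R' : Subgroup G) : Set G) :=
    cent_of_fix_three h hk.cube hR'
  have hcomm : Commute k x' := cent_commute hkC' hx'R'
  have hNM : Subgroup.normalizer ((R : Subgroup G) : Set G) ≤ setStab (fx 5 k) := by
    intro n hn T
    have hnR : n • R = R := Sylow.smul_eq_iff_mem_normalizer.mpr hn
    have hn'R : n⁻¹ • R = R := by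
      have := congrArg (fun Q => n⁻¹ • Q) hnR
      simpa using this.symm
    rw [← mem_fx_conj' n k T]
    have h1 : IsK R (n⁻¹ * k * n) := by simpa using hk.conj hn'R
    rw [hA _ h1]
  have hx'M : x' ∈ setStab (fx 5 k) := by
    intro T
    rw [← mem_fx_conj' x' k T]
    have : x'⁻¹ * k * x' = k := by
      rw [mul_assoc, hcomm.eq, ← mul_assoc, inv_mul_cancel, one_mul]
    rw [this]
  rcases normalizer_maximal h R _ hNM with hM | hM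
  · have h1 : x' ∈ Subgroup.normalizer ((R : Subgroup G) : Set G) := hM ▸ hx'M
    have h2 : x' • R = R := Sylow.smul_eq_iff_mem_normalizer.mpr h1
    exact hne (eq_of_fixed_by_gen h hx'R' hx'1 h2).symm
  · apply hk.ne
    apply h.hfaith
    intro Q
    obtain ⟨g, hg⟩ := MulAction.exists_smul_eq G R Q
    have hgM : g ∈ setStab (fx 5 k) := hM ▸ Subgroup.mem_top g
    have h1 := (hgM R).mpr hk.fix
    rw [hg] at h1
    exact h1

/-- Case B: at least two blocks through `R`. -/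
theorem caseB (h : Hyp G) {R : Sylow 5 G} {k₁ k₂ : G} (hk₁ : IsK R k₁) (hk₂ : IsK R k₂)
    (hne : fx 5 k₁ ≠ fx 5 k₂) : False := by
  have hk₃ : IsK R (k₁ * k₂ * k₁⁻¹) := hk₂.conj hk₁.fix
  have hk₄ : IsK R (k₁⁻¹ * k₂ * k₁) := by simpa using hk₂.conj hk₁.inv.fix
  have m3 : ∀ T, T ∈ fx 5 (k₁ * k₂ * k₁⁻¹) ↔ k₁⁻¹ • T ∈ fx 5 k₂ := mem_fx_conj k₁ k₂
  have m4 : ∀ T, T ∈ fx 5 (k₁⁻¹ * k₂ * k₁) ↔ k₁ • T ∈ fx 5 k₂ := mem_fx_conj' k₁ k₂
  have hinv1 := hk₁.not_invariant h hk₂ hne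
  have hinv2 := hk₁.inv.not_invariant h hk₂ (by rw [fx_inv]; exact hne)
  have h13 : fx 5 k₁ ≠ fx 5 (k₁ * k₂ * k₁⁻¹) := by
    intro h'
    apply hne
    ext T
    rw [← smul_mem_fx_self k₁ T, h', m3, inv_smul_smul]
  have h14 : fx 5 k₁ ≠ fx 5 (k₁⁻¹ * k₂ * k₁) := by
    intro h'
    apply hne
    ext T
    rw [← fx_inv k₁, ← smul_mem_fx_self k₁⁻¹ T, fx_inv, h', m4, smul_inv_smul]
  have h23 : fx 5 k₂ ≠ fx 5 (k₁ * k₂ * k₁⁻¹) := by
    intro h'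
    apply hinv2
    intro T hT
    rw [h', m3] at hT
    exact hT
  have h24 : fx 5 k₂ ≠ fx 5 (k₁⁻¹ * k₂ * k₁) := by
    intro h'
    apply hinv1
    intro T hT
    rw [h', m4] at hT
    exact hT
  have hsq : k₁⁻¹ * k₁⁻¹ = k₁ := by
    calc k₁⁻¹ * k₁⁻¹ = k₁⁻¹ * k₁⁻¹ * k₁ ^ 3 := by rw [hk₁.cube, mul_one]
      _ = k₁ := by rw [pow_succ, pow_two]; group
  have h34 : fx 5 (k₁ * k₂ * k₁⁻¹) ≠ fx 5 (k₁⁻¹ * k₂ * k₁) := by
    intro h'
    apply hinv1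
    intro T hT
    have h1 : k₁⁻¹ • T ∈ fx 5 (k₁ * k₂ * k₁⁻¹) ↔ k₁⁻¹ • T ∈ fx 5 (k₁⁻¹ * k₂ * k₁) := by rw [h']
    rw [m3, m4, smul_inv_smul, ← mul_smul, hsq] at h1
    exact h1.mpr hT
  -- the four blocks
  set B₁ := fx 5 k₁ with hB₁
  set B₂ := fx 5 k₂ with hB₂
  set B₃ := fx 5 (k₁ * k₂ * k₁⁻¹) with hB₃
  set B₄ := fx 5 (k₁⁻¹ * k₂ * k₁) with hB₄
  have c1 : B₁.ncard = 6 := hk₁.ncard h
  have c2 : B₂.ncard = 6 := hk₂.ncard h
  have c3 : B₃.ncard = 6 := hk₃.ncard h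
  have c4 : B₄.ncard = 6 := hk₄.ncard h
  have r1 : R ∈ B₁ := hk₁.fix
  have r2 : R ∈ B₂ := hk₂.fix
  have r3 : R ∈ B₃ := hk₃.fix
  have r4 : R ∈ B₄ := hk₄.fix
  have i12 : ∀ T, T ∈ B₁ → T ∈ B₂ → T = R := fun T => hk₁.inter h hk₂ hne
  have i13 : ∀ T, T ∈ B₁ → T ∈ B₃ → T = R := fun T => hk₁.inter h hk₃ h13
  have i14 : ∀ T, T ∈ B₁ → T ∈ B₄ → T = R := fun T => hk₁.inter h hk₄ h14
  have i23 : ∀ T, T ∈ B₂ → T ∈ B₃ → T = R := fun T => hk₂.inter h hk₃ h23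
  have i24 : ∀ T, T ∈ B₂ → T ∈ B₄ → T = R := fun T => hk₂.inter h hk₄ h24
  have i34 : ∀ T, T ∈ B₃ → T ∈ B₄ → T = R := fun T => hk₃.inter h hk₄ h34
  have d2 : (B₂ \ {R}).ncard = 5 := by rw [Set.ncard_diff_singleton_of_mem r2, c2]
  have d3 : (B₃ \ {R}).ncard = 5 := by rw [Set.ncard_diff_singleton_of_mem r3, c3]
  have d4 : (B₄ \ {R}).ncard = 5 := by rw [Set.ncard_diff_singleton_of_mem r4, c4]
  have u2 : (B₁ ∪ B₂ \ {R}).ncard = 11 := by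
    rw [Set.ncard_union_eq, c1, d2]
    rw [Set.disjoint_left]
    rintro T hT ⟨hT2, hTR⟩
    exact hTR (i12 T hT hT2)
  have u3 : (B₁ ∪ B₂ \ {R} ∪ B₃ \ {R}).ncard = 16 := by
    rw [Set.ncard_union_eq, u2, d3]
    rw [Set.disjoint_left]
    rintro T (hT | ⟨hT, -⟩) ⟨hT3, hTR⟩
    · exact hTR (i13 T hT hT3)
    · exact hTR (i23 T hT hT3)
  have u4 : (B₁ ∪ B₂ \ {R} ∪ B₃ \ {R} ∪ B₄ \ {R}).ncard = 21 := by
    rw [Set.ncard_union_eq, u3, d4]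
    rw [Set.disjoint_left]
    rintro T ((hT | ⟨hT, -⟩) | ⟨hT, -⟩) ⟨hT4, hTR⟩
    · exact hTR (i14 T hT hT4)
    · exact hTR (i24 T hT hT4)
    · exact hTR (i34 T hT hT4)
  have hcover : B₁ ∪ B₂ \ {R} ∪ B₃ \ {R} ∪ B₄ \ {R} = Set.univ :=
    Set.eq_of_subset_of_ncard_le (Set.subset_univ _) (by rw [Set.ncard_univ, h.hn, u4])
      (Set.toFinite _)
  have hcov : ∀ T : Sylow 5 G, T ∈ B₁ ∨ T ∈ B₂ ∨ T ∈ B₃ ∨ T ∈ B₄ := by
    intro T
    have : T ∈ B₁ ∪ B₂ \ {R} ∪ B₃ \ {R} ∪ B₄ \ {R} := hcover ▸ Set.mem_univ T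
    rcases this with ((hT | ⟨hT, -⟩) | ⟨hT, -⟩) | ⟨hT, -⟩
    · exact Or.inl hT
    · exact Or.inr (Or.inl hT)
    · exact Or.inr (Or.inr (Or.inl hT))
    · exact Or.inr (Or.inr (Or.inr hT))
  obtain ⟨T₀, hT₀⟩ : ∃ T₀ : Sylow 5 G, T₀ ∉ B₁ := by
    by_contra hcon
    push Not at hcon
    have : B₁ = Set.univ := Set.eq_univ_of_forall hcon
    rw [this, Set.ncard_univ, h.hn] at c1
    omega
  obtain ⟨g, hg⟩ := MulAction.exists_smul_eq G T₀ R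
  have m' : ∀ T, T ∈ fx 5 (g * k₁ * g⁻¹) ↔ g⁻¹ • T ∈ B₁ := mem_fx_conj g k₁
  have hRk' : R ∉ fx 5 (g * k₁ * g⁻¹) := by
    rw [m', ← hg, inv_smul_smul]
    exact hT₀
  have hk'1 : g * k₁ * g⁻¹ ≠ 1 := by
    rw [Ne, conj_eq_one_iff]
    exact hk₁.ne
  have hk'3 : (g * k₁ * g⁻¹) ^ 3 = 1 := by
    rw [conj_pow, hk₁.cube, mul_one, mul_inv_cancel]
  have hgR : g • R ∈ fx 5 (g * k₁ * g⁻¹) := by
    rw [m', inv_smul_smul]
    exact r1
  have c' : (fx 5 (g * k₁ * g⁻¹)).ncard = 6 := ncard_fx_three h hk'1 hk'3 hgR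
  have hle : ∀ {k : G}, IsK R k → (fx 5 (g * k₁ * g⁻¹) ∩ fx 5 k).ncard ≤ 1 := by
    intro k hk
    rw [Set.ncard_le_one_iff]
    rintro T₁ T₂ ⟨h1', h1⟩ ⟨h2', h2⟩
    by_contra hne12
    have h3 := fx_eq_of_fix_two h (R := T₁) (R' := T₂) hne12 hk.ne hk.cube h1 h2 hk'1 hk'3 h1' h2'
    exact hRk' (h3 ▸ hk.fix)
  have hsub : fx 5 (g * k₁ * g⁻¹) ⊆ (fx 5 (g * k₁ * g⁻¹) ∩ B₁) ∪ (fx 5 (g * k₁ * g⁻¹) ∩ B₂)
      ∪ (fx 5 (g * k₁ * g⁻¹) ∩ B₃) ∪ (fx 5 (g * k₁ * g⁻¹) ∩ B₄) := by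
    intro T hT
    rcases hcov T with h1 | h1 | h1 | h1
    · exact Or.inl (Or.inl (Or.inl ⟨hT, h1⟩))
    · exact Or.inl (Or.inl (Or.inr ⟨hT, h1⟩))
    · exact Or.inl (Or.inr ⟨hT, h1⟩)
    · exact Or.inr ⟨hT, h1⟩
  have e0 := Set.ncard_le_ncard hsub (Set.toFinite _)
  have e1 := Set.ncard_union_le ((fx 5 (g * k₁ * g⁻¹) ∩ B₁) ∪ (fx 5 (g * k₁ * g⁻¹) ∩ B₂)
      ∪ (fx 5 (g * k₁ * g⁻¹) ∩ B₃)) (fx 5 (g * k₁ * g⁻¹) ∩ B₄)
  have e2 := Set.ncard_union_le ((fx 5 (g * k₁ * g⁻¹) ∩ B₁) ∪ (fx 5 (g * k₁ * g⁻¹) ∩ B₂))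
      (fx 5 (g * k₁ * g⁻¹) ∩ B₃)
  have e3 := Set.ncard_union_le (fx 5 (g * k₁ * g⁻¹) ∩ B₁) (fx 5 (g * k₁ * g⁻¹) ∩ B₂)
  have f1 : (fx 5 (g * k₁ * g⁻¹) ∩ B₁).ncard ≤ 1 := hle hk₁
  have f2 : (fx 5 (g * k₁ * g⁻¹) ∩ B₂).ncard ≤ 1 := hle hk₂
  have f3 : (fx 5 (g * k₁ * g⁻¹) ∩ B₃).ncard ≤ 1 := hle hk₃
  have f4 : (fx 5 (g * k₁ * g⁻¹) ∩ B₄).ncard ≤ 1 := hle hk₄
  omega

/-- the centralizer of a Sylow subgroup has no element of order three -/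
theorem no_three (h : Hyp G) {R : Sylow 5 G} {k : G}
    (hkC : k ∈ Subgroup.centralizer ((R : Subgroup G) : Set G)) (hk3 : k ^ 3 = 1) : k = 1 := by
  by_contra hk1
  have hk : IsK R k := ⟨hk1, hk3, cent_fix hkC⟩
  by_cases hA : ∀ k', IsK R k' → fx 5 k' = fx 5 k
  · exact caseA h hk hA
  · push Not at hA
    obtain ⟨k', hk', hne⟩ := hA
    exact caseB h hk hk' (fun h' => hne h'.symm)

/-- a non-identity element of `C(R)` fixes only `R` -/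
theorem cent_fx_eq (h : Hyp G) {R : Sylow 5 G} {c : G}
    (hc : c ∈ Subgroup.centralizer ((R : Subgroup G) : Set G)) (hc1 : c ≠ 1) :
    fx 5 c = {R} := by
  have hn0 : orderOf c ≠ 0 := (orderOf_pos c).ne'
  have hn1 : orderOf c ≠ 1 := by
    intro h'
    exact hc1 (orderOf_eq_one_iff.mp h')
  have hq : (orderOf c).minFac.Prime := Nat.minFac_prime hn1
  have hqd : (orderOf c).minFac ∣ orderOf c := Nat.minFac_dvd _
  set q := (orderOf c).minFac with hqdef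
  set c' := c ^ (orderOf c / q) with hc'def
  have hc'o : orderOf c' = q := orderOf_pow_orderOf_div hn0 hqd
  have hc'C : c' ∈ Subgroup.centralizer ((R : Subgroup G) : Set G) := Subgroup.pow_mem _ hc _
  have hsub : fx 5 c ⊆ fx 5 c' := fx_subset_fx_pow c _
  have hc'1 : c' ≠ 1 := by
    intro h'
    rw [h', orderOf_one] at hc'o
    exact hq.one_lt.ne hc'o
  have hRmem : R ∈ fx 5 c := cent_fix hc
  have hone : fx 5 c' = {R} → fx 5 c = {R} := by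
    intro h1
    rw [h1] at hsub
    apply Set.Subset.antisymm hsub
    intro T hT
    rw [Set.mem_singleton_iff] at hT
    rw [hT]; exact hRmem
  rcases cent_prime_order h hc'C hq hc'o with h2 | h3 | h5
  · apply hone
    apply cent_involution_fixed h hc'C hc'1
    rw [← pow_two, ← h2, ← hc'o]
    exact pow_orderOf_eq_one c'
  · exfalso
    apply hc'1
    apply no_three h hc'C
    rw [← h3, ← hc'o]
    exact pow_orderOf_eq_one c'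
  · apply hone
    have h6 : c' ∈ R := by
      apply cent_five_mem hc'C
      exact ⟨1, by rw [pow_one, ← h5, ← hc'o]; exact pow_orderOf_eq_one c'⟩
    ext T
    constructor
    · intro hT
      exact eq_of_fixed_by_gen h h6 hc'1 hT
    · intro hT
      rw [Set.mem_singleton_iff] at hT
      rw [hT]
      exact mem_fx_of_mem h6

end Blk2

end Cfsg.Agent.Lib.Helper7.Syl21
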