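import Mathlib
import Cfsg.Agent.Lib.Helper7.Syl21Gen

set_option autoImplicit false
set_option maxHeartbeats 800000
set_option linter.unusedSectionVars false

/-! A second-moment (Bonferroni) bound for the number of elements of a transitive permutation
group having a fixed point. -/

namespace Cfsg.Agent.Lib.Helper7.Syl21

open Subgroup MulAction

section Mom

/-- If two-point stabilizers have at most `d` elements, then at least `|G| - n(n-1)d/2` elements
have a fixed point. -/
theorem two_mul_card_le {G α : Type*} [Group G] [MulAction G α] [Finite G] [Finite α]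
    [MulAction.IsPretransitive G α] [Nonempty α] (d : ℕ)
    (hd : ∀ a b : α, a ≠ b →
      Nat.card ↥(MulAction.stabilizer G a ⊓ MulAction.stabilizer G b) ≤ d) :
    2 * Nat.card G ≤ 2 * {g : G | ∃ a : α, g • a = a}.ncard
      + Nat.card α * (Nat.card α - 1) * d := by
  classical
  have := Fintype.ofFinite G
  have := Fintype.ofFinite α
  rw [Nat.card_eq_fintype_card (α := α), Nat.card_eq_fintype_card (α := G)]
  set n := Fintype.card α with hn
  let χ : G → α → ℕ := fun g a => if g • a = a then 1 else 0
  let f : G → ℕ := fun g => ∑ a, χ g a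
  have hfc : ∀ g, f g = (Finset.univ.filter (fun a : α => g • a = a)).card := by
    intro g
    show ∑ a, (if g • a = a then 1 else 0) = _
    rw [← Finset.card_filter]
  have hf : ∀ g, f g = (MulAction.fixedBy α g).ncard := by
    intro g
    rw [hfc, Set.ncard_eq_toFinset_card']
    congr 1
    ext a
    simp [MulAction.mem_fixedBy]
  have hS1 : ∑ g, f g = Fintype.card G := by
    rw [← sum_ncard_fixedBy_of_transitive G α]
    exact Finset.sum_congr rfl (fun g _ => hf g)
  let T : α → α → ℕ := fun a b => ∑ g, χ g a * χ g b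
  have hS2 : ∑ g, (f g) ^ 2 = ∑ a, ∑ b, T a b := by
    have h1 : ∀ g, (f g) ^ 2 = ∑ a, ∑ b, χ g a * χ g b := by
      intro g
      rw [pow_two]
      exact Finset.sum_mul_sum _ _ _ _
    rw [Finset.sum_congr rfl (fun g _ => h1 g), Finset.sum_comm]
    apply Finset.sum_congr rfl
    intro a _
    rw [Finset.sum_comm]
  have hTaa : ∀ a, T a a = ∑ g, χ g a := by
    intro a
    apply Finset.sum_congr rfl
    intro g _
    show (if g • a = a then 1 else 0) * (if g • a = a then 1 else 0) = (if g • a = a then 1 else 0)
    split_ifs <;> simp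
  have hdiag : ∑ a, T a a = Fintype.card G := by
    rw [Finset.sum_congr rfl (fun a _ => hTaa a), Finset.sum_comm]
    exact hS1
  have hTab : ∀ a b, a ≠ b → T a b ≤ d := by
    intro a b hab
    have h1 : T a b = Nat.card ↥(MulAction.stabilizer G a ⊓ MulAction.stabilizer G b) := by
      rw [Nat.card_eq_fintype_card,
        Fintype.card_of_subtype (Finset.univ.filter (fun g : G => g • a = a ∧ g • b = b))]
      · rw [Finset.card_filter]
        apply Finset.sum_congr rfl
        intro g _
        show (if g • a = a then 1 else 0) * (if g • b = b then 1 else 0) = _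
        by_cases h1 : g • a = a <;> by_cases h2 : g • b = b <;> simp [h1, h2]
      · intro g
        simp [Subgroup.mem_inf, MulAction.mem_stabilizer_iff]
    rw [h1]
    exact hd a b hab
  have hS2le : ∑ a, ∑ b, T a b ≤ Fintype.card G + n * (n - 1) * d := by
    have h1 : ∀ a ∈ (Finset.univ : Finset α), ∑ b, T a b ≤ T a a + (n - 1) * d := by
      intro a _
      rw [← Finset.add_sum_erase Finset.univ (T a) (Finset.mem_univ a)]
      apply Nat.add_le_add_left
      have h2 := Finset.sum_le_card_nsmul (Finset.univ.erase a) (T a) d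
        (fun b hb => hTab a b (Finset.ne_of_mem_erase hb).symm)
      rw [Finset.card_erase_of_mem (Finset.mem_univ a), Finset.card_univ, smul_eq_mul] at h2
      exact h2
    calc ∑ a, ∑ b, T a b ≤ ∑ a, (T a a + (n - 1) * d) := Finset.sum_le_sum h1
      _ = Fintype.card G + n * (n - 1) * d := by
        rw [Finset.sum_add_distrib, hdiag, Finset.sum_const, Finset.card_univ, smul_eq_mul,
          mul_assoc]
  have hpt : ∀ g, 3 * f g ≤ 2 * (if 1 ≤ f g then 1 else 0) + (f g) ^ 2 := by
    intro g
    rcases Nat.lt_or_ge (f g) 1 with h0 | h1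
    · have h2 : f g = 0 := by omega
      rw [h2]
      simp
    · rw [if_pos h1]
      obtain ⟨m, hm⟩ : ∃ m, f g = m + 1 := ⟨f g - 1, by omega⟩
      rw [hm]
      nlinarith [Nat.le_mul_self m]
  have hsum : 3 * ∑ g, f g ≤ 2 * ∑ g, (if 1 ≤ f g then 1 else 0) + ∑ g, (f g) ^ 2 := by
    rw [Finset.mul_sum, Finset.mul_sum, ← Finset.sum_add_distrib]
    exact Finset.sum_le_sum (fun g _ => hpt g)
  have hX : ∑ g, (if 1 ≤ f g then 1 else 0) = {g : G | ∃ a : α, g • a = a}.ncard := by
    rw [← Finset.card_filter, Set.ncard_eq_toFinset_card']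
    congr 1
    ext g
    simp only [Finset.mem_filter, Finset.mem_univ, true_and, Set.mem_toFinset, Set.mem_setOf_eq]
    rw [hfc, Nat.succ_le_iff, Finset.card_pos]
    constructor
    · rintro ⟨a, ha⟩
      exact ⟨a, (Finset.mem_filter.mp ha).2⟩
    · rintro ⟨a, ha⟩
      exact ⟨a, Finset.mem_filter.mpr ⟨Finset.mem_univ a, ha⟩⟩
  rw [hS1, hX, hS2] at hsum
  omega

end Mom

end Cfsg.Agent.Lib.Helper7.Syl21
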