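import Mathlib
import Cfsg.Agent.Lib.Helper7.Syl21Blk2

set_option autoImplicit false
set_option maxHeartbeats 800000
set_option linter.unusedSectionVars false

/-! `n_5 = 21` with Sylow `5`-subgroups of order `5`: the order of the group. -/

namespace Cfsg.Agent.Lib.Helper7.Syl21

open Subgroup MulAction Cfsg.Agent.Lib.Helper7.SylTwoP

universe u

section Ord

variable {G : Type u} [Group G] [Finite G] [hp : Fact (Nat.Prime 5)]

/-- the centralizer of a Sylow subgroup acts semiregularly on the other twenty points -/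
theorem card_centralizer_dvd (h : Hyp G) (R : Sylow 5 G) :
    Nat.card ↥(Subgroup.centralizer ((R : Subgroup G) : Set G)) ∣ 20 := by
  classical
  set L := Subgroup.centralizer ((R : Subgroup G) : Set G) with hL
  have := Fintype.ofFinite ↥L
  have hL1 : ∀ c : ↥L, c ≠ 1 → (MulAction.fixedBy (Sylow 5 G) c).ncard = 1 := by
    intro c hc1
    have h0 : MulAction.fixedBy (Sylow 5 G) c = fx 5 (c : G) := rfl
    rw [h0, cent_fx_eq h c.2 (fun h' => hc1 (Subtype.ext h')), Set.ncard_singleton]
  have hB := card_dvd_sum_ncard_fixedBy ↥L (Sylow 5 G)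
  have hsum : ∑ c : ↥L, (MulAction.fixedBy (Sylow 5 G) c).ncard = Fintype.card ↥L + 20 := by
    have h1 : ∀ c ∈ (Finset.univ : Finset ↥L), (MulAction.fixedBy (Sylow 5 G) c).ncard
        = 1 + if c = 1 then 20 else 0 := by
      intro c _
      by_cases hc : c = 1
      · rw [if_pos hc, hc]
        have h0 : MulAction.fixedBy (Sylow 5 G) (1 : ↥L) = Set.univ := by
          ext Q; simp
        rw [h0, Set.ncard_univ, h.hn]
      · rw [if_neg hc, hL1 c hc]
    rw [Finset.sum_congr rfl h1, Finset.sum_add_distrib, Finset.sum_const, Finset.sum_ite_eq']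
    simp
  rw [hsum] at hB
  have h20 : Fintype.card ↥L ∣ 20 := (Nat.dvd_add_right (dvd_refl _)).mp hB
  rw [← Nat.card_eq_fintype_card] at h20
  exact h20

theorem card_normalizer_eq (R : Sylow 5 G) :
    Nat.card ↥(Subgroup.normalizer ((R : Subgroup G) : Set G))
      = Nat.card ↥(Subgroup.centralizer ((R : Subgroup G) : Set G))
        * (Subgroup.centralizer ((R : Subgroup G) : Set G)).relIndex
          (Subgroup.normalizer ((R : Subgroup G) : Set G)) := by
  have h1 := Subgroup.relIndex_mul_relIndex ⊥ (Subgroup.centralizer ((R : Subgroup G) : Set G))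
    (Subgroup.normalizer ((R : Subgroup G) : Set G)) bot_le
    (Subgroup.centralizer_le_normalizer _)
  rw [Subgroup.relIndex_bot_left, Subgroup.relIndex_bot_left] at h1
  exact h1.symm

theorem relIndex_dvd_four (h : Hyp G) (R : Sylow 5 G) :
    (Subgroup.centralizer ((R : Subgroup G) : Set G)).relIndex
      (Subgroup.normalizer ((R : Subgroup G) : Set G)) ∣ 4 :=
  Cfsg.Agent.Lib.Helper1.relIndex_centralizer_normalizer_dvd R (h.hcard R)

theorem card_normalizer_dvd (h : Hyp G) (R : Sylow 5 G) :
    Nat.card ↥(Subgroup.normalizer ((R : Subgroup G) : Set G)) ∣ 80 := by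
  rw [card_normalizer_eq R]
  exact Nat.mul_dvd_mul (card_centralizer_dvd h R) (relIndex_dvd_four h R)

theorem card_eq_mul (h : Hyp G) (R : Sylow 5 G) :
    Nat.card G = 21 * Nat.card ↥(Subgroup.normalizer ((R : Subgroup G) : Set G)) := by
  have h1 := Subgroup.card_mul_index (Subgroup.normalizer ((R : Subgroup G) : Set G))
  have h6 : (Subgroup.normalizer ((R : Subgroup G) : Set G)).index = 21 := by
    rw [← h.hn]
    exact (Sylow.card_eq_index_normalizer R).symm
  rw [h6] at h1
  omega

theorem card_dvd (h : Hyp G) : Nat.card G ∣ 1680 := by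
  obtain ⟨R⟩ : Nonempty (Sylow 5 G) := inferInstance
  rw [card_eq_mul h R]
  exact Nat.mul_dvd_mul (dvd_refl 21) (card_normalizer_dvd h R)

theorem dvd_card (h : Hyp G) : 21 ∣ Nat.card G := by
  obtain ⟨R⟩ : Nonempty (Sylow 5 G) := inferInstance
  rw [card_eq_mul h R]
  exact Dvd.intro _ rfl

/-- an element with a fixed point has order dividing `80` -/
theorem pow_eq_one_of_fix (h : Hyp G) {g : G} {T : Sylow 5 G} (hT : g • T = T) : g ^ 80 = 1 := by
  have hg : g ∈ Subgroup.normalizer ((T : Subgroup G) : Set G) :=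
    Sylow.smul_eq_iff_mem_normalizer.mp hT
  have h1 := pow_card_eq_one' (G := ↥(Subgroup.normalizer ((T : Subgroup G) : Set G))) (x := ⟨g, hg⟩)
  obtain ⟨m, hm⟩ := card_normalizer_dvd h T
  have h2 : (⟨g, hg⟩ : ↥(Subgroup.normalizer ((T : Subgroup G) : Set G))) ^ 80 = 1 := by
    rw [hm, pow_mul, h1, one_pow]
  exact congrArg Subtype.val h2

/-- two point stabilizers meet in at most four elements -/
theorem card_stab_inf_le (h : Hyp G) {R R' : Sylow 5 G} (hne : R ≠ R') :
    Nat.card ↥(MulAction.stabilizer G R ⊓ MulAction.stabilizer G R') ≤ 4 := by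
  set K := MulAction.stabilizer G R ⊓ MulAction.stabilizer G R' with hK
  set C := Subgroup.centralizer ((R : Subgroup G) : Set G) with hC
  set N := Subgroup.normalizer ((R : Subgroup G) : Set G) with hN
  have hKN : K ≤ N := by
    intro g hg
    exact Sylow.smul_eq_iff_mem_normalizer.mp (MulAction.mem_stabilizer_iff.mp hg.1)
  have hCK : C ⊓ K = ⊥ := by
    rw [eq_bot_iff]
    intro c hc
    rw [Subgroup.mem_bot]
    by_contra hc1
    have h1 := cent_fx_eq h hc.1 hc1
    have h2 : R' ∈ fx 5 c := MulAction.mem_stabilizer_iff.mp hc.2.2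
    rw [h1, Set.mem_singleton_iff] at h2
    exact hne h2.symm
  have h1 : Nat.card ↥K = C.relIndex K := by
    rw [← Subgroup.relIndex_bot_left, ← hCK, Subgroup.inf_relIndex_right]
  have h4 := relIndex_dvd_four h R
  have h2 : C.relIndex K ≤ C.relIndex N := by
    apply Subgroup.relIndex_le_of_le_right hKN
    intro h0
    rw [← hC, ← hN, h0] at h4
    omega
  have h3 : C.relIndex N ≤ 4 := Nat.le_of_dvd (by norm_num) h4
  omega

end Ord

end Cfsg.Agent.Lib.Helper7.Syl21
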