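import Mathlib
import Cfsg.Agent.Lib.Helper7.SylTwoPAct

set_option autoImplicit false
set_option maxHeartbeats 800000
set_option linter.unusedSectionVars false

namespace Cfsg.Agent.Lib.Helper7.SylTwoP

open Subgroup MulAction Cfsg.Agent.Lib.Helper7.Syl15

universe u

section Sq

variable {G : Type u} [Group G] [Finite G] {p : ℕ} [hp : Fact p.Prime]

/-- any two Sylow `p`-subgroups of order `p²` intersect non-trivially when there are only
`2p+1` of them -/
theorem inter_ne_bot (hp3 : 3 ≤ p) (hn : Nat.card (Sylow p G) = 2 * p + 1) (R D : Sylow p G)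
    (hR : Nat.card (R : Subgroup G) = p ^ 2) :
    ∃ w : G, w ∈ R ∧ w ∈ D ∧ w ≠ 1 := by
  by_contra hcon
  push Not at hcon
  have hinj : Function.Injective (fun r : (R : Subgroup G) => (r : G) • D) := by
    intro r r' h
    simp only at h
    have h1 : ((r : G)⁻¹ * (r' : G)) • D = D := by
      rw [mul_smul, ← h, ← mul_smul, inv_mul_cancel, one_smul]
    have h2 : (r : G)⁻¹ * (r' : G) ∈ R :=
      Subgroup.mul_mem _ (Subgroup.inv_mem _ r.2) r'.2
    have h3 : (r : G)⁻¹ * (r' : G) ∈ D := mem_of_mem_fx (pelt_of_mem_sylow h2) h1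
    have h4 := hcon _ h2 h3
    apply Subtype.ext
    exact inv_mul_eq_one.mp h4
  have := Nat.card_le_card_of_injective _ hinj
  rw [hR, hn] at this
  nlinarith

theorem case_sq (hp3 : 3 ≤ p) (hn : Nat.card (Sylow p G) = 2 * p + 1)
    (hfaith : ∀ g : G, (∀ Q : Sylow p G, g • Q = Q) → g = 1)
    (P : Sylow p G) (hP : Nat.card (P : Subgroup G) = p ^ 2) : False := by
  have hcard : ∀ R : Sylow p G, Nat.card (R : Subgroup G) = p ^ 2 :=
    fun R => (card_sylow_eq P R).trans hP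
  have hab : ∀ R : Sylow p G, ∀ a b : G, a ∈ R → b ∈ R → Commute a b := by
    intro R a b ha hb
    have := IsPGroup.commutative_of_card_eq_prime_sq (p := p) (G := (R : Subgroup G))
      (hcard R) ⟨a, ha⟩ ⟨b, hb⟩
    exact congrArg Subtype.val this
  obtain ⟨Q, hQP⟩ := exists_sylow_ne hn P
  obtain ⟨g, hgP, hgQ, hgp', hg1⟩ : ∃ g : G, g ∈ P ∧ g ∈ Q ∧ g ^ p = 1 ∧ g ≠ 1 := by
    obtain ⟨w, hwP, hwQ, hw1⟩ := inter_ne_bot hp3 hn P Q hP
    have hwsq : w ^ (p ^ 2) = 1 := by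
      have := pow_card_eq_one' (G := (P : Subgroup G)) (x := ⟨w, hwP⟩)
      rw [hP] at this
      exact congrArg Subtype.val this
    by_cases h7 : w ^ p = 1
    · exact ⟨w, hwP, hwQ, h7, hw1⟩
    · refine ⟨w ^ p, Subgroup.pow_mem _ hwP p, Subgroup.pow_mem _ hwQ p, ?_, h7⟩
      rw [← pow_mul, ← pow_two]
      exact hwsq
  have hgord : orderOf g = p := orderOf_eq_prime hgp' hg1
  have hgp : ∃ k : ℕ, g ^ p ^ k = 1 := ⟨1, by simpa using hgp'⟩
  have hfx8 : (fx p g).ncard = p + 1 := by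
    rcases fx_ncard hn hfaith hgp hg1 with h | h
    · exfalso
      obtain ⟨a, ha⟩ := Set.ncard_eq_one.mp h
      have h1 : P ∈ fx p g := mem_fx_of_mem hgP
      have h2 : Q ∈ fx p g := mem_fx_of_mem hgQ
      rw [ha, Set.mem_singleton_iff] at h1 h2
      exact hQP (h2.trans h1.symm)
    · exact h
  have hΔ : ((fx p g)ᶜ).ncard = p := by
    rw [Set.ncard_compl, hn, hfx8]
    omega
  obtain ⟨D₀, hD₀⟩ : ∃ D₀, D₀ ∈ (fx p g)ᶜ := by
    apply Set.nonempty_of_ncard_ne_zero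
    rw [hΔ]
    omega
  have hD₀' : g • D₀ ≠ D₀ := hD₀
  have horb : MulAction.orbit (Subgroup.zpowers g) D₀ = (fx p g)ᶜ := by
    refine Set.eq_of_subset_of_ncard_le ?_ ?_ (Set.toFinite _)
    · intro R hR
      obtain ⟨k, rfl⟩ := (mem_orbit_zpowers_iff g D₀ R).mp hR
      intro hmem
      apply hD₀'
      have h1 : g • g ^ k • D₀ = g ^ k • D₀ := hmem
      rw [← mul_smul, ((Commute.refl g).zpow_right k).eq, mul_smul] at h1
      exact smul_left_cancel _ h1
    · rw [hΔ, ncard_orbit_zpowers hp.out g hgord D₀ hD₀']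
  have key : ∀ R : Sylow p G, g ∈ R →
      ∃ w : G, w ∈ R ∧ w ∈ D₀ ∧ w ≠ 1 ∧ fx p w = (fx p g)ᶜ ∪ {R} := by
    intro R hgR
    obtain ⟨w, hwR, hwD, hw1⟩ := inter_ne_bot hp3 hn R D₀ (hcard R)
    refine ⟨w, hwR, hwD, hw1, ?_⟩
    have hcomm : Commute w g := hab R w g hwR hgR
    have hsub : (fx p g)ᶜ ∪ {R} ⊆ fx p w := by
      rintro T (hT | hT)
      · rw [← horb] at hT
        obtain ⟨k, rfl⟩ := (mem_orbit_zpowers_iff g D₀ T).mp hT
        show w • g ^ k • D₀ = g ^ k • D₀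
        rw [← mul_smul, (hcomm.zpow_right k).eq, mul_smul]
        congr 1
        exact mem_fx_of_mem hwD
      · rw [Set.mem_singleton_iff] at hT
        rw [hT]
        exact mem_fx_of_mem hwR
    symm
    refine Set.eq_of_subset_of_ncard_le hsub ?_ (Set.toFinite _)
    have h1 : ((fx p g)ᶜ ∪ {R}).ncard = p + 1 := by
      rw [Set.ncard_union_eq, hΔ, Set.ncard_singleton]
      rw [Set.disjoint_singleton_right]
      intro h
      exact h (mem_fx_of_mem hgR)
    rw [h1]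
    rcases fx_ncard hn hfaith (pelt_of_mem_sylow hwR) hw1 with h | h <;> omega
  obtain ⟨wP, hwPP, hwPD, hwP1, hfxP⟩ := key P hgP
  obtain ⟨wQ, hwQQ, hwQD, hwQ1, hfxQ⟩ := key Q hgQ
  have hcomm : Commute wQ wP := hab D₀ wQ wP hwQD hwPD
  have hT1 : wP • Q ≠ Q := by
    intro h
    have h1 : Q ∈ fx p wP := h
    rw [hfxP] at h1
    rcases h1 with h | h
    · exact h (mem_fx_of_mem hgQ)
    · exact hQP h
  have hT2 : wP • Q ∈ fx p g := fx_comm (hab P g wP hgP hwPP) (mem_fx_of_mem hgQ)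
  have hT3 : wP • Q ∈ fx p wQ := by
    show wQ • wP • Q = wP • Q
    rw [← mul_smul, hcomm.eq, mul_smul]
    congr 1
    exact mem_fx_of_mem hwQQ
  rw [hfxQ] at hT3
  rcases hT3 with h | h
  · exact h hT2
  · exact hT1 h

end Sq

end Cfsg.Agent.Lib.Helper7.SylTwoP
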