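import Mathlib
import Cfsg.Agent.Lib.Helper7.SylTwoPSq

set_option autoImplicit false
set_option maxHeartbeats 800000
set_option linter.unusedSectionVars false

namespace Cfsg.Agent.Lib.Helper7.SylTwoP

open Subgroup MulAction Cfsg.Agent.Lib.Helper7.Syl15

universe u

section One

variable {G : Type u} [Group G] [Finite G] {p : ℕ} [hp : Fact p.Prime]

theorem mem_zpowers_of_cardp (R : Sylow p G) (hR : Nat.card (R : Subgroup G) = p) {x y : G}
    (hx : x ∈ R) (hx1 : x ≠ 1) (hy : y ∈ R) : y ∈ Subgroup.zpowers x := by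
  have h := mem_zpowers_of_prime_card (G := (R : Subgroup G)) (p := p) hR (g := ⟨x, hx⟩)
    (g' := ⟨y, hy⟩) (by intro h; exact hx1 (congrArg Subtype.val h))
  obtain ⟨k, hk⟩ := h
  exact ⟨k, by simpa using congrArg Subtype.val hk⟩

theorem sylow_eq_of_mem (hcard : ∀ R : Sylow p G, Nat.card (R : Subgroup G) = p)
    {R R' : Sylow p G} {x : G} (hx1 : x ≠ 1) (hx : x ∈ R) (hx' : x ∈ R') : R = R' := by
  have hle : (R : Subgroup G) ≤ R' := by
    intro y hy
    have := mem_zpowers_of_cardp R (hcard R) hx hx1 hy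
    exact (Subgroup.zpowers_le.mpr hx') this
  exact Sylow.ext (Subgroup.eq_of_le_of_card_ge hle (by rw [hcard R, hcard R']))

theorem orbit_smul_mem (x : G) (Q R : Sylow p G)
    (hR : R ∈ MulAction.orbit (Subgroup.zpowers x) Q) (k : ℤ) :
    x ^ k • R ∈ MulAction.orbit (Subgroup.zpowers x) Q := by
  obtain ⟨j, rfl⟩ := (mem_orbit_zpowers_iff x Q R).mp hR
  exact (mem_orbit_zpowers_iff x Q _).mpr ⟨k + j, by rw [zpow_add, mul_smul]⟩

theorem centralizer_le_of_cardp (hp3 : 3 ≤ p) (hn : Nat.card (Sylow p G) = 2 * p + 1)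
    (hfaith : ∀ g : G, (∀ Q : Sylow p G, g • Q = Q) → g = 1)
    (P : Sylow p G) (hnn : ∀ N : Subgroup G, N.Normal → (P : Subgroup G) ≤ N → N = ⊤)
    (hP : Nat.card (P : Subgroup G) = p) (x : G) (hxP : x ∈ P) (hx1 : x ≠ 1) :
    ∀ c : G, Commute c x → c ∈ P := by
  have hcard : ∀ R : Sylow p G, Nat.card (R : Subgroup G) = p :=
    fun R => (card_sylow_eq P R).trans hP
  have hP7 : ∀ y : G, y ∈ P → y ^ p = 1 := by
    intro y hy
    have := pow_card_eq_one' (G := (P : Subgroup G)) (x := ⟨y, hy⟩)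
    rw [hP] at this
    exact congrArg Subtype.val this
  have hx7 : x ^ p = 1 := hP7 x hxP
  have hxord : orderOf x = p := orderOf_eq_prime hx7 hx1
  have hxp : ∃ k : ℕ, x ^ p ^ k = 1 := ⟨1, by simpa using hx7⟩
  have hfxx : ∀ R : Sylow p G, x • R = R → R = P := by
    intro R hR
    have h1 : x ∈ R := mem_of_mem_fx hxp hR
    exact sylow_eq_of_mem hcard hx1 h1 hxP
  have hzpP : ∀ k : ℤ, x ^ k ∈ P := fun k => Subgroup.zpow_mem _ hxP k
  have hPfix : ∀ c : G, Commute c x → c • P = P := by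
    intro c hc
    apply hfxx
    rw [← mul_smul, ← hc.eq, mul_smul]
    congr 1
    exact mem_fx_of_mem hxP
  obtain ⟨Q₁, hQ₁⟩ := exists_sylow_ne hn P
  have hO₁card : (MulAction.orbit (Subgroup.zpowers x) Q₁).ncard = p :=
    ncard_orbit_zpowers hp.out x hxord Q₁ (fun h => hQ₁ (hfxx _ h))
  have hPO : ∀ Q : Sylow p G, Q ≠ P → P ∉ MulAction.orbit (Subgroup.zpowers x) Q := by
    intro Q hQ h
    obtain ⟨k, hk⟩ := (mem_orbit_zpowers_iff x Q P).mp h
    apply hQ
    have h1 : Q = (x ^ k)⁻¹ • P := by rw [← hk, inv_smul_smul]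
    rw [h1]
    exact mem_fx_of_mem (Subgroup.inv_mem _ (hzpP k))
  obtain ⟨Q₂, hQ₂⟩ : ∃ Q₂, Q₂ ∉ ({P} ∪ MulAction.orbit (Subgroup.zpowers x) Q₁ : Set (Sylow p G)) := by
    by_contra hcon
    push Not at hcon
    have h0 : ({P} ∪ MulAction.orbit (Subgroup.zpowers x) Q₁ : Set (Sylow p G)) = Set.univ :=
      Set.eq_univ_of_forall hcon
    have h1 : ({P} ∪ MulAction.orbit (Subgroup.zpowers x) Q₁ : Set (Sylow p G)).ncard ≤ 1 + p :=
      (Set.ncard_union_le _ _).trans (by rw [Set.ncard_singleton, hO₁card])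
    rw [h0, Set.ncard_univ, hn] at h1
    omega
  have hQ₂P : Q₂ ≠ P := fun h => hQ₂ (Or.inl h)
  have hQ₂O₁ : Q₂ ∉ MulAction.orbit (Subgroup.zpowers x) Q₁ := fun h => hQ₂ (Or.inr h)
  have hO₂card : (MulAction.orbit (Subgroup.zpowers x) Q₂).ncard = p :=
    ncard_orbit_zpowers hp.out x hxord Q₂ (fun h => hQ₂P (hfxx _ h))
  have hdisj : Disjoint (MulAction.orbit (Subgroup.zpowers x) Q₁)
      (MulAction.orbit (Subgroup.zpowers x) Q₂) := by
    rw [Set.disjoint_left]
    intro R h1 h2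
    have e1 : MulAction.orbit (Subgroup.zpowers x) R = MulAction.orbit (Subgroup.zpowers x) Q₁ :=
      MulAction.orbit_eq_iff.mpr h1
    have e2 : MulAction.orbit (Subgroup.zpowers x) R = MulAction.orbit (Subgroup.zpowers x) Q₂ :=
      MulAction.orbit_eq_iff.mpr h2
    apply hQ₂O₁
    rw [← e1, e2]
    exact MulAction.mem_orbit_self Q₂
  have hQ₁O₂ : Q₁ ∉ MulAction.orbit (Subgroup.zpowers x) Q₂ := fun h =>
    Set.disjoint_left.mp hdisj (MulAction.mem_orbit_self Q₁) h
  have hcover : ∀ R : Sylow p G, R = P ∨ R ∈ MulAction.orbit (Subgroup.zpowers x) Q₁ ∨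
      R ∈ MulAction.orbit (Subgroup.zpowers x) Q₂ := by
    have h0 : ({P} ∪ (MulAction.orbit (Subgroup.zpowers x) Q₁ ∪
        MulAction.orbit (Subgroup.zpowers x) Q₂) : Set (Sylow p G)) = Set.univ := by
      refine Set.eq_of_subset_of_ncard_le (Set.subset_univ _) ?_ (Set.toFinite _)
      rw [Set.ncard_univ, hn, Set.ncard_union_eq, Set.ncard_singleton,
        Set.ncard_union_eq hdisj, hO₁card, hO₂card]
      · omega
      rw [Set.disjoint_singleton_left]
      rintro (h | h)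
      · exact hPO Q₁ hQ₁ h
      · exact hPO Q₂ hQ₂P h
    intro R
    have h1 : R ∈ ({P} ∪ (MulAction.orbit (Subgroup.zpowers x) Q₁ ∪
        MulAction.orbit (Subgroup.zpowers x) Q₂) : Set (Sylow p G)) := h0 ▸ Set.mem_univ R
    rcases h1 with h | h | h
    · exact Or.inl h
    · exact Or.inr (Or.inl h)
    · exact Or.inr (Or.inr h)
  -- Claim A
  have claimA : ∀ Qa Qb : Sylow p G, Qa ≠ P → Qb ≠ P →
      Qb ∉ MulAction.orbit (Subgroup.zpowers x) Qa →
      (∀ R : Sylow p G, R = P ∨ R ∈ MulAction.orbit (Subgroup.zpowers x) Qa ∨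
        R ∈ MulAction.orbit (Subgroup.zpowers x) Qb) →
      ∀ c : G, Commute c x → c • Qa ∈ MulAction.orbit (Subgroup.zpowers x) Qa → c ∈ P := by
    intro Qa Qb hQa hQb hQba hcov c hcx hcQa
    obtain ⟨k, hk⟩ := (mem_orbit_zpowers_iff x Qa _).mp hcQa
    have hc'x : Commute ((x ^ k)⁻¹ * c) x :=
      (((Commute.refl x).zpow_left k).inv_left).mul_left hcx
    have hc'Qa : ((x ^ k)⁻¹ * c) • Qa = Qa := by
      rw [mul_smul, ← hk, inv_smul_smul]
    have hc'P : ((x ^ k)⁻¹ * c) • P = P := hPfix _ hc'x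
    have hc'Oa : ∀ R ∈ MulAction.orbit (Subgroup.zpowers x) Qa, ((x ^ k)⁻¹ * c) • R = R := by
      intro R hR
      obtain ⟨j, rfl⟩ := (mem_orbit_zpowers_iff x Qa R).mp hR
      rw [← mul_smul, (hc'x.zpow_right j).eq, mul_smul, hc'Qa]
    have hc'Qb : ((x ^ k)⁻¹ * c) • Qb ∈ MulAction.orbit (Subgroup.zpowers x) Qb := by
      rcases hcov (((x ^ k)⁻¹ * c) • Qb) with h | h | h
      · exfalso
        apply hQb
        exact smul_left_cancel _ (h.trans hc'P.symm)
      · exfalso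
        apply hQba
        have h1 := hc'Oa _ h
        have h2 : ((x ^ k)⁻¹ * c) • Qb = Qb := smul_left_cancel _ h1
        rw [h2] at h
        exact h
      · exact h
    obtain ⟨m, hm⟩ := (mem_orbit_zpowers_iff x Qb _).mp hc'Qb
    have hc'Ob : ∀ R ∈ MulAction.orbit (Subgroup.zpowers x) Qb,
        ((x ^ k)⁻¹ * c) • R = x ^ m • R := by
      intro R hR
      obtain ⟨j, rfl⟩ := (mem_orbit_zpowers_iff x Qb R).mp hR
      rw [← mul_smul, (hc'x.zpow_right j).eq, mul_smul, ← hm, ← mul_smul, ← mul_smul,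
        ((Commute.refl x).zpow_zpow j m).eq]
    have hpow : ∀ n : ℕ, ∀ R ∈ MulAction.orbit (Subgroup.zpowers x) Qb,
        ((x ^ k)⁻¹ * c) ^ n • R = x ^ (m * n) • R := by
      intro n
      induction n with
      | zero => intro R _; simp
      | succ n ih =>
        intro R hR
        rw [pow_succ, mul_smul, hc'Ob R hR, ih _ (orbit_smul_mem x Qb R hR m), ← mul_smul,
          ← zpow_add]
        congr 2
        push_cast
        ring
    have hc'7 : ((x ^ k)⁻¹ * c) ^ p = 1 := by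
      apply hfaith
      intro R
      rcases hcov R with h | h | h
      · rw [h]
        exact fx_pow hc'P p
      · exact fx_pow (hc'Oa R h) p
      · rw [hpow p R h]
        have : x ^ (m * ((p : ℕ) : ℤ)) = 1 := by
          rw [mul_comm, zpow_mul, zpow_natCast, hx7, one_zpow]
        rw [this, one_smul]
    have hc'p : ∃ j : ℕ, ((x ^ k)⁻¹ * c) ^ p ^ j = 1 := ⟨1, by simpa using hc'7⟩
    have h1 : (x ^ k)⁻¹ * c ∈ Qa := mem_of_mem_fx hc'p hc'Qa
    have h2 : (x ^ k)⁻¹ * c ∈ P := mem_of_mem_fx hc'p hc'P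
    have h3 : c = x ^ k * ((x ^ k)⁻¹ * c) := by group
    rw [h3]
    exact Subgroup.mul_mem _ (hzpP k) h2
  have hcover' : ∀ R : Sylow p G, R = P ∨ R ∈ MulAction.orbit (Subgroup.zpowers x) Q₂ ∨
      R ∈ MulAction.orbit (Subgroup.zpowers x) Q₁ := by
    intro R
    rcases hcover R with h | h | h
    · exact Or.inl h
    · exact Or.inr (Or.inr h)
    · exact Or.inr (Or.inl h)
  have swap : ∀ c : G, Commute c x → c ∉ P →
      (c • Q₁ ∈ MulAction.orbit (Subgroup.zpowers x) Q₂ ∧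
        c • Q₂ ∈ MulAction.orbit (Subgroup.zpowers x) Q₁) := by
    intro c hcx hcP
    constructor
    · rcases hcover (c • Q₁) with h | h | h
      · exfalso
        apply hQ₁
        exact smul_left_cancel _ (h.trans (hPfix c hcx).symm)
      · exact absurd (claimA Q₁ Q₂ hQ₁ hQ₂P hQ₂O₁ hcover c hcx h) hcP
      · exact h
    · rcases hcover' (c • Q₂) with h | h | h
      · exfalso
        apply hQ₂P
        exact smul_left_cancel _ (h.trans (hPfix c hcx).symm)
      · exact absurd (claimA Q₂ Q₁ hQ₂P hQ₁ hQ₁O₂ hcover' c hcx h) hcP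
      · exact h
  have fxc : ∀ c : G, Commute c x → c ∉ P → ∀ R : Sylow p G, c • R = R → R = P := by
    intro c hcx hcP R hR
    obtain ⟨h1, h2⟩ := swap c hcx hcP
    rcases hcover R with h | h | h
    · exact h
    · exfalso
      obtain ⟨j, hj⟩ := (mem_orbit_zpowers_iff x Q₁ R).mp h
      have h3 : c • R ∈ MulAction.orbit (Subgroup.zpowers x) Q₂ := by
        rw [← hj, ← mul_smul, (hcx.zpow_right j).eq, mul_smul]
        exact orbit_smul_mem x Q₂ _ h1 j
      rw [hR] at h3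
      exact Set.disjoint_left.mp hdisj h h3
    · exfalso
      obtain ⟨j, hj⟩ := (mem_orbit_zpowers_iff x Q₂ R).mp h
      have h3 : c • R ∈ MulAction.orbit (Subgroup.zpowers x) Q₁ := by
        rw [← hj, ← mul_smul, (hcx.zpow_right j).eq, mul_smul]
        exact orbit_smul_mem x Q₁ _ h2 j
      rw [hR] at h3
      exact Set.disjoint_left.mp hdisj h3 h
  intro c hcx
  by_contra hcP
  have hc2 : c * c ∈ P := by
    apply claimA Q₁ Q₂ hQ₁ hQ₂P hQ₂O₁ hcover (c * c) (hcx.mul_left hcx)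
    obtain ⟨h1, h2⟩ := swap c hcx hcP
    obtain ⟨j, hj⟩ := (mem_orbit_zpowers_iff x Q₂ _).mp h1
    rw [mul_smul, ← hj, ← mul_smul, (hcx.zpow_right j).eq, mul_smul]
    exact orbit_smul_mem x Q₁ _ h2 j
  obtain ⟨t, ht⟩ : ∃ t : ℕ, p = 2 * t + 1 := by
    rcases hp.out.eq_two_or_odd with h | h
    · omega
    · exact ⟨p / 2, by omega⟩
  have hu2 : c ^ p * c ^ p = 1 := by
    have h1 := hP7 _ hc2
    rw [← h1, ← pow_add, ← pow_two, ← pow_mul, two_mul]
  have hux : Commute (c ^ p) x := hcx.pow_left p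
  have huP : c ^ p ∉ P := by
    intro h
    apply hcP
    have h1 : c = c ^ p * ((c * c) ^ t)⁻¹ := by
      rw [← pow_two, ← pow_mul, ht, pow_succ' c (2 * t), mul_inv_cancel_right]
    rw [h1]
    exact Subgroup.mul_mem _ h (Subgroup.inv_mem _ (Subgroup.pow_mem _ hc2 t))
  have hfxu : {R : Sylow p G | c ^ p • R = R} = {P} := by
    ext R
    constructor
    · intro h
      exact fxc _ hux huP R h
    · intro h
      rw [Set.mem_singleton_iff] at h
      rw [h]
      exact hPfix _ hux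
  have hodd : Odd p := ⟨t, ht⟩
  obtain ⟨N, hN, huN, hoddN⟩ := exists_normal_of_involution (α := Sylow p G) (c ^ p) hu2 p
    hodd (by rw [hfxu, Set.ncard_singleton, hn]; omega)
  have hNtop : N = ⊤ := hnn N hN (fun y hy => hoddN y p hodd (hP7 y hy))
  exact huN (hNtop ▸ Subgroup.mem_top _)

end One

end Cfsg.Agent.Lib.Helper7.SylTwoP
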