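import Mathlib
import Cfsg.Agent.Lib.Helper7.Syl21Ord
import Cfsg.Agent.Lib.Helper7.Syl21Mom
import Cfsg.Agent.Lib.Helper7.SylTwoPOne
import Cfsg.Agent.S4304

set_option autoImplicit false
set_option maxHeartbeats 800000
set_option linter.unusedSectionVars false

/-! `n_5 = 21` with Sylow `5`-subgroups of order `5`: the final counting contradiction. -/

namespace Cfsg.Agent.Lib.Helper7.Syl21

open Subgroup MulAction Cfsg.Agent.Lib.Helper7.SylTwoP

universe u

section Fin

variable {G : Type u} [Group G] [Finite G]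

theorem mem_centralizer_of_commute_gen {q : ℕ} [Fact q.Prime] (Q : Sylow q G)
    (hQ : Nat.card (Q : Subgroup G) = q) {z y : G} (hzQ : z ∈ Q) (hz1 : z ≠ 1)
    (hy : Commute y z) : y ∈ Subgroup.centralizer ((Q : Subgroup G) : Set G) := by
  intro r hr
  obtain ⟨k, hk⟩ := mem_zpowers_of_cardp Q hQ hzQ hz1 hr
  rw [← hk]
  exact ((hy.zpow_right k).eq).symm

/-- an element of a Sylow `q`-subgroup of order `q` fixing a Sylow `r`-subgroup of order `r`
with `q` prime to `r - 1` is centralized by an element of order `r` -/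
theorem exists_of_fix_of_coprime {q r : ℕ} [Fact q.Prime] [Fact r.Prime] (Q : Sylow q G)
    (hQ : Nat.card (Q : Subgroup G) = q) (S : Sylow r G) (hS : Nat.card (S : Subgroup G) = r)
    {z : G} (hzQ : z ∈ Q) (hz1 : z ≠ 1) (hco : Nat.Coprime q (r - 1)) (hfix : z • S = S) :
    ∃ y : G, y ≠ 1 ∧ y ^ r = 1 ∧ y ∈ Subgroup.centralizer ((Q : Subgroup G) : Set G) := by
  have hzq : z ^ q = 1 := by
    have := pow_card_eq_one' (G := (Q : Subgroup G)) (x := ⟨z, hzQ⟩)
    rw [hQ] at this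
    exact congrArg Subtype.val this
  have hzC : z ∈ Subgroup.centralizer ((S : Subgroup G) : Set G) :=
    mem_centralizer_of_coprime S hS (Sylow.smul_eq_iff_mem_normalizer.mp hfix) hzq hco
  obtain ⟨y, hyS, hy1⟩ := Cfsg.Agent.Lib.Helper7.SylCyc.exists_mem_ne_one_of_card_prime S hS
  refine ⟨y, hy1, ?_, ?_⟩
  · have := pow_card_eq_one' (G := (S : Subgroup G)) (x := ⟨y, hyS⟩)
    rw [hS] at this
    exact congrArg Subtype.val this
  · apply mem_centralizer_of_commute_gen Q hQ hzQ hz1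
    exact (hzC y hyS)

theorem dvd_card_sylow_of_no_fix {q r : ℕ} [Fact q.Prime] {z : G} (hz : ∃ k : ℕ, z ^ q ^ k = 1)
    (hno : ∀ S : Sylow r G, z • S ≠ S) : q ∣ Nat.card (Sylow r G) := by
  have h1 := ncard_modEq_of_invariant (α := Sylow r G) (p := q) z hz Set.univ
    (fun _ _ => Set.mem_univ _)
  have h2 : (Set.univ ∩ {a : Sylow r G | z • a = a}) = ∅ := by
    ext S
    simp only [Set.mem_inter_iff, Set.mem_univ, true_and, Set.mem_setOf_eq, Set.mem_empty_iff_false,
      iff_false]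
    exact hno S
  rw [h2, Set.ncard_empty, Set.ncard_univ] at h1
  exact (Nat.modEq_zero_iff_dvd).mp h1

variable [hp : Fact (Nat.Prime 5)]

/-- the final contradiction -/
theorem no_hyp (h : Hyp G) : False := by
  have : Fact (Nat.Prime 7) := ⟨by norm_num⟩
  have : Fact (Nat.Prime 3) := ⟨by norm_num⟩
  obtain ⟨R⟩ : Nonempty (Sylow 5 G) := inferInstance
  obtain ⟨x, hxR, hx1⟩ := exists_gen h R
  have hG := card_dvd h
  have h21 := dvd_card h
  have hc7 : ∀ Q : Sylow 7 G, Nat.card (Q : Subgroup G) = 7 := by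
    intro Q
    apply Cfsg.Agent.Lib.Helper7.Syl15.sylow_card_eq_prime (Dvd.dvd.trans (by norm_num) h21)
    intro h49
    have := h49.trans hG
    omega
  have hc3 : ∀ S : Sylow 3 G, Nat.card (S : Subgroup G) = 3 := by
    intro S
    apply Cfsg.Agent.Lib.Helper7.Syl15.sylow_card_eq_prime (Dvd.dvd.trans (by norm_num) h21)
    intro h9
    have := h9.trans hG
    omega
  have hx7 : ∀ Q : Sylow 7 G, x • Q ≠ Q := by
    intro Q hfix
    obtain ⟨y, hy1, hy7, hyC⟩ := exists_of_fix_of_coprime R (h.hcard R) Q (hc7 Q) hxR hx1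
      (by decide) hfix
    have h1 := cent_fx_eq h hyC hy1
    have h2 := fixed_modEq' (q := 7) h (c := y) ⟨1, by rw [pow_one]; exact hy7⟩
    rw [h1, Set.ncard_singleton] at h2
    unfold Nat.ModEq at h2
    omega
  have hx3 : ∀ S : Sylow 3 G, x • S ≠ S := by
    intro S hfix
    obtain ⟨y, hy1, hy3, hyC⟩ := exists_of_fix_of_coprime R (h.hcard R) S (hc3 S) hxR hx1
      (by decide) hfix
    exact hy1 (no_three h hyC hy3)
  have h5n7 : 5 ∣ Nat.card (Sylow 7 G) := dvd_card_sylow_of_no_fix (pelt_of_mem_sylow hxR) hx7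
  have h5n3 : 5 ∣ Nat.card (Sylow 3 G) := dvd_card_sylow_of_no_fix (pelt_of_mem_sylow hxR) hx3
  obtain ⟨Q⟩ : Nonempty (Sylow 7 G) := inferInstance
  have hidx := Sylow.card_eq_index_normalizer Q
  have hmul := Subgroup.card_mul_index (Subgroup.normalizer ((Q : Subgroup G) : Set G))
  have h7N : 7 ∣ Nat.card ↥(Subgroup.normalizer ((Q : Subgroup G) : Set G)) := by
    have h1 := Subgroup.card_dvd_of_le (Subgroup.le_normalizer (H := (Q : Subgroup G)))
    rw [hc7 Q] at h1
    exact h1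
  have hmod7 : Nat.card (Sylow 7 G) ≡ 1 [MOD 7] := card_sylow_modEq_one 7 G
  have hne15 : Nat.card (Sylow 7 G) ≠ 15 := Cfsg.Agent.S4304.result
  have hA7 := card_orderOf_ge hc7
  have hA3 := card_orderOf_ge hc3
  have hidx' : Nat.card (Sylow 7 G)
      = (Subgroup.normalizer ((Q : Subgroup G) : Set G)).index := hidx
  rw [← hidx'] at hmul
  obtain ⟨n7, hn7def⟩ : ∃ n, Nat.card (Sylow 7 G) = n := ⟨_, rfl⟩
  rw [hn7def] at h5n7 hmod7 hne15 hmul hA7
  obtain ⟨m, hm⟩ := h7N
  obtain ⟨t, ht⟩ := hG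
  have h240 : n7 ∣ 240 := by
    refine ⟨m * t, ?_⟩
    rw [← hmul, hm] at ht
    linarith
  have hle : n7 ≤ 240 := Nat.le_of_dvd (by norm_num) h240
  have hn7 : n7 = 120 := by
    unfold Nat.ModEq at hmod7
    clear hmul hA7 hn7def hidx hidx'
    interval_cases n7 <;> omega
  rw [hn7] at hmul hA7
  have hNQ14 : Nat.card ↥(Subgroup.normalizer ((Q : Subgroup G) : Set G)) ∣ 14 := by
    refine ⟨t, ?_⟩
    rw [← hmul] at ht
    linarith
  obtain ⟨z, hzQ, hz1⟩ := Cfsg.Agent.Lib.Helper7.SylCyc.exists_mem_ne_one_of_card_prime Q (hc7 Q)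
  have hz3 : ∀ S : Sylow 3 G, z • S ≠ S := by
    intro S hfix
    obtain ⟨y, hy1, hy3, hyC⟩ := exists_of_fix_of_coprime Q (hc7 Q) S (hc3 S) hzQ hz1
      (by decide) hfix
    have hyN : y ∈ Subgroup.normalizer ((Q : Subgroup G) : Set G) :=
      Subgroup.centralizer_le_normalizer _ hyC
    have h1 := pow_card_eq_one' (G := ↥(Subgroup.normalizer ((Q : Subgroup G) : Set G)))
      (x := ⟨y, hyN⟩)
    obtain ⟨j, hj⟩ := hNQ14
    have h2 : y ^ 14 = 1 := by
      have : (⟨y, hyN⟩ : ↥(Subgroup.normalizer ((Q : Subgroup G) : Set G))) ^ 14 = 1 := by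
        rw [hj, pow_mul, h1, one_pow]
      exact congrArg Subtype.val this
    have h15 : y ^ 15 = 1 := by
      rw [show (15 : ℕ) = 3 * 5 from rfl, pow_mul, hy3, one_pow]
    have h3 : y ^ 15 = y ^ 14 * y := pow_succ y 14
    rw [h15, h2, one_mul] at h3
    exact hy1 h3.symm
  have h7n3 : 7 ∣ Nat.card (Sylow 3 G) := dvd_card_sylow_of_no_fix (pelt_of_mem_sylow hzQ) hz3
  have hmod3 : Nat.card (Sylow 3 G) ≡ 1 [MOD 3] := card_sylow_modEq_one 3 G
  have hn3 : 70 ≤ Nat.card (Sylow 3 G) := by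
    obtain ⟨j, hj⟩ := Nat.Coprime.mul_dvd_of_dvd_of_dvd (by norm_num : Nat.Coprime 5 7) h5n3 h7n3
    unfold Nat.ModEq at hmod3
    omega
  have hX := two_mul_card_le (G := G) (α := Sylow 5 G) 4 (fun a b hab => card_stab_inf_le h hab)
  rw [h.hn] at hX
  have hd1 : Disjoint {g : G | ∃ a : Sylow 5 G, g • a = a} {g : G | orderOf g = 7} := by
    rw [Set.disjoint_left]
    rintro g ⟨T, hT⟩ (hg : orderOf g = 7)
    have h1 := orderOf_dvd_of_pow_eq_one (pow_eq_one_of_fix h hT)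
    rw [hg] at h1
    omega
  have hd2 : Disjoint ({g : G | ∃ a : Sylow 5 G, g • a = a} ∪ {g : G | orderOf g = 7})
      {g : G | orderOf g = 3} := by
    rw [Set.disjoint_left]
    rintro g (⟨T, hT⟩ | (hg7 : orderOf g = 7)) (hg : orderOf g = 3)
    · have h1 := orderOf_dvd_of_pow_eq_one (pow_eq_one_of_fix h hT)
      rw [hg] at h1
      omega
    · omega
  have hu : ({g : G | ∃ a : Sylow 5 G, g • a = a} ∪ {g : G | orderOf g = 7}
      ∪ {g : G | orderOf g = 3}).ncard
      = {g : G | ∃ a : Sylow 5 G, g • a = a}.ncard + {g : G | orderOf g = 7}.ncard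
        + {g : G | orderOf g = 3}.ncard := by
    rw [Set.ncard_union_eq hd2, Set.ncard_union_eq hd1]
  have hle2 := Set.ncard_le_card ({g : G | ∃ a : Sylow 5 G, g • a = a} ∪ {g : G | orderOf g = 7}
      ∪ {g : G | orderOf g = 3})
  omega

end Fin

end Cfsg.Agent.Lib.Helper7.Syl21
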