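import Mathlib

set_option autoImplicit false

namespace Cfsg.Agent.Lib.Helper7

/-- Every `p`-subgroup `M` of `C` lies in a "relative Sylow" `p`-subgroup `S` of `C`. -/
theorem exists_sylow_rel {G : Type*} [Group G] [Finite G] (p : ℕ) [Fact p.Prime]
    (C M : Subgroup G) (hM : IsPGroup p M) (hMC : M ≤ C) :
    ∃ S : Subgroup G, IsPGroup p S ∧ S ≤ C ∧ M ≤ S ∧ ¬ p ∣ S.relIndex C := by
  have hM' : IsPGroup p (M.subgroupOf C) := hM.comap_subtype
  obtain ⟨S0, hS0⟩ := hM'.exists_le_sylow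
  refine ⟨(S0 : Subgroup C).map C.subtype, S0.isPGroup'.map _, ?_, ?_, ?_⟩
  · rintro _ ⟨x, _, rfl⟩
    exact x.2
  · intro m hm
    exact ⟨⟨m, hMC hm⟩, hS0 (Subgroup.mem_subgroupOf.2 hm), rfl⟩
  · have h1 : ((S0 : Subgroup C).map C.subtype).subgroupOf C = (S0 : Subgroup C) :=
      Subgroup.comap_map_eq_self_of_injective C.subtype_injective _
    rw [Subgroup.relIndex, h1]
    exact S0.not_dvd_index

/-- If `z ∉ C` but `z * z ∈ C` then `z` has even order. -/
theorem even_orderOf_of_sq_mem {G : Type*} [Group G] (C : Subgroup G) (z : G) (hz : z ∉ C)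
    (hz2 : z * z ∈ C) : Even (orderOf z) := by
  by_contra hodd
  rw [Nat.not_even_iff_odd] at hodd
  obtain ⟨k, hk⟩ := hodd
  apply hz
  have h1 : z = (z * z) ^ (k + 1) := by
    have h2 : z ^ (2 * k + 1) = 1 := by rw [← hk]; exact pow_orderOf_eq_one z
    calc z = z * 1 := (mul_one z).symm
      _ = z * z ^ (2 * k + 1) := by rw [h2]
      _ = (z * z) ^ (k + 1) := by rw [← pow_two, ← pow_mul, ← pow_succ']; congr 1
  rw [h1]
  exact C.pow_mem hz2 _

end Cfsg.Agent.Lib.Helper7
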