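import Mathlib
import Cfsg.Agent.Lib.Helper7.Conj

set_option autoImplicit false

namespace Cfsg.Agent.Lib.Helper7

open scoped Pointwise
open MulAction

section
variable {G : Type*} [Group G]

theorem card_stabilizer_dvd_ncard [Finite G] (s : Set G) :
    Nat.card (stabilizer G s) ∣ s.ncard := by
  have hfree : ∀ b : s, stabilizer (stabilizer G s) b = ⊥ := by
    intro b
    rw [eq_bot_iff]
    intro h hh
    rw [mem_stabilizer_iff] at hh
    have h1 : ((h • b : s) : G) = (b : G) := by rw [hh]
    rw [SMul.smul_stabilizer_def, smul_eq_mul] at h1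
    have h2 : (h : G) = 1 := by
      have := mul_right_cancel (h1.trans (one_mul (b : G)).symm)
      exact this
    rw [Subgroup.mem_bot]
    exact Subtype.ext h2
  have e := selfEquivOrbitsQuotientProd hfree
  have h3 := Nat.card_congr e
  rw [Nat.card_prod, Nat.card_coe_set_eq] at h3
  exact ⟨_, h3.trans (mul_comm _ _)⟩

theorem stabilizer_coe_subgroup (K : Subgroup G) : stabilizer G (K : Set G) = K := by
  ext g
  rw [mem_stabilizer_iff]
  constructor
  · intro h
    have h1 : g • (1 : G) ∈ g • (K : Set G) := Set.smul_mem_smul_set K.one_mem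
    rw [h, smul_eq_mul, mul_one] at h1
    exact h1
  · intro h
    ext x
    rw [Set.mem_smul_set_iff_inv_smul_mem, smul_eq_mul]
    exact K.mul_mem_cancel_left (K.inv_mem h)

theorem wielandt_arith (p β m a i : ℕ) (hp : p.Prime) (ha : a ∣ p ^ β) (h : a * i = p ^ β * m) :
    (a = p ^ β ∧ i = m) ∨ (a ≠ p ^ β ∧ p * m ∣ i) := by
  obtain ⟨j, hj, rfl⟩ := (Nat.dvd_prime_pow hp).1 ha
  have hpos : 0 < p ^ j := pow_pos hp.pos j
  have hi : i = p ^ (β - j) * m := by
    have : p ^ j * i = p ^ j * (p ^ (β - j) * m) := by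
      rw [h, ← mul_assoc, ← pow_add, Nat.add_sub_cancel' hj]
    exact Nat.eq_of_mul_eq_mul_left hpos this
  rcases Nat.eq_or_lt_of_le hj with hjb | hjb
  · left
    subst hjb
    refine ⟨rfl, ?_⟩
    rw [hi, Nat.sub_self, pow_zero, one_mul]
  · right
    constructor
    · intro heq
      have := Nat.pow_right_injective hp.two_le heq
      omega
    · rw [hi]
      apply Nat.mul_dvd_mul_right
      exact dvd_pow_self p (by omega)

theorem card_stabilizer_smul {α : Type*} [MulAction G α] (g : G) (a : α) :
    Nat.card (stabilizer G (g • a)) = Nat.card (stabilizer G a) := by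
  rw [stabilizer_smul_eq_stabilizer_map_conj]
  exact card_map_conj _ g

theorem card_stabilizer_out {α : Type*} [MulAction G α] (a : α) :
    Nat.card (stabilizer G (Quotient.mk (orbitRel G α) a).out) = Nat.card (stabilizer G a) := by
  have h := Quotient.mk_out (s := orbitRel G α) a
  rw [orbitRel_apply] at h
  obtain ⟨g, hg⟩ := h
  rw [← hg]
  exact card_stabilizer_smul g a
end

section Main
variable {G : Type*} [Group G] [Finite G] [DecidableEq G]

/-- a subgroup of order `k` as a `k`-combination -/
noncomputable def subgroupComb (k : ℕ) (K : Subgroup G) (hK : Nat.card K = k) : Set.powersetCard G k :=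
  ⟨(Set.toFinite (K : Set G)).toFinset, by
    rw [Set.powersetCard.mem_iff, ← Set.ncard_eq_toFinset_card, ← Nat.card_coe_set_eq]; exact hK⟩

omit [DecidableEq G] in
theorem coe_subgroupComb (k : ℕ) (K : Subgroup G) (hK : Nat.card K = k) :
    ((subgroupComb k K hK : Set.powersetCard G k) : Set G) = K := by
  rw [← Set.powersetCard.coe_coe]
  simp [subgroupComb]

omit [Finite G] in
theorem coe_smul_comb (k : ℕ) (g : G) (s : Set.powersetCard G k) :
    ((g • s : Set.powersetCard G k) : Set G) = g • (s : Set G) := by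
  rw [← Set.powersetCard.coe_coe, Set.powersetCard.coe_smul, Finset.coe_smul_finset]
  rfl

omit [Group G] [Finite G] [DecidableEq G] in
theorem comb_ext (k : ℕ) (s t : Set.powersetCard G k) (h : (s : Set G) = (t : Set G)) : s = t :=
  SetLike.coe_injective h

theorem card_stabilizer_comb_dvd (k : ℕ) (s : Set.powersetCard G k) :
    Nat.card (stabilizer G s) ∣ k := by
  rw [Set.powersetCard.stabilizer_coe]
  have := card_stabilizer_dvd_ncard (s : Set G)
  rwa [Set.powersetCard.ncard_eq] at this

theorem stabilizer_subgroupComb (k : ℕ) (K : Subgroup G) (hK : Nat.card K = k) :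
    stabilizer G (subgroupComb k K hK) = K := by
  rw [Set.powersetCard.stabilizer_coe, coe_subgroupComb, stabilizer_coe_subgroup]

/-- the map from subgroups of order `k` to orbits with stabilizer of order `k`. -/
noncomputable def subgroupOrbit (k : ℕ) (K : {K : Subgroup G // Nat.card K = k}) :
    {ω : Quotient (orbitRel G (Set.powersetCard G k)) // Nat.card (stabilizer G ω.out) = k} :=
  ⟨Quotient.mk _ (subgroupComb k K.1 K.2), by
    rw [card_stabilizer_out, stabilizer_subgroupComb]; exact K.2⟩

theorem subgroupOrbit_injective (k : ℕ) : Function.Injective (subgroupOrbit (G := G) k) := by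
  rintro ⟨K, hK⟩ ⟨K', hK'⟩ h
  have h1 : Quotient.mk (orbitRel G (Set.powersetCard G k)) (subgroupComb k K hK)
      = Quotient.mk _ (subgroupComb k K' hK') := congrArg Subtype.val h
  have h2 := Quotient.exact h1
  change orbitRel G _ _ _ at h2
  rw [orbitRel_apply] at h2
  obtain ⟨g, hg⟩ := h2
  have h3 := congrArg (fun s : Set.powersetCard G k => (s : Set G)) hg
  simp only [coe_smul_comb, coe_subgroupComb] at h3
  -- h3 : g • (K' : Set G) = K
  have h4 : (1 : G) ∈ g • (K' : Set G) := by rw [h3]; exact K.one_mem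
  rw [Set.mem_smul_set_iff_inv_smul_mem, smul_eq_mul, mul_one] at h4
  have h5 : g ∈ K' := by simpa using K'.inv_mem h4
  have h6 : g • (K' : Set G) = K' := by
    have := stabilizer_coe_subgroup K'
    have hg' : g ∈ stabilizer G (K' : Set G) := by rw [this]; exact h5
    exact mem_stabilizer_iff.1 hg'
  rw [h6] at h3
  apply Subtype.ext
  exact (SetLike.coe_injective h3).symm

theorem subgroupOrbit_surjective (k : ℕ) (hk : 0 < k) : Function.Surjective (subgroupOrbit (G := G) k) := by
  rintro ⟨ω, hω⟩
  set s := ω.out with hs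
  -- pick x ∈ s
  have hne : (s : Set G).Nonempty := Set.powersetCard.coe_nonempty_iff.2 hk
  obtain ⟨x, hx⟩ := hne
  set H := stabilizer G (s : Set G) with hH
  have hHs : stabilizer G s = H := Set.powersetCard.stabilizer_coe s
  have hHcard : Nat.card H = k := by rw [← hHs]; exact hω
  -- H x ⊆ s
  have hsub : (fun h : G => h * x) '' (H : Set G) ⊆ (s : Set G) := by
    rintro _ ⟨h, hh, rfl⟩
    have : h • (s : Set G) = s := mem_stabilizer_iff.1 hh
    rw [← this]
    exact Set.smul_mem_smul_set hx
  have hcardimg : ((fun h : G => h * x) '' (H : Set G)).ncard = k := by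
    rw [Set.ncard_image_of_injective _ (mul_left_injective x), ← Nat.card_coe_set_eq]
    exact hHcard
  have heq : (fun h : G => h * x) '' (H : Set G) = (s : Set G) := by
    apply Set.eq_of_subset_of_ncard_le hsub _ (Set.toFinite _)
    rw [hcardimg, Set.powersetCard.ncard_eq]
  -- K = x⁻¹ H x
  set K := H.map (MulAut.conj x⁻¹).toMonoidHom with hK
  have hKcard : Nat.card K = k := by rw [hK, card_map_conj]; exact hHcard
  refine ⟨⟨K, hKcard⟩, ?_⟩
  apply Subtype.ext
  change Quotient.mk _ (subgroupComb k K hKcard) = ω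
  rw [← Quotient.out_eq ω]
  apply Quotient.sound
  change orbitRel G _ _ _
  rw [orbitRel_apply]
  refine ⟨x⁻¹, ?_⟩
  apply comb_ext
  rw [coe_smul_comb, coe_subgroupComb, ← hs, ← heq]
  ext y
  rw [Set.mem_smul_set_iff_inv_smul_mem, inv_inv, smul_eq_mul, hK]
  simp only [Subgroup.coe_map, MulEquiv.coe_toMonoidHom, MulAut.conj_apply, Set.mem_image, SetLike.mem_coe, inv_inv]
  constructor
  · rintro ⟨h, hh, hxy⟩
    refine ⟨h, hh, ?_⟩
    rw [mul_assoc, hxy]; group
  · rintro ⟨h, hh, hxy⟩
    refine ⟨h, hh, ?_⟩
    rw [← hxy]; group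

theorem wielandt_count (p β m : ℕ) (hp : p.Prime) (hcard : Nat.card G = p ^ β * m) :
    (((p ^ β * m).choose (p ^ β) : ℕ) : ZMod (p * m)) =
      (Nat.card {K : Subgroup G // Nat.card K = p ^ β} : ZMod (p * m)) * (m : ZMod (p * m)) := by
  set k := p ^ β with hk
  have hkpos : 0 < k := pow_pos hp.pos β
  have : Fintype (Quotient (orbitRel G (Set.powersetCard G k))) := Fintype.ofFinite _
  have e := selfEquivSigmaOrbitsQuotientStabilizer G (Set.powersetCard G k)
  have h1 : Nat.card (Set.powersetCard G k) =
      ∑ ω : Quotient (orbitRel G (Set.powersetCard G k)), (stabilizer G ω.out).index := by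
    rw [Nat.card_congr e, Nat.card_sigma]; rfl
  rw [Set.powersetCard.card, hcard] at h1
  have hidx : ∀ ω : Quotient (orbitRel G (Set.powersetCard G k)),
      (Nat.card (stabilizer G ω.out) = k ∧ (stabilizer G ω.out).index = m) ∨
      (Nat.card (stabilizer G ω.out) ≠ k ∧ p * m ∣ (stabilizer G ω.out).index) := by
    intro ω
    apply wielandt_arith p β m _ _ hp (card_stabilizer_comb_dvd k ω.out)
    rw [Subgroup.card_mul_index, hcard]
  have hterm : ∀ ω : Quotient (orbitRel G (Set.powersetCard G k)),
      (((stabilizer G ω.out).index : ℕ) : ZMod (p * m)) =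
        if Nat.card (stabilizer G ω.out) = k then (m : ZMod (p * m)) else 0 := by
    intro ω
    rcases hidx ω with ⟨h, hi⟩ | ⟨h, hi⟩
    · rw [if_pos h, hi]
    · rw [if_neg h]
      exact (ZMod.natCast_eq_zero_iff _ _).2 hi
  rw [h1, Nat.cast_sum]
  rw [Finset.sum_congr rfl (fun ω _ => hterm ω)]
  rw [Finset.sum_ite, Finset.sum_const_zero, add_zero, Finset.sum_const, nsmul_eq_mul]
  congr 1
  rw [← Fintype.card_subtype, ← Nat.card_eq_fintype_card]
  congr 1
  exact (Nat.card_eq_of_bijective _
    ⟨subgroupOrbit_injective (G := G) k, subgroupOrbit_surjective (G := G) k hkpos⟩).symm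

end Main


section Final

/-- In a finite cyclic group, there is exactly one subgroup of each given order dividing. -/
theorem card_subgroups_cyclic {C : Type*} [Group C] [Finite C] [IsCyclic C] (p β : ℕ)
    (hp : p.Prime) (hdiv : p ^ β ∣ Nat.card C) :
    Nat.card {K : Subgroup C // Nat.card K = p ^ β} = 1 := by
  classical
  have : Fintype C := Fintype.ofFinite C
  have hkpos : 0 < p ^ β := pow_pos hp.pos β
  rw [Nat.card_eq_one_iff_unique]
  constructor
  · constructor
    rintro ⟨K, hK⟩ ⟨K', hK'⟩
    apply Subtype.ext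
    -- both equal {x | x ^ k = 1}
    have key : ∀ L : Subgroup C, Nat.card L = p ^ β → (L : Set C) = {x : C | x ^ (p ^ β) = 1} := by
      intro L hL
      have hsub : (L : Set C) ⊆ {x : C | x ^ (p ^ β) = 1} := by
        intro x hx
        have := pow_card_eq_one' (G := L) (x := ⟨x, hx⟩)
        rw [hL] at this
        have h2 := congrArg Subtype.val this
        simpa using h2
      apply Set.eq_of_subset_of_ncard_le hsub _ (Set.toFinite _)
      have h1 := IsCyclic.card_pow_eq_one_le (α := C) hkpos
      have h2 : ({x : C | x ^ (p ^ β) = 1} : Set C).ncard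
          = (Finset.univ.filter (fun a : C => a ^ (p ^ β) = 1)).card := by
        rw [Set.ncard_eq_toFinset_card']
        congr 1
        ext x
        simp
      rw [h2]
      refine le_trans h1 ?_
      rw [← Nat.card_coe_set_eq]
      exact le_of_eq hL.symm
    exact SetLike.coe_injective ((key K hK).trans (key K' hK').symm)
  · have : Fact p.Prime := ⟨hp⟩
    obtain ⟨K, hK⟩ := Sylow.exists_subgroup_card_pow_prime p hdiv
    exact ⟨⟨K, hK⟩⟩

/-- **Frobenius/Wielandt**: the number of subgroups of order `p ^ β` is `≡ 1 mod p`. -/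
theorem card_subgroups_card_pow_prime_modEq_one {G : Type*} [Group G] [Finite G] (p β : ℕ)
    (hp : p.Prime) (hdiv : p ^ β ∣ Nat.card G) :
    Nat.card {H : Subgroup G // Nat.card H = p ^ β} ≡ 1 [MOD p] := by
  classical
  obtain ⟨m, hm⟩ := hdiv
  have hmpos : m ≠ 0 := by
    rintro rfl
    rw [mul_zero] at hm
    exact Nat.card_pos.ne' hm
  have hn : p ^ β * m ≠ 0 := mul_ne_zero (pow_pos hp.pos β).ne' hmpos
  have : NeZero (p ^ β * m) := ⟨hn⟩
  have hC : Nat.card (Multiplicative (ZMod (p ^ β * m))) = p ^ β * m := by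
    rw [Nat.card_eq_fintype_card, Fintype.card_multiplicative, ZMod.card]
  have h1 := wielandt_count (G := G) p β m hp hm
  have h2 := wielandt_count (G := Multiplicative (ZMod (p ^ β * m))) p β m hp hC
  rw [card_subgroups_cyclic p β hp (by rw [hC]; exact dvd_mul_right _ _)] at h2
  rw [h2] at h1
  have h3 : (1 * m : ℕ) ≡ Nat.card {H : Subgroup G // Nat.card H = p ^ β} * m [MOD p * m] := by
    rw [← ZMod.natCast_eq_natCast_iff]
    push_cast
    rw [Nat.cast_one] at h1
    exact h1
  exact (Nat.ModEq.mul_right_cancel' hmpos h3).symm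

end Final

end Cfsg.Agent.Lib.Helper7
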